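import Cfsg.Agent.Lib.Helper47.Basic
import Mathlib.Tactic.Group
import Mathlib.RingTheory.PrincipalIdealDomain
import Mathlib.RingTheory.Int.Basic

set_option autoImplicit false

namespace Cfsg.Agent.Lib.Helper47

open Cfsg
open scoped commutatorElement

/-- If `P / C` is elementary abelian (`C` contains all commutators and all `p`-th powers), then
`Φ(P) ≤ C`. -/
theorem frattini_le_of_elementary_abelian_quotient {P : Type*} [Group P] [Finite P] (p : ℕ)
    [hp : Fact p.Prime] (C : Subgroup P) (hcomm : ∀ x y : P, ⁅x, y⁆ ∈ C)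
    (hpow : ∀ x : P, x ^ p ∈ C) : frattini P ≤ C := by
  intro z hzΦ
  by_contra hz
  obtain ⟨B, hCB, hBmax⟩ := Finite.exists_le_maximal (p := fun B : Subgroup P => C ≤ B ∧ z ∉ B)
    (a := C) ⟨le_rfl, hz⟩
  have hBz : z ∉ B := hBmax.1.2
  haveI hBn : B.Normal := by
    constructor
    intro b hb g
    have : g * b * g⁻¹ = ⁅g, b⁆ * b := by
      simp only [commutatorElement_def]; group
    rw [this]
    exact mul_mem (hCB (hcomm g b)) hb
  have hpint : Prime (p : ℤ) := Nat.prime_iff_prime_int.mp hp.out
  have claim : ∀ x : P, x ∈ B ⊔ Subgroup.zpowers z := by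
    intro x
    by_cases hx : x ∈ B
    · exact Subgroup.mem_sup_left hx
    · have hzx : z ∈ B ⊔ Subgroup.zpowers x := by
        by_contra hz'
        have h1 : B ⊔ Subgroup.zpowers x ≤ B :=
          hBmax.2 ⟨hCB.trans le_sup_left, hz'⟩ le_sup_left
        exact hx (h1 (Subgroup.mem_sup_right (Subgroup.mem_zpowers x)))
      have hzx' : z ∈ ((B ⊔ Subgroup.zpowers x : Subgroup P) : Set P) := hzx
      rw [Subgroup.normal_mul] at hzx'
      obtain ⟨b, hb, y, hy, hby⟩ := hzx'
      obtain ⟨k, hk⟩ := Subgroup.mem_zpowers_iff.mp hy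
      by_cases hpk : (p : ℤ) ∣ k
      · exfalso
        obtain ⟨j, rfl⟩ := hpk
        have : y ∈ B := by
          rw [← hk, zpow_mul, zpow_natCast]
          exact zpow_mem (hCB (hpow x)) j
        apply hBz
        rw [← hby]; exact mul_mem hb this
      · have hcop : IsCoprime (p : ℤ) k := hpint.coprime_iff_not_dvd.mpr hpk
        obtain ⟨u, v, huv⟩ := hcop
        have hx1 : x = (x ^ p) ^ u * (x ^ k) ^ v := by
          have : x = x ^ (u * (p : ℤ) + v * k) := by rw [huv, zpow_one]
          rw [zpow_add, mul_comm u, mul_comm v, zpow_mul, zpow_mul, zpow_natCast] at this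
          exact this
        have hxk : x ^ k = b⁻¹ * z := by
          rw [hk, ← hby]; group
        rw [hx1, hxk]
        apply mul_mem
        · exact Subgroup.mem_sup_left (zpow_mem (hCB (hpow x)) u)
        · apply zpow_mem
          exact mul_mem (Subgroup.mem_sup_left (inv_mem hb))
            (Subgroup.mem_sup_right (Subgroup.mem_zpowers z))
  have htop : B ⊔ frattini P = ⊤ := by
    rw [eq_top_iff]
    intro x _
    have h1 : B ⊔ Subgroup.zpowers z ≤ B ⊔ frattini P :=
      sup_le_sup_left ((Subgroup.zpowers_le).mpr hzΦ) B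
    exact h1 (claim x)
  have hB : B = ⊤ := frattini_nongenerating htop
  apply hBz
  rw [hB]; trivial

end Cfsg.Agent.Lib.Helper47
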