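import Cfsg.Agent.Lib.Helper32.Transitivity2
import Cfsg.Agent.Lib.Helper24.BGStmt
import Cfsg.Agent.Lib.Helper23.LargeFitC
import Cfsg.Agent.Lib.Helper56.BG10a
import Cfsg.Agent.S1396
import Cfsg.Agent.Lib.Helper24.BG121
import Cfsg.Agent.Lib.Helper32.NarrowCube
import Cfsg.Agent.Lib.Helper63.BG10
import Cfsg.Agent.Lib.Helper23.FitUniqueB

set_option autoImplicit false
set_option linter.style.haveILetI false
set_option linter.unusedSectionVars false

/-!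
# Bender–Glauberman §11 (exceptional maximal subgroups), part A: Lemma 11.1, Corollary 11.2

`Exc M p A₀ A`: `M` is a maximal subgroup, `p ∉ σ(M)`, `A ≤ M` is elementary abelian of order `p²`
and maximal among elementary abelian `p`-subgroups of `G`, `A₀ ≤ A` has order `p` and
`N_G(A₀) ≤ M`.
-/

namespace Cfsg.Agent.Lib.Helper47.BG11

open Subgroup Cfsg Cfsg.Agent.Lib.Helper33 Cfsg.Agent.Lib.Helper24 Cfsg.Agent.Lib.Helper32
open Cfsg.Agent.Lib.Helper24.BG Cfsg.Agent.Lib.Helper23 Cfsg.Agent.Lib.Helper63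

universe u

variable {G : Type u} [Group G] [Finite G]

/-- The data of an exceptional maximal subgroup (B&G Hypothesis 11.1), with the conclusion of
B&G Lemma 10.5 (`A` is a maximal elementary abelian `p`-subgroup of `G`) included. -/
structure Exc (M : Subgroup G) (p : ℕ) (A₀ A : Subgroup G) : Prop where
  coatom : IsCoatom M
  notSigma : p ∉ sigma M
  le : A ≤ M
  elem : IsElementaryAbelian p A
  card : Nat.card A = p ^ 2
  le₀ : A₀ ≤ A
  card₀ : Nat.card A₀ = p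
  norm : normalizer (A₀ : Set G) ≤ M
  maxA : ∀ B : Subgroup G, IsElementaryAbelian p B → A ≤ B → B = A

/-- a Sylow `q`-subgroup `Q` of `M` with `q ∈ σ(M)` has `N_G(Q) ≤ M` -/
theorem normalizer_le_of_sigma {M Q : Subgroup G} {q : ℕ} [Fact q.Prime] (hq : q ∈ sigma M)
    (hQM : Q ≤ M) (hQ : IsPGroup q Q) (hQi : ¬ q ∣ Q.relIndex M) :
    normalizer (Q : Set G) ≤ M := by
  obtain ⟨-, -, P₀, hP₀⟩ := hq
  obtain ⟨hUK, hUp, hUi⟩ := sylow_map_facts M P₀
  obtain ⟨P, hP⟩ := exists_sylow_map_eq M Q hQM hQ hQi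
  have hcard : Nat.card Q = Nat.card ((P₀ : Subgroup M).map M.subtype) := by
    rw [← hP, card_map_of_injective M.subtype_injective, card_map_of_injective M.subtype_injective,
      Sylow.card_eq_multiplicity, Sylow.card_eq_multiplicity]
  obtain ⟨k, hk, hkV⟩ := sylow_cj_of_facts M _ Q hUK hUp hUi hQM hQ hcard
  rw [hkV, normalizer_cj]
  intro x hx
  obtain ⟨y, hy, rfl⟩ := mem_cj'.mp hx
  exact M.mul_mem (M.mul_mem hk (hP₀ hy)) (M.inv_mem hk)

/-- a Sylow `q`-subgroup of `M` with `q ∈ σ(M)` is a Sylow `q`-subgroup of `G` -/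
theorem not_dvd_index_of_sigma {M Q : Subgroup G} {q : ℕ} [Fact q.Prime] (hq : q ∈ sigma M)
    (hQM : Q ≤ M) (hQ : IsPGroup q Q) (hQi : ¬ q ∣ Q.relIndex M) : ¬ q ∣ Q.index :=
  not_dvd_index_of_normalizer_le hQM hQ hQi (normalizer_le_of_sigma hq hQM hQ hQi)

/-- an `A`-invariant Sylow `q`-subgroup of `G` is a maximal `A`-invariant `q`-subgroup -/
theorem mem_maxInv_of_sylow {A Q : Subgroup G} {q : ℕ} [Fact q.Prime] (hQ : IsPGroup q Q)
    (hQi : ¬ q ∣ Q.index) (hAQ : A ≤ normalizer (Q : Set G)) :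
    Q ∈ maxInvSubgroups ⊤ A {q} := by
  have hq : q.Prime := Fact.out
  refine ⟨mem_invSubgroups_of_isPGroup hq hQ hAQ, ?_⟩
  intro R hR hQR
  have hRq : IsPGroup q R := isPGroup_of_mem_invSubgroups hq hR
  have h1 : Nat.card Q ∣ Nat.card R := Subgroup.card_dvd_of_le hQR
  -- `|R|` divides `|G|` and is a power of `q`; `|Q|` is the full `q`-part
  obtain ⟨n, hn⟩ := IsPGroup.iff_card.mp hRq
  obtain ⟨m, hm⟩ := IsPGroup.iff_card.mp hQ
  have hmn : m ≤ n := by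
    rw [hn, hm] at h1
    exact (Nat.pow_dvd_pow_iff_le_right hq.one_lt).mp h1
  have hnm : n ≤ m := by
    by_contra hlt
    push Not at hlt
    apply hQi
    -- `q^(m+1) ∣ |R| ∣ |G| = |Q| * index`
    have h2 : q ^ (m + 1) ∣ Nat.card G := by
      refine dvd_trans ?_ (Subgroup.card_subgroup_dvd_card R)
      rw [hn]
      exact pow_dvd_pow q hlt
    rw [← Subgroup.card_mul_index Q, hm, pow_succ] at h2
    exact (Nat.mul_dvd_mul_iff_left (pow_pos hq.pos m)).mp h2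
  have hcard : Nat.card R = Nat.card Q := by rw [hn, hm, le_antisymm hnm hmn]
  exact (eq_of_le_of_card_ge hQR hcard.le).symm

/-- adjoining a commuting element of order dividing `p` to an elementary abelian `p`-group -/
theorem elemAb_sup_zpowers {p : ℕ} {A : Subgroup G} (hA : IsElementaryAbelian p A) {x : G}
    (hx : x ∈ centralizer (A : Set G)) (hxp : x ^ p = 1) :
    IsElementaryAbelian p (A ⊔ zpowers x) := by
  have hzc : zpowers x ≤ centralizer (A : Set G) := (zpowers_le).mpr hx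
  have hcomm : ∀ a ∈ A, ∀ b ∈ zpowers x, a * b = b * a := fun a ha b hb =>
    mem_centralizer_iff.mp (hzc hb) a ha
  have hAc : ∀ a ∈ A, ∀ a' ∈ A, a * a' = a' * a := fun a ha a' ha' =>
    congrArg Subtype.val (hA.1.is_comm.comm ⟨a, ha⟩ ⟨a', ha'⟩)
  have hzz : ∀ b ∈ zpowers x, ∀ b' ∈ zpowers x, b * b' = b' * b := by
    intro b hb b' hb'
    obtain ⟨k, rfl⟩ := mem_zpowers_iff.mp hb
    obtain ⟨k', rfl⟩ := mem_zpowers_iff.mp hb'
    rw [← zpow_add, ← zpow_add, add_comm]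
  have hzp : ∀ b ∈ zpowers x, b ^ p = 1 := by
    intro b hb
    obtain ⟨k, rfl⟩ := mem_zpowers_iff.mp hb
    rw [← zpow_natCast, ← zpow_mul, mul_comm, zpow_mul, zpow_natCast, hxp, one_zpow]
  refine ⟨⟨⟨?_⟩⟩, ?_⟩
  · rintro ⟨r, hr⟩ ⟨r', hr'⟩
    apply Subtype.ext
    obtain ⟨a, ha, b, hb, rfl⟩ := Cfsg.Agent.Lib.Helper32.Narrow.exists_mul_of_mem_sup hcomm hr
    obtain ⟨a', ha', b', hb', rfl⟩ := Cfsg.Agent.Lib.Helper32.Narrow.exists_mul_of_mem_sup hcomm hr'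
    show a * b * (a' * b') = a' * b' * (a * b)
    calc a * b * (a' * b') = a * (b * a') * b' := by group
      _ = a * (a' * b) * b' := by rw [hcomm a' ha' b hb]
      _ = (a * a') * (b * b') := by group
      _ = (a' * a) * (b' * b) := by rw [hAc a ha a' ha', hzz b hb b' hb']
      _ = a' * (a * b') * b := by group
      _ = a' * (b' * a) * b := by rw [hcomm a ha b' hb']
      _ = a' * b' * (a * b) := by group
  · intro r hr
    obtain ⟨a, ha, b, hb, rfl⟩ := Cfsg.Agent.Lib.Helper32.Narrow.exists_mul_of_mem_sup hcomm hr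
    have hc : Commute a b := hcomm a ha b hb
    rw [hc.mul_pow, hA.2 a ha, hzp b hb, one_mul]

/-- a maximal elementary abelian `p`-subgroup contains every element of order dividing `p` of its
centralizer -/
theorem mem_of_maximal {p : ℕ} {A : Subgroup G} (hA : IsElementaryAbelian p A)
    (hmax : ∀ B : Subgroup G, IsElementaryAbelian p B → A ≤ B → B = A) {x : G}
    (hx : x ∈ centralizer (A : Set G)) (hxp : x ^ p = 1) : x ∈ A := by
  have h := hmax _ (elemAb_sup_zpowers hA hx hxp) le_sup_left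
  rw [← h]
  exact (le_sup_right : zpowers x ≤ A ⊔ zpowers x) (mem_zpowers x)

namespace Exc

variable {M A₀ A : Subgroup G} {p : ℕ} [hp : Fact p.Prime]

theorem isPGroup (e : Exc M p A₀ A) : IsPGroup p A := BG10.isPGroup_of_elemAb e.elem

theorem comm (e : Exc M p A₀ A) : ∀ a ∈ A, ∀ b ∈ A, a * b = b * a := fun a ha b hb =>
  congrArg Subtype.val (e.elem.1.is_comm.comm ⟨a, ha⟩ ⟨b, hb⟩)

theorem le_cent (e : Exc M p A₀ A) : A ≤ centralizer (A : Set G) := fun a ha =>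
  mem_centralizer_iff.mpr (fun b hb => e.comm b hb a ha)

theorem ne_bot (e : Exc M p A₀ A) : A ≠ ⊥ := by
  intro h
  have h1 := e.card
  rw [h, card_bot] at h1
  have : 1 < p ^ 2 := Nat.one_lt_pow (by norm_num) hp.out.one_lt
  omega

theorem ne_bot₀ (e : Exc M p A₀ A) : A₀ ≠ ⊥ := by
  intro h
  have h1 := e.card₀
  rw [h, card_bot] at h1
  exact hp.out.one_lt.ne h1

/-- `C_G(A) ≤ C_G(A₀) ≤ N_G(A₀) ≤ M` -/
theorem cent_le (e : Exc M p A₀ A) : centralizer (A : Set G) ≤ M :=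
  (Subgroup.centralizer_le e.le₀).trans ((Subgroup.centralizer_le_normalizer _).trans e.norm)

/-- the transitivity hypothesis holds for `A` -/
theorem transHyp (hG : IsMinSimpleOddOrder G) (h10 : Stmt1410 G) (e : Exc M p A₀ A) :
    TransitivityHypothesis A := by
  have hpG : p ∣ Nat.card G := by
    have h1 : Nat.card A ∣ Nat.card G := Subgroup.card_subgroup_dvd_card A
    rw [e.card] at h1
    exact dvd_trans (dvd_pow_self p (by norm_num)) h1
  refine Cfsg.Agent.S1396.result hG p hpG A e.isPGroup e.elem.1 (Or.inl ⟨?_, fun H hH => h10 p H hH⟩)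
  intro x hx
  exact ⟨fun hxp => mem_of_maximal e.elem e.maxA hx hxp, fun hxA => e.elem.2 x hxA⟩

theorem not_dvd_card (e : Exc M p A₀ A) {q : ℕ} (hq : q.Prime) (hqp : q ≠ p) : ¬ q ∣ Nat.card A := by
  rw [e.card]
  intro h
  exact hqp ((Nat.prime_dvd_prime_iff_eq hq hp.out).mp (hq.dvd_of_dvd_pow h))

end Exc

/-- Core of B&G Lemma 11.1. -/
theorem lemma_11_1_core (hG : IsMinSimpleOddOrder G) (h4 : Stmt1404 G) {A M : Subgroup G}
    (hTH : TransitivityHypothesis A) (hM : IsCoatom M) (hCA : centralizer (A : Set G) ≤ M)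
    {q : ℕ} [Fact q.Prime] (hq : q ∈ sigma M) (hqA : ¬ q ∣ Nat.card A) {g : G} (hg : g ∉ M)
    {Q₁ Q₂ : Subgroup G} (hQ₁ : IsPGroup q Q₁) (hQ₁i : ¬ q ∣ Q₁.index) (hQ₁M : Q₁ ≤ M)
    (hAQ₁ : A ≤ normalizer (Q₁ : Set G))
    (hQ₂ : IsPGroup q Q₂) (hQ₂i : ¬ q ∣ Q₂.index) (hQ₂M : Q₂ ≤ cj g M)
    (hAQ₂ : A ≤ normalizer (Q₂ : Set G))
    {H : Subgroup G} (hH : H ≠ ⊤) (hAH : A ≤ H) (h1 : H ⊓ Q₁ ≠ ⊥) (h2 : H ⊓ Q₂ ≠ ⊥) : False := by
  have hqp : q.Prime := Fact.out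
  obtain ⟨k, hk, hkQ⟩ := transitivity_72 hG hTH hqp hqA (mem_maxInv_of_sylow hQ₁ hQ₁i hAQ₁)
    (mem_maxInv_of_sylow hQ₂ hQ₂i hAQ₂) hH hAH h1 h2
  have hkM : k ∈ M := hCA (piCoreOf_le _ _ hk)
  have hQ₂M' : Q₂ ≤ M := by
    rw [hkQ]
    exact Cfsg.Agent.Lib.Helper56.BG10.cj_le_of_mem hkM hQ₁M
  have hQ₂ne : Q₂ ≠ ⊥ := by
    intro h
    apply h2
    rw [h, inf_bot_eq]
  have hQ₂rel : ¬ q ∣ Q₂.relIndex M := fun h =>
    hQ₂i (dvd_trans h (Subgroup.relIndex_dvd_index_of_le hQ₂M'))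
  have hN : normalizer (Q₂ : Set G) ≤ M := normalizer_le_of_sigma hq hQ₂M' hQ₂ hQ₂rel
  have hconj : Q₂.map (MulAut.conj g⁻¹).toMonoidHom ≤ M := by
    have : cj g⁻¹ Q₂ ≤ M := by
      rw [cj_le_iff, inv_inv]
      exact hQ₂M
    exact this
  obtain ⟨m, hm, c, hc, hgmc⟩ := (h4 M hM q hq Q₂ hQ₂ hQ₂ne hQ₂M').1 g⁻¹ hconj
  have hcM : c ∈ M := hN (centralizer_le_normalizer _ hc)
  have : g⁻¹ ∈ M := hgmc ▸ M.mul_mem hm hcM
  exact hg (by simpa using M.inv_mem this)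

/-- **B&G Lemma 11.1 (b).** -/
theorem lemma_11_1_b (hG : IsMinSimpleOddOrder G) (h4 : Stmt1404 G) {A M : Subgroup G}
    (hTH : TransitivityHypothesis A) (hAc : A ≤ centralizer (A : Set G))
    (hM : IsCoatom M) (hCA : centralizer (A : Set G) ≤ M)
    {q : ℕ} [Fact q.Prime] (hq : q ∈ sigma M) (hqA : ¬ q ∣ Nat.card A) {g : G} (hg : g ∉ M)
    {Q₁ Q₂ : Subgroup G} (hQ₁ : IsPGroup q Q₁) (hQ₁i : ¬ q ∣ Q₁.index) (hQ₁M : Q₁ ≤ M)
    (hAQ₁ : A ≤ normalizer (Q₁ : Set G))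
    (hQ₂ : IsPGroup q Q₂) (hQ₂i : ¬ q ∣ Q₂.index) (hQ₂M : Q₂ ≤ cj g M)
    (hAQ₂ : A ≤ normalizer (Q₂ : Set G)) {X : Subgroup G} (hXA : X ≤ A) (hX : X ≠ ⊥) :
    Q₁ ⊓ centralizer (X : Set G) = ⊥ ∨ Q₂ ⊓ centralizer (X : Set G) = ⊥ := by
  by_contra hcon
  push Not at hcon
  refine lemma_11_1_core hG h4 hTH hM hCA hq hqA hg hQ₁ hQ₁i hQ₁M hAQ₁ hQ₂ hQ₂i hQ₂M hAQ₂
    (BG10.centralizer_ne_top hG hX) (hAc.trans (centralizer_le hXA)) ?_ ?_
  · rw [inf_comm]; exact hcon.1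
  · rw [inf_comm]; exact hcon.2

/-- **B&G Lemma 11.1 (a).** -/
theorem lemma_11_1_a (hG : IsMinSimpleOddOrder G) (h4 : Stmt1404 G) {A M : Subgroup G}
    (hTH : TransitivityHypothesis A)
    (hM : IsCoatom M) (hCA : centralizer (A : Set G) ≤ M)
    {q : ℕ} [Fact q.Prime] (hq : q ∈ sigma M) (hqA : ¬ q ∣ Nat.card A) {g : G} (hg : g ∉ M)
    {Q₁ Q₂ : Subgroup G} (hQ₁ : IsPGroup q Q₁) (hQ₁i : ¬ q ∣ Q₁.index) (hQ₁M : Q₁ ≤ M)
    (hAQ₁ : A ≤ normalizer (Q₁ : Set G))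
    (hQ₂ : IsPGroup q Q₂) (hQ₂i : ¬ q ∣ Q₂.index) (hQ₂M : Q₂ ≤ cj g M)
    (hAQ₂ : A ≤ normalizer (Q₂ : Set G)) : Q₁ ⊓ Q₂ = ⊥ := by
  by_contra hne
  have htop : Q₁ ⊓ Q₂ ≠ ⊤ := by
    intro h
    have h1 : Q₁ = ⊤ := top_le_iff.mp (h ▸ inf_le_left)
    exact hM.1 (top_le_iff.mp (h1 ▸ hQ₁M))
  have hAN : A ≤ normalizer ((Q₁ ⊓ Q₂ : Subgroup G) : Set G) := by
    intro a ha
    have h1 := hAQ₁ ha
    have h2 := hAQ₂ ha
    rw [mem_normalizer_iff] at h1 h2 ⊢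
    intro x
    rw [mem_inf, mem_inf, h1 x, h2 x]
  refine lemma_11_1_core hG h4 hTH hM hCA hq hqA hg hQ₁ hQ₁i hQ₁M hAQ₁ hQ₂ hQ₂i hQ₂M hAQ₂
    (BG10.normalizer_ne_top hG hne htop) hAN ?_ ?_
  · intro h
    apply hne
    rw [eq_bot_iff, ← h]
    exact le_inf le_normalizer inf_le_left
  · intro h
    apply hne
    rw [eq_bot_iff, ← h]
    exact le_inf le_normalizer inf_le_right

/-- an element of prime power order `q^k` lies in every normal subgroup of index prime to `q` -/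
theorem mem_of_not_dvd_index {K : Type*} [Group K] [Finite K] (N : Subgroup K) [N.Normal]
    {q : ℕ} [Fact q.Prime] (h : ¬ q ∣ N.index) {x : K} (hx : ∃ k : ℕ, orderOf x = q ^ k) :
    x ∈ N := by
  have hq : q.Prime := Fact.out
  obtain ⟨k, hk⟩ := hx
  have h1 : orderOf (QuotientGroup.mk' N x) ∣ q ^ k := hk ▸ orderOf_map_dvd _ x
  have h2 : orderOf (QuotientGroup.mk' N x) ∣ N.index := by
    rw [Subgroup.index_eq_card]
    exact orderOf_dvd_natCard _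
  have hcop : (q ^ k).Coprime N.index :=
    Nat.Coprime.pow_left k ((Nat.Prime.coprime_iff_not_dvd hq).mpr h)
  have h3 : orderOf (QuotientGroup.mk' N x) = 1 :=
    Nat.eq_one_of_dvd_coprimes hcop h1 h2
  rw [orderOf_eq_one_iff] at h3
  exact (QuotientGroup.eq_one_iff x).mp h3

/-- the Hall property of `M_σ` in `M` (first part of the statement of S1350) -/
def SigmaHallIn (M : Subgroup G) : Prop := IsPiHallOf (sigma M) (sigmaCore M) M

theorem not_dvd_index_piCore_sigma {M : Subgroup G} (hσ : SigmaHallIn M) {q : ℕ}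
    (hq : q.Prime) (hqσ : q ∈ sigma M) : ¬ q ∣ (piCore (sigma M) ↥M).index := by
  have h := hσ.2.2 q hq hqσ
  have : (sigmaCore M).subgroupOf M = piCore (sigma M) ↥M := by
    rw [sigmaCore, subgroupOf, comap_map_eq_self_of_injective M.subtype_injective]
  rwa [relIndex, this] at h

/-- for `q ∈ σ(M)` every `q`-subgroup of `M` lies in `M_σ` -/
theorem le_sigmaCore_of_sigma {M X : Subgroup G} (hσ : SigmaHallIn M) {q : ℕ} [Fact q.Prime]
    (hq : q ∈ sigma M) (hXM : X ≤ M) (hX : IsPGroup q X) : X ≤ sigmaCore M := by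
  intro x hx
  have hxo : ∃ k : ℕ, orderOf (⟨x, hXM hx⟩ : ↥M) = q ^ k := by
    obtain ⟨k, hk⟩ := (IsPGroup.iff_orderOf.mp hX) ⟨x, hx⟩
    refine ⟨k, ?_⟩
    rw [← hk, ← Subgroup.orderOf_coe, ← Subgroup.orderOf_coe]
  have := mem_of_not_dvd_index (piCore (sigma M) ↥M)
    (not_dvd_index_piCore_sigma hσ Fact.out hq) hxo
  exact ⟨⟨x, hXM hx⟩, this, rfl⟩

theorem sigmaCore_le (M : Subgroup G) : sigmaCore M ≤ M := map_subtype_le _

/-- primes dividing the order of a subgroup of `M_σ` lie in `σ(M)` -/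
theorem mem_sigma_of_dvd_card_le {M D : Subgroup G} (hD : D ≤ sigmaCore M) {q : ℕ}
    (hq : q.Prime) (hd : q ∣ Nat.card D) : q ∈ sigma M :=
  mem_sigma_of_dvd_card_sigmaCore M hq (dvd_trans hd (Subgroup.card_dvd_of_le hD))

theorem le_normalizer_inf {A H K : Subgroup G} (h1 : A ≤ normalizer (H : Set G))
    (h2 : A ≤ normalizer (K : Set G)) : A ≤ normalizer ((H ⊓ K : Subgroup G) : Set G) := by
  intro a ha
  have h1 := h1 ha
  have h2 := h2 ha
  rw [mem_normalizer_iff] at h1 h2 ⊢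
  intro x
  rw [mem_inf, mem_inf, h1 x, h2 x]

/-- a Sylow `q`-subgroup of `M_σ` (`q ∈ σ(M)`) is a Sylow `q`-subgroup of `G` -/
theorem sylow_sigmaCore_facts {M : Subgroup G} (hσ : SigmaHallIn M) {q : ℕ} [Fact q.Prime]
    (hq : q ∈ sigma M) (P : Sylow q ↥(sigmaCore M)) :
    IsPGroup q ((P : Subgroup ↥(sigmaCore M)).map (sigmaCore M).subtype) ∧
      (P : Subgroup ↥(sigmaCore M)).map (sigmaCore M).subtype ≤ sigmaCore M ∧
      ¬ q ∣ ((P : Subgroup ↥(sigmaCore M)).map (sigmaCore M).subtype).index := by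
  obtain ⟨h1, h2, h3⟩ := sylow_map_facts (sigmaCore M) P
  refine ⟨h2, h1, ?_⟩
  have hrel : ¬ q ∣ ((P : Subgroup ↥(sigmaCore M)).map (sigmaCore M).subtype).relIndex M := by
    rw [← Subgroup.relIndex_mul_relIndex _ _ _ h1 (sigmaCore_le M)]
    intro h
    rcases (Nat.Prime.dvd_mul Fact.out).mp h with h | h
    · exact h3 h
    · exact hσ.2.2 q Fact.out hq h
  exact not_dvd_index_of_sigma hq (h1.trans (sigmaCore_le M)) h2 hrel

namespace Exc

variable {M A₀ A : Subgroup G} {p : ℕ} [hp : Fact p.Prime]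

theorem coprime_card (e : Exc M p A₀ A) {D : Subgroup G} (hD : D ≤ sigmaCore M) :
    (Nat.card A).Coprime (Nat.card D) := by
  rw [e.card]
  refine Nat.Coprime.pow_left 2 ((Nat.Prime.coprime_iff_not_dvd hp.out).mpr ?_)
  intro h
  exact e.notSigma (mem_sigma_of_dvd_card_le hD hp.out h)

theorem solvable (hG : IsMinSimpleOddOrder G) (e : Exc M p A₀ A) : Group.IsSolvable ↥A :=
  isSolvable_of_ne_top hG (fun h => e.coatom.1 (top_le_iff.mp (h ▸ e.le)))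

theorem le_normalizer_sigmaCore (e : Exc M p A₀ A) :
    A ≤ normalizer ((sigmaCore M : Subgroup G) : Set G) :=
  e.le.trans (BG.le_normalizer_sigmaCore M)

/-- **B&G Corollary 11.2 (a).** -/
theorem cor_11_2_a (hG : IsMinSimpleOddOrder G) (h4 : Stmt1404 G) (h10 : Stmt1410 G)
    (hσ : SigmaHallIn M) (e : Exc M p A₀ A) {g : G} (hg : g ∉ M) (hAg : A ≤ cj g M) :
    sigmaCore M ⊓ cj g M = ⊥ := by
  by_contra hne
  set D := sigmaCore M ⊓ cj g M with hD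
  have hDσ : D ≤ sigmaCore M := inf_le_left
  have hDg : D ≤ cj g M := inf_le_right
  have hcard : Nat.card D ≠ 1 := fun h => hne (Subgroup.card_eq_one.mp h)
  obtain ⟨q, hq, hqD⟩ := Nat.exists_prime_and_dvd hcard
  haveI : Fact q.Prime := ⟨hq⟩
  have hqσ : q ∈ sigma M := mem_sigma_of_dvd_card_le hDσ hq hqD
  have hqp : q ≠ p := fun h => e.notSigma (h ▸ hqσ)
  have hAgn : A ≤ normalizer ((cj g M : Subgroup G) : Set G) := hAg.trans le_normalizer
  have hAD : A ≤ normalizer (D : Set G) := le_normalizer_inf e.le_normalizer_sigmaCore hAgn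
  haveI := e.solvable hG
  obtain ⟨P, hP⟩ := exists_invariant_sylow (p := q) A D hAD (e.coprime_card hDσ) (Or.inl inferInstance)
  set Dq := (P : Subgroup ↥D).map D.subtype with hDq
  obtain ⟨hDqD, hDqp, -⟩ := sylow_map_facts D P
  have hDqne : Dq ≠ ⊥ := by
    intro h
    have h1 : (P : Subgroup ↥D) = ⊥ := by
      rw [hDq] at h
      exact (Subgroup.map_eq_bot_iff_of_injective _ D.subtype_injective).mp h
    exact P.ne_bot_of_dvd_card hqD h1
  -- `Q₁`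
  obtain ⟨P₁, hP₁le, hP₁A⟩ := invariant_pSubgroup_le_sylow (p := q) A (sigmaCore M)
    e.le_normalizer_sigmaCore (e.coprime_card le_rfl) (Or.inl inferInstance) Dq (hDqD.trans hDσ)
    hDqp hP
  obtain ⟨hQ₁p, hQ₁σ, hQ₁i⟩ := sylow_sigmaCore_facts hσ hqσ P₁
  -- `Q₂`
  set A' := cj g⁻¹ A with hA'
  have hA'M : A' ≤ M := by
    rw [hA', cj_le_iff, inv_inv]; exact hAg
  have hDq'M : cj g⁻¹ Dq ≤ M := by
    rw [cj_le_iff, inv_inv]; exact hDqD.trans hDg
  have hDq'σ : cj g⁻¹ Dq ≤ sigmaCore M :=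
    le_sigmaCore_of_sigma hσ hqσ hDq'M (isPGroup_cj hDqp)
  have hA'n : A' ≤ normalizer ((cj g⁻¹ Dq : Subgroup G) : Set G) := by
    rw [normalizer_cj]; exact cj_mono hP
  have hA'σ : A' ≤ normalizer ((sigmaCore M : Subgroup G) : Set G) :=
    hA'M.trans (BG.le_normalizer_sigmaCore M)
  have hcop' : (Nat.card A').Coprime (Nat.card (sigmaCore M)) := by
    rw [hA', card_cj]; exact e.coprime_card le_rfl
  haveI : Group.IsSolvable ↥A' :=
    isSolvable_of_ne_top hG (fun h => e.coatom.1 (top_le_iff.mp (h ▸ hA'M)))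
  obtain ⟨P₂, hP₂le, hP₂A⟩ := invariant_pSubgroup_le_sylow (p := q) A' (sigmaCore M)
    hA'σ hcop' (Or.inl inferInstance) (cj g⁻¹ Dq) hDq'σ (isPGroup_cj hDqp) hA'n
  obtain ⟨hQ₂p, hQ₂σ, hQ₂i⟩ := sylow_sigmaCore_facts hσ hqσ P₂
  set Q₂' := (P₂ : Subgroup ↥(sigmaCore M)).map (sigmaCore M).subtype with hQ₂'
  have hAeq : A = cj g A' := by rw [hA', cj_cj_inv]
  have hAQ₂ : A ≤ normalizer ((cj g Q₂' : Subgroup G) : Set G) := by
    rw [normalizer_cj]
    calc A = cj g A' := hAeq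
      _ ≤ cj g (normalizer (Q₂' : Set G)) := cj_mono hP₂A
  have hDqQ₂ : Dq ≤ cj g Q₂' := by
    rw [le_cj_iff]; exact hP₂le
  have hQ₂M : cj g Q₂' ≤ cj g M := cj_mono (hQ₂σ.trans (sigmaCore_le M))
  have hQ₂i' : ¬ q ∣ (cj g Q₂').index := by rw [index_cj]; exact hQ₂i
  have h := lemma_11_1_a hG h4 (e.transHyp hG h10) e.coatom e.cent_le hqσ (e.not_dvd_card hq hqp) hg
    hQ₁p hQ₁i (hQ₁σ.trans (sigmaCore_le M)) hP₁A (isPGroup_cj hQ₂p) hQ₂i' hQ₂M hAQ₂
  apply hDqne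
  rw [eq_bot_iff, ← h]
  exact le_inf hP₁le hDqQ₂

/-- **B&G Corollary 11.2 (b).** -/
theorem cor_11_2_b (hG : IsMinSimpleOddOrder G) (h4 : Stmt1404 G) (h10 : Stmt1410 G)
    (hσ : SigmaHallIn M) (e : Exc M p A₀ A) {g : G} (hg : g ∉ M) (hAg : A ≤ cj g M) :
    sigmaCore M ⊓ centralizer ((cj g A₀ : Subgroup G) : Set G) = ⊥ := by
  rw [eq_bot_iff, ← e.cor_11_2_a hG h4 h10 hσ hg hAg]
  refine le_inf inf_le_left (inf_le_right.trans ?_)
  refine (centralizer_le_normalizer _).trans ?_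
  rw [normalizer_cj]
  exact cj_mono e.norm

end Exc

end Cfsg.Agent.Lib.Helper47.BG11
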