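import Cfsg.Agent.Lib.Helper47.Basic
import Mathlib.Tactic.Group

set_option autoImplicit false

namespace Cfsg.Agent.Lib.Helper47

open Cfsg
open scoped commutatorElement

variable {G : Type*} [Group G]

/-- conjugation by an element of the normalizer, as an automorphism of the subgroup -/
def conjEquiv (P : Subgroup G) (h : G) (hh : h ∈ Subgroup.normalizer (P : Set G)) : ↥P ≃* ↥P where
  toFun g := ⟨h * g * h⁻¹, (Subgroup.mem_normalizer_iff.mp hh g).mp g.2⟩
  invFun g := ⟨h⁻¹ * g * h⁻¹⁻¹, (Subgroup.mem_normalizer_iff.mp (inv_mem hh) g).mp g.2⟩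
  left_inv g := by
    apply Subtype.ext
    simp only
    group
  right_inv g := by
    apply Subtype.ext
    simp only
    group
  map_mul' a b := by
    apply Subtype.ext
    simp only [Subgroup.coe_mul]
    group

@[simp] theorem conjEquiv_coe (P : Subgroup G) (h : G) (hh : h ∈ Subgroup.normalizer (P : Set G))
    (g : ↥P) : ((conjEquiv P h hh g : ↥P) : G) = h * g * h⁻¹ := rfl

/-- the image in `G` of a characteristic subgroup of `P` is normalized by `N_G(P)` -/
theorem normalizer_le_normalizer_map_characteristic (P : Subgroup G) (K : Subgroup ↥P)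
    [hK : K.Characteristic] :
    Subgroup.normalizer (P : Set G) ≤ Subgroup.normalizer ((K.map P.subtype : Subgroup G) : Set G) := by
  rw [Subgroup.le_normalizer_iff]
  intro h hh a ha
  obtain ⟨x, hx, rfl⟩ := ha
  have h1 : K.map (conjEquiv P h hh).toMonoidHom = K :=
    (Subgroup.characteristic_iff_map_eq.mp hK) (conjEquiv P h hh)
  have h2 : conjEquiv P h hh x ∈ K := by
    rw [← h1]
    exact Subgroup.mem_map_of_mem _ hx
  exact ⟨conjEquiv P h hh x, h2, rfl⟩

/-- elements `l` normalizing `W` with `[V, l] ⊆ W` -/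
def commStab (V W : Subgroup G) : Subgroup G where
  carrier := {l | l ∈ Subgroup.normalizer (W : Set G) ∧ ∀ v ∈ V, ⁅v, l⁆ ∈ W}
  one_mem' := by
    refine ⟨one_mem _, ?_⟩
    intro v _
    simp [commutatorElement_def]
  mul_mem' := by
    rintro l l' ⟨hl, hl2⟩ ⟨hl', hl2'⟩
    refine ⟨mul_mem hl hl', ?_⟩
    intro v hv
    have : ⁅v, l * l'⁆ = ⁅v, l⁆ * (l * ⁅v, l'⁆ * l⁻¹) := by
      simp only [commutatorElement_def]; group
    rw [this]
    exact mul_mem (hl2 v hv) ((Subgroup.mem_normalizer_iff.mp hl _).mp (hl2' v hv))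
  inv_mem' := by
    rintro l ⟨hl, hl2⟩
    refine ⟨inv_mem hl, ?_⟩
    intro v hv
    have : ⁅v, l⁻¹⁆ = l⁻¹ * (⁅v, l⁆)⁻¹ * l⁻¹⁻¹ := by
      simp only [commutatorElement_def]; group
    rw [this]
    exact (Subgroup.mem_normalizer_iff.mp (inv_mem hl) _).mp (inv_mem (hl2 v hv))

theorem mem_commStab {V W : Subgroup G} {l : G} :
    l ∈ commStab V W ↔ l ∈ Subgroup.normalizer (W : Set G) ∧ ∀ v ∈ V, ⁅v, l⁆ ∈ W := Iff.rfl

theorem commutator_le_of_le_commStab {V W L : Subgroup G} (h : L ≤ commStab V W) : ⁅V, L⁆ ≤ W := by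
  rw [Subgroup.commutator_le]
  intro v hv l hl
  exact (h hl).2 v hv

/-- `commStab V W` is normalized by everything normalizing both `V` and `W` -/
theorem conj_mem_commStab {V W : Subgroup G} {h l : G}
    (hV : h ∈ Subgroup.normalizer (V : Set G)) (hW : h ∈ Subgroup.normalizer (W : Set G))
    (hl : l ∈ commStab V W) : h * l * h⁻¹ ∈ commStab V W := by
  refine ⟨mul_mem (mul_mem hW hl.1) (inv_mem hW), ?_⟩
  intro v hv
  have : ⁅v, h * l * h⁻¹⁆ = h * ⁅h⁻¹ * v * h⁻¹⁻¹, l⁆ * h⁻¹ := by
    simp only [commutatorElement_def]; group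
  rw [this]
  have hv' : h⁻¹ * v * h⁻¹⁻¹ ∈ V := (Subgroup.mem_normalizer_iff.mp (inv_mem hV) v).mp hv
  exact (Subgroup.mem_normalizer_iff.mp hW _).mp (hl.2 _ hv')

/-- the normal closure of `Y` in `H` lies in `commStab V W` if `Y` does and `H` normalizes `V`, `W` -/
theorem normalClosure_le_commStab {V W H Y : Subgroup G}
    (hV : H ≤ Subgroup.normalizer (V : Set G)) (hW : H ≤ Subgroup.normalizer (W : Set G))
    (hY : Y ≤ commStab V W) :
    (Subgroup.normalClosure ((Y.subgroupOf H : Subgroup ↥H) : Set ↥H)).map H.subtype ≤ commStab V W := by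
  rw [Subgroup.map_le_iff_le_comap]
  haveI : ((commStab V W).comap H.subtype).Normal := by
    constructor
    intro n hn g
    rw [Subgroup.mem_comap] at hn ⊢
    simp only [Subgroup.coe_subtype, Subgroup.coe_mul, Subgroup.coe_inv]
    exact conj_mem_commStab (hV g.2) (hW g.2) hn
  apply Subgroup.normalClosure_le_normal
  intro y hy
  rw [SetLike.mem_coe, Subgroup.mem_subgroupOf] at hy
  exact hY hy

end Cfsg.Agent.Lib.Helper47
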