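import Cfsg.Agent.Lib.Helper47.WC

set_option autoImplicit false

namespace Cfsg.Agent.Lib.Helper47

open Cfsg
open scoped commutatorElement Pointwise

variable {G : Type*} [Group G]

theorem normalizer_le_normalizer_centralizer (R : Subgroup G) :
    Subgroup.normalizer (R : Set G) ≤
      Subgroup.normalizer ((Subgroup.centralizer (R : Set G) : Subgroup G) : Set G) := by
  intro n hn
  rw [← map_conj_eq_iff_mem_normalizer] at hn ⊢
  rw [← centralizer_map_conj, hn]

theorem normalizer_le_normalizer_center (R : Subgroup G) :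
    Subgroup.normalizer (R : Set G) ≤
      Subgroup.normalizer ((R ⊓ Subgroup.centralizer (R : Set G) : Subgroup G) : Set G) := by
  intro n hn
  have h2 := normalizer_le_normalizer_centralizer R hn
  rw [Subgroup.mem_normalizer_iff] at hn h2 ⊢
  intro x
  constructor
  · rintro ⟨hx1, hx2⟩
    exact ⟨(hn x).mp hx1, (h2 x).mp hx2⟩
  · rintro ⟨hx1, hx2⟩
    exact ⟨(hn x).mpr hx1, (h2 x).mpr hx2⟩

theorem pgroup_center_ne_bot [Finite G] {p : ℕ} [Fact p.Prime] {R : Subgroup G}
    (hR : IsPGroup p ↥R) (hne : R ≠ ⊥) : R ⊓ Subgroup.centralizer (R : Set G) ≠ ⊥ := by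
  haveI : Nontrivial ↥R := (Subgroup.nontrivial_iff_ne_bot R).mpr hne
  have h1 : Nontrivial ↥(Subgroup.center ↥R) := hR.center_nontrivial
  obtain ⟨⟨z, hz⟩, hz1⟩ := exists_ne (1 : ↥(Subgroup.center ↥R))
  intro hbot
  apply hz1
  apply Subtype.ext
  apply Subtype.ext
  have hmem : (z : G) ∈ R ⊓ Subgroup.centralizer (R : Set G) := by
    refine ⟨z.2, ?_⟩
    show (z : G) ∈ Subgroup.centralizer (R : Set G)
    rw [Subgroup.mem_centralizer_iff]
    intro y hy
    have := Subgroup.mem_center_iff.mp hz ⟨y, hy⟩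
    exact congrArg Subtype.val this
  rw [hbot, Subgroup.mem_bot] at hmem
  simpa using hmem

section Large

variable [Finite G] {p : ℕ} [Fact p.Prime]

/-- for a large subgroup `Q` and a `p`-subgroup `R ≥ Q`, `N(R) ≤ N(Q)` -/
theorem large_normalizer_le {Q : Subgroup G} (hQ1 : Q ≠ ⊥) (hL : IsLarge Q)
    {R : Subgroup G} (hR : IsPGroup p ↥R) (hQR : Q ≤ R) :
    Subgroup.normalizer (R : Set G) ≤ Subgroup.normalizer (Q : Set G) := by
  have hRne : R ≠ ⊥ := fun h => hQ1 (le_bot_iff.mp (h ▸ hQR))
  have hU := pgroup_center_ne_bot hR hRne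
  have hUle : R ⊓ Subgroup.centralizer (R : Set G) ≤ Subgroup.centralizer (Q : Set G) :=
    inf_le_right.trans (Subgroup.centralizer_le hQR)
  exact (normalizer_le_normalizer_center R).trans (hL.2 _ hUle hU)

theorem large_wc {Q : Subgroup G} (hQp : IsPGroup p ↥Q) (hQ1 : Q ≠ ⊥) (hL : IsLarge Q) :
    IsWeaklyClosedSubgroup p Q :=
  wc_of_normalizer_le hQp (fun _ hR hQR => large_normalizer_le hQ1 hL hR hQR)

theorem isLarge_map_conj {Q : Subgroup G} (hL : IsLarge Q) (g : G) :
    IsLarge (Q.map (MulAut.conj g).toMonoidHom) := by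
  constructor
  · rw [centralizer_map_conj]
    exact Subgroup.map_mono hL.1
  · intro U hU hUne
    rw [centralizer_map_conj] at hU
    have h1 : U.map (MulAut.conj g⁻¹).toMonoidHom ≤ Subgroup.centralizer (Q : Set G) := by
      have := Subgroup.map_mono (f := (MulAut.conj g⁻¹).toMonoidHom) hU
      rwa [map_conj_inv_map_conj] at this
    have h2 : U.map (MulAut.conj g⁻¹).toMonoidHom ≠ ⊥ := by
      intro h
      apply hUne
      have h' := congrArg (fun S => S.map (MulAut.conj g).toMonoidHom) h
      simp only [Subgroup.map_bot] at h'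
      rw [map_conj_map_conj_inv] at h'
      exact h'
    have h3 := hL.2 _ h1 h2
    have h4 := Subgroup.map_mono (f := (MulAut.conj g).toMonoidHom) h3
    rw [← normalizer_map_conj, ← normalizer_map_conj, map_conj_map_conj_inv] at h4
    exact h4

/-- the centralizers of two distinct conjugates of a large subgroup meet trivially -/
theorem large_centralizer_inf {Q : Subgroup G} (hQp : IsPGroup p ↥Q) (hQ1 : Q ≠ ⊥)
    (hL : IsLarge Q) {g : G} (hg : g ∉ Subgroup.normalizer (Q : Set G)) :
    Subgroup.centralizer (Q : Set G) ⊓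
      Subgroup.centralizer ((Q.map (MulAut.conj g).toMonoidHom : Subgroup G) : Set G) = ⊥ := by
  by_contra hne
  set Qg := Q.map (MulAut.conj g).toMonoidHom with hQg
  set U := Subgroup.centralizer (Q : Set G) ⊓ Subgroup.centralizer (Qg : Set G) with hU
  have h1 : Subgroup.normalizer (U : Set G) ≤ Subgroup.normalizer (Q : Set G) :=
    hL.2 U inf_le_left hne
  have h2 : Subgroup.normalizer (U : Set G) ≤ Subgroup.normalizer (Qg : Set G) :=
    (isLarge_map_conj hL g).2 U inf_le_right hne
  have hQU : Q ≤ Subgroup.normalizer (U : Set G) := by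
    have : Q ≤ Subgroup.centralizer (U : Set G) :=
      Subgroup.le_centralizer_iff.mp (inf_le_left : U ≤ Subgroup.centralizer (Q : Set G))
    exact this.trans (Subgroup.centralizer_le_normalizer _)
  have hQgU : Qg ≤ Subgroup.normalizer (U : Set G) := by
    have : Qg ≤ Subgroup.centralizer (U : Set G) :=
      Subgroup.le_centralizer_iff.mp (inf_le_right : U ≤ Subgroup.centralizer (Qg : Set G))
    exact this.trans (Subgroup.centralizer_le_normalizer _)
  have h3 : ⁅Q, Qg⁆ ≤ Q ⊓ Qg := le_inf
    (Subgroup.le_normalizer_iff_commutator_le_left.mp (hQgU.trans h1))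
    (Subgroup.le_normalizer_iff_commutator_le_right.mp (hQU.trans h2))
  have h4 := commutator_criterion_of_wc hQp (large_wc hQp hQ1 hL) g h3
  exact hg (map_conj_eq_iff_mem_normalizer.mp h4)

end Large

end Cfsg.Agent.Lib.Helper47
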