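import Cfsg.Agent.Lib.Helper47.PCoreOf
import Cfsg.Agent.Lib.Helper47.Conj
import Cfsg.Agent.Lib.Helper47.Large

set_option autoImplicit false

namespace Cfsg.Agent.Lib.Helper47

open Cfsg

variable {G : Type*} [Group G]

instance pCore_characteristic (p : ℕ) [Fact p.Prime] (G : Type*) [Group G] [Finite G] :
    (pCore p G).Characteristic := by
  rw [Subgroup.characteristic_iff_map_le]
  intro φ
  have h1 : IsPGroup p ↥((pCore p G).map φ.toMonoidHom) := (pCore_isPGroup p G).map _
  have h2 : ((pCore p G).map φ.toMonoidHom).Normal :=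
    Subgroup.Normal.map (pCore_normal p G) φ.toMonoidHom φ.surjective
  exact le_pCore h2 h1

theorem normalizer_le_normalizer_pCoreOf (p : ℕ) [Fact p.Prime] [Finite G] (D : Subgroup G) :
    Subgroup.normalizer (D : Set G) ≤ Subgroup.normalizer ((pCoreOf p D : Subgroup G) : Set G) :=
  normalizer_le_normalizer_map_characteristic D (pCore p ↥D)

theorem normalizer_inf_le_normalizer_inf (A B : Subgroup G) :
    Subgroup.normalizer (A : Set G) ⊓ Subgroup.normalizer (B : Set G) ≤
      Subgroup.normalizer ((A ⊓ B : Subgroup G) : Set G) := by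
  intro n hn
  have h1 : n ∈ Subgroup.normalizer (A : Set G) := hn.1
  have h2 : n ∈ Subgroup.normalizer (B : Set G) := hn.2
  rw [Subgroup.mem_normalizer_iff] at h1 h2 ⊢
  intro x
  constructor
  · rintro ⟨hx1, hx2⟩
    exact ⟨(h1 x).mp hx1, (h2 x).mp hx2⟩
  · rintro ⟨hx1, hx2⟩
    exact ⟨(h1 x).mpr hx1, (h2 x).mpr hx2⟩

/-- characteristic `p` for `↥L` from the statement in the ambient group -/
theorem charp_of_inf_centralizer_pCoreOf_le {p : ℕ} (L : Subgroup G)
    (h : L ⊓ Subgroup.centralizer ((pCoreOf p L : Subgroup G) : Set G) ≤ pCoreOf p L) :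
    Subgroup.centralizer (pCore p ↥L : Set ↥L) ≤ pCore p ↥L := by
  intro x hx
  have h1 : (x : G) ∈ L ⊓ Subgroup.centralizer ((pCoreOf p L : Subgroup G) : Set G) := by
    refine ⟨x.2, ?_⟩
    show (x : G) ∈ Subgroup.centralizer ((pCoreOf p L : Subgroup G) : Set G)
    rw [Subgroup.mem_centralizer_iff]
    rintro y ⟨y', hy', rfl⟩
    have := Subgroup.mem_centralizer_iff.mp hx y' hy'
    exact congrArg Subtype.val this
  obtain ⟨x', hx', hxx'⟩ := h h1
  have : x' = x := Subtype.ext hxx'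
  rw [← this]; exact hx'

/-- converse translation -/
theorem inf_centralizer_pCoreOf_le_of_charp {p : ℕ} (L : Subgroup G)
    (h : Subgroup.centralizer (pCore p ↥L : Set ↥L) ≤ pCore p ↥L) :
    L ⊓ Subgroup.centralizer ((pCoreOf p L : Subgroup G) : Set G) ≤ pCoreOf p L := by
  intro x hx
  have hxL : x ∈ L := hx.1
  have hxC : x ∈ Subgroup.centralizer ((pCoreOf p L : Subgroup G) : Set G) := hx.2
  have h1 : (⟨x, hxL⟩ : ↥L) ∈ Subgroup.centralizer (pCore p ↥L : Set ↥L) := by
    rw [Subgroup.mem_centralizer_iff]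
    intro y hy
    apply Subtype.ext
    exact Subgroup.mem_centralizer_iff.mp hxC (y : G) ⟨y, hy, rfl⟩
  exact ⟨⟨x, hxL⟩, h h1, rfl⟩

/-- a `p`-group acting on a nontrivial `p`-group has nontrivial fixed points -/
theorem inf_centralizer_ne_bot_of_pgroup [Finite G] {p : ℕ} [Fact p.Prime] {Q P : Subgroup G}
    (hQ : IsPGroup p ↥Q) (hP : IsPGroup p ↥P) (hQP : Q ≤ Subgroup.normalizer (P : Set G))
    (hP1 : P ≠ ⊥) : P ⊓ Subgroup.centralizer (Q : Set G) ≠ ⊥ := by
  letI : MulAction ↥Q ↥P :=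
    { smul := fun q x => ⟨q * x * q⁻¹, (Subgroup.mem_normalizer_iff.mp (hQP q.2) x).mp x.2⟩
      one_smul := by
        intro x
        apply Subtype.ext
        show ((1 : ↥Q) : G) * x * ((1 : ↥Q) : G)⁻¹ = x
        simp
      mul_smul := by
        intro a b x
        apply Subtype.ext
        show ((a * b : ↥Q) : G) * x * ((a * b : ↥Q) : G)⁻¹ = a * (b * x * (b : G)⁻¹) * (a : G)⁻¹
        simp only [Subgroup.coe_mul]
        group }
  haveI : Nontrivial ↥P := (Subgroup.nontrivial_iff_ne_bot P).mpr hP1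
  have hdvd : p ∣ Nat.card ↥P := by
    obtain ⟨n, hn0, hn⟩ := hP.nontrivial_iff_card.mp inferInstance
    rw [hn]
    exact dvd_pow_self _ hn0.ne'
  have hfix : (1 : ↥P) ∈ MulAction.fixedPoints ↥Q ↥P := by
    intro q
    apply Subtype.ext
    show (q : G) * ((1 : ↥P) : G) * (q : G)⁻¹ = ((1 : ↥P) : G)
    simp
  obtain ⟨b, hb, hb1⟩ := hQ.exists_fixed_point_of_prime_dvd_card_of_fixed_point ↥P hdvd hfix
  intro hbot
  apply hb1
  have hmem : (b : G) ∈ P ⊓ Subgroup.centralizer (Q : Set G) := by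
    refine ⟨b.2, ?_⟩
    show (b : G) ∈ Subgroup.centralizer (Q : Set G)
    rw [Subgroup.mem_centralizer_iff]
    intro q hq
    have h1 := hb ⟨q, hq⟩
    have h2 : q * (b : G) * q⁻¹ = (b : G) := congrArg Subtype.val h1
    calc q * (b : G) = (q * (b : G) * q⁻¹) * q := by group
      _ = (b : G) * q := by rw [h2]
  rw [hbot, Subgroup.mem_bot] at hmem
  apply Subtype.ext
  exact hmem.symm

end Cfsg.Agent.Lib.Helper47
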