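import Cfsg.Agent.Lib.Helper47.WC

set_option autoImplicit false

namespace Cfsg.Agent.Lib.Helper47

open Cfsg
open scoped commutatorElement Pointwise

variable {G : Type*} [Group G]

theorem subgroupOf_map_conj (Q K : Subgroup G) (k : ↥K) :
    (Q.subgroupOf K).map (MulAut.conj k).toMonoidHom =
      (Q.map (MulAut.conj (k : G)).toMonoidHom).subgroupOf K := by
  ext x
  rw [mem_map_conj, Subgroup.mem_subgroupOf, Subgroup.mem_subgroupOf, mem_map_conj]
  simp

theorem map_hom_map_conj {G' : Type*} [Group G'] (f : G →* G') (Q : Subgroup G) (g : G) :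
    (Q.map (MulAut.conj g).toMonoidHom).map f =
      (Q.map f).map (MulAut.conj (f g)).toMonoidHom := by
  rw [Subgroup.map_map, Subgroup.map_map]
  congr 1
  ext x
  simp [MulAut.conj_apply]

theorem le_map_subtype_of_subgroupOf_le {A K : Subgroup G} (hAK : A ≤ K) {S : Subgroup ↥K}
    (h : A.subgroupOf K ≤ S) : A ≤ S.map K.subtype := by
  intro a ha
  exact ⟨⟨a, hAK ha⟩, h (Subgroup.mem_subgroupOf.mpr ha), rfl⟩

section Sylow

variable [Finite G] {p : ℕ} [Fact p.Prime]

theorem exists_conj_le_sylow_in (X : Subgroup G) (S : Sylow p ↥X) {R : Subgroup G}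
    (hR : IsPGroup p ↥R) (hRX : R ≤ X) :
    ∃ x ∈ X, R.map (MulAut.conj x).toMonoidHom ≤ (S : Subgroup ↥X).map X.subtype := by
  have hR' : IsPGroup p ↥(R.subgroupOf X) := hR.comap_subtype
  obtain ⟨h, hh⟩ := exists_conj_le_sylow hR' S
  refine ⟨(h : G), h.2, ?_⟩
  rw [subgroupOf_map_conj] at hh
  apply le_map_subtype_of_subgroupOf_le _ hh
  intro y hy
  rw [mem_map_conj] at hy
  have h1 : y = (h : G) * ((h : G)⁻¹ * y * (h : G)) * (h : G)⁻¹ := by group
  rw [h1]
  exact X.mul_mem (X.mul_mem h.2 (hRX hy)) (X.inv_mem h.2)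

/-- a Sylow subgroup of `K` containing the `p`-subgroup `Q ≤ K` -/
theorem exists_sylow_in_ge {Q K : Subgroup G} (hQp : IsPGroup p ↥Q) (hQK : Q ≤ K) :
    ∃ S : Sylow p ↥K, Q ≤ (S : Subgroup ↥K).map K.subtype := by
  have hQ' : IsPGroup p ↥(Q.subgroupOf K) := hQp.comap_subtype
  obtain ⟨S, hS⟩ := hQ'.exists_le_sylow
  exact ⟨S, le_map_subtype_of_subgroupOf_le hQK hS⟩

theorem isPGroup_sylow_map_subtype {K : Subgroup G} (S : Sylow p ↥K) :
    IsPGroup p ↥((S : Subgroup ↥K).map K.subtype) := S.isPGroup'.map _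

end Sylow

end Cfsg.Agent.Lib.Helper47
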