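import Cfsg.Agent.Lib.Helper47.WC2
import Cfsg.Agent.S2839

set_option autoImplicit false

namespace Cfsg.Agent.Lib.Helper47

open Cfsg
open scoped commutatorElement Pointwise

variable {G : Type*} [Group G]

/-- the join of all conjugates -/
def conjJoin (Q : Subgroup G) : Subgroup G :=
  ⨆ g : G, Q.map (MulAut.conj g).toMonoidHom

theorem le_conjJoin (Q : Subgroup G) : Q ≤ conjJoin Q := by
  have h := le_iSup (fun g : G => Q.map (MulAut.conj g).toMonoidHom) 1
  simp only [map_conj_one] at h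
  exact h

theorem map_conj_le_conjJoin (Q : Subgroup G) (g : G) :
    Q.map (MulAut.conj g).toMonoidHom ≤ conjJoin Q :=
  le_iSup (fun g : G => Q.map (MulAut.conj g).toMonoidHom) g

theorem conjJoin_map_conj_le (Q : Subgroup G) (g : G) :
    (conjJoin Q).map (MulAut.conj g).toMonoidHom ≤ conjJoin Q := by
  unfold conjJoin
  rw [Subgroup.map_iSup]
  apply iSup_le
  intro h
  rw [map_conj_map_conj]
  exact map_conj_le_conjJoin Q (g * h)

instance conjJoin_normal (Q : Subgroup G) : (conjJoin Q).Normal := by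
  constructor
  intro n hn g
  exact conjJoin_map_conj_le Q g (conj_mem_map_conj g hn)

theorem conjJoin_le {Q N : Subgroup G} [N.Normal] (h : Q ≤ N) : conjJoin Q ≤ N := by
  unfold conjJoin
  apply iSup_le
  intro g x hx
  rw [mem_map_conj] at hx
  have h1 : x = g * (g⁻¹ * x * g) * g⁻¹ := by group
  rw [h1]
  exact Subgroup.Normal.conj_mem inferInstance _ (h hx) g

section Sylow

variable [Finite G] {p : ℕ} [Fact p.Prime]

/-- in an overgroup `K` of the weakly closed `Q`, `G`-conjugates inside `K` are `K`-conjugates -/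
theorem wc_conj_in_overgroup {Q : Subgroup G} (hQp : IsPGroup p ↥Q) (hQ1 : Q ≠ ⊥)
    (hwc : IsWeaklyClosedSubgroup p Q) {K : Subgroup G} (hQK : Q ≤ K) (g : G)
    (hg : Q.map (MulAut.conj g).toMonoidHom ≤ K) :
    ∃ k ∈ K, Q.map (MulAut.conj g).toMonoidHom = Q.map (MulAut.conj k).toMonoidHom :=
  (Cfsg.Agent.S2839.result Q hQp hQ1 hwc K hQK ⊥).2.1 g hg

theorem wc_subgroupOf {Q : Subgroup G} (hQp : IsPGroup p ↥Q) (hQ1 : Q ≠ ⊥)
    (hwc : IsWeaklyClosedSubgroup p Q) {K : Subgroup G} (hQK : Q ≤ K) :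
    IsWeaklyClosedSubgroup p (Q.subgroupOf K) :=
  (Cfsg.Agent.S2839.result Q hQp hQ1 hwc K hQK ⊥).1

theorem subgroupOf_ne_bot {Q K : Subgroup G} (hQ1 : Q ≠ ⊥) (hQK : Q ≤ K) :
    Q.subgroupOf K ≠ ⊥ := by
  intro h
  rw [Subgroup.subgroupOf_eq_bot] at h
  exact hQ1 (disjoint_self.mp (h.mono_right hQK))

theorem wc_conj_le_of_subnormal {Q : Subgroup G} (hQp : IsPGroup p ↥Q) (hQ1 : Q ≠ ⊥)
    (hwc : IsWeaklyClosedSubgroup p Q) {S : Subgroup G} (hS : S.IsSubnormal) :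
    Q ≤ S → ∀ g : G, Q.map (MulAut.conj g).toMonoidHom ≤ S := by
  induction hS with
  | top => intro _ g; exact le_top
  | step S S₁ h_le hSubn hN ih =>
    intro hQS g
    have h1 := ih (hQS.trans h_le) g
    obtain ⟨k, hk, hgk⟩ := wc_conj_in_overgroup hQp hQ1 hwc (hQS.trans h_le) g h1
    rw [hgk]
    intro x hx
    rw [mem_map_conj] at hx
    have h2 : (⟨k, hk⟩ : ↥S₁) * ⟨k⁻¹ * x * k, h_le (hQS hx)⟩ * (⟨k, hk⟩ : ↥S₁)⁻¹ ∈ S.subgroupOf S₁ :=
      hN.conj_mem _ (Subgroup.mem_subgroupOf.mpr (hQS hx)) _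
    rw [Subgroup.mem_subgroupOf] at h2
    have h3 : x = k * (k⁻¹ * x * k) * k⁻¹ := by group
    rw [h3]
    simpa using h2

theorem wc_subnormalClosure_eq {Q : Subgroup G} (hQp : IsPGroup p ↥Q) (hQ1 : Q ≠ ⊥)
    (hwc : IsWeaklyClosedSubgroup p Q) : subnormalClosure Q = conjJoin Q := by
  apply le_antisymm
  · apply sInf_le
    exact ⟨le_conjJoin Q, (conjJoin_normal Q).isSubnormal⟩
  · apply le_sInf
    rintro S ⟨hQS, hS⟩
    unfold conjJoin
    apply iSup_le
    exact wc_conj_le_of_subnormal hQp hQ1 hwc hS hQS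

end Sylow

end Cfsg.Agent.Lib.Helper47
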