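import Cfsg.Agent.Lib.Helper47.WC5

set_option autoImplicit false

namespace Cfsg.Agent.Lib.Helper47

open Cfsg
open scoped commutatorElement Pointwise

variable {G : Type*} [Group G] [Finite G] {p : ℕ} [Fact p.Prime]

/-- Main lemma for S2842.  `Q` weakly closed with `C_G(Q) ≤ Q ≤ L`; `(H₁,R)` a "characteristic `p`
pair" with `Q ≤ H₁` and `C_G(O_p(L)) ≤ H₁`. -/
theorem wc_charp_main {Q L : Subgroup G} (hQp : IsPGroup p ↥Q)
    (hwc : IsWeaklyClosedSubgroup p Q) (hCQ : Subgroup.centralizer (Q : Set G) ≤ Q) (hQL : Q ≤ L)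
    {H₁ R : Subgroup G} (hRp : IsPGroup p ↥R)
    (hH₁R : H₁ ≤ Subgroup.normalizer (R : Set G))
    (hchar : H₁ ⊓ Subgroup.centralizer (R : Set G) ≤ R)
    (hQH₁ : Q ≤ H₁)
    (hDH₁ : Subgroup.centralizer ((pCoreOf p L : Subgroup G) : Set G) ≤ H₁) :
    ⁅Q, Subgroup.centralizer ((pCoreOf p L : Subgroup G) : Set G)⁆ ≤ Q ⊓ pCoreOf p L ∧
    IsPGroup p ↥(Subgroup.centralizer ((pCoreOf p L : Subgroup G) : Set G)) ∧
    L ⊓ Subgroup.centralizer ((pCoreOf p L : Subgroup G) : Set G) ≤ pCoreOf p L := by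
  set P := pCoreOf p L with hP
  set D := Subgroup.centralizer (P : Set G) with hD
  set M := L ⊔ D with hM
  set PM := pCoreOf p M with hPM
  set DM := Subgroup.centralizer (PM : Set G) with hDM
  have hPp : IsPGroup p ↥P := pCoreOf_isPGroup p L
  have hPMp : IsPGroup p ↥PM := pCoreOf_isPGroup p M
  have hLP : L ≤ Subgroup.normalizer (P : Set G) := le_normalizer_pCoreOf p L
  have hLD : L ≤ Subgroup.normalizer (D : Set G) :=
    hLP.trans (normalizer_le_normalizer_centralizer P)
  have hDP : D ≤ Subgroup.normalizer (P : Set G) := Subgroup.centralizer_le_normalizer _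
  have hMP : M ≤ Subgroup.normalizer (P : Set G) := sup_le hLP hDP
  have hLM : L ≤ M := le_sup_left
  have hDM' : D ≤ M := le_sup_right
  have hPL : P ≤ L := pCoreOf_le p L
  have hPPM : P ≤ PM := le_pCoreOf (hPL.trans hLM) hMP hPp
  have hDMD : DM ≤ D := Subgroup.centralizer_le (by exact_mod_cast hPPM)
  have hDMM : DM ≤ M := hDMD.trans hDM'
  have hMPM : M ≤ Subgroup.normalizer (PM : Set G) := le_normalizer_pCoreOf p M
  have hMDM : M ≤ Subgroup.normalizer (DM : Set G) :=
    hMPM.trans (normalizer_le_normalizer_centralizer PM)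
  have hDMH₁ : DM ≤ H₁ := hDMD.trans hDH₁
  have hDMR : DM ≤ Subgroup.normalizer (R : Set G) := hDMH₁.trans hH₁R
  -- Step 1: `M` has characteristic `p`
  set E := pPrimeClosure p DM with hE
  have hEDM : E ≤ DM := pPrimeClosure_le p DM
  have hME : M ≤ Subgroup.normalizer (E : Set G) :=
    hMDM.trans (normalizer_le_normalizer_pPrimeClosure p DM)
  have hcentE : R ⊓ Q ≤ Subgroup.centralizer (E : Set G) := by
    set RM := R ⊓ M with hRM
    have hRMp : IsPGroup p ↥RM := hRp.to_le inf_le_left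
    have hDMRM : DM ≤ Subgroup.normalizer (RM : Set G) :=
      (le_inf hDMR (hDMM.trans Subgroup.le_normalizer)).trans (normalizer_inf_le_normalizer_inf R M)
    have c1 : ⁅RM, DM⁆ ≤ R :=
      (Subgroup.commutator_mono inf_le_left le_rfl).trans
        (Subgroup.le_normalizer_iff_commutator_le_left.mp hDMR)
    have c2 : ⁅RM, DM⁆ ≤ DM :=
      (Subgroup.commutator_mono inf_le_right le_rfl).trans
        (Subgroup.le_normalizer_iff_commutator_le_right.mp hMDM)
    have c3 : R ⊓ DM ≤ PM := by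
      have h1 : R ⊓ DM ≤ pCoreOf p DM := by
        apply le_pCoreOf inf_le_right
        · exact (le_inf hDMR Subgroup.le_normalizer).trans (normalizer_inf_le_normalizer_inf R DM)
        · exact hRp.to_le inf_le_left
      have h2 : pCoreOf p DM ≤ PM :=
        le_pCoreOf ((pCoreOf_le p DM).trans hDMM)
          (hMDM.trans (normalizer_le_normalizer_pCoreOf p DM)) (pCoreOf_isPGroup p DM)
      exact h1.trans h2
    have c4 : ⁅PM, DM⁆ = ⊥ := by
      rw [Subgroup.commutator_eq_bot_iff_le_centralizer]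
      exact le_centralizer_centralizer PM
    have hnil : Cfsg.iterCommutator RM DM 2 = ⊥ := by
      show ⁅⁅RM, DM⁆, DM⁆ = ⊥
      exact le_bot_iff.mp ((Subgroup.commutator_mono ((le_inf c1 c2).trans c3) le_rfl).trans c4.le)
    have hEc : E ≤ Subgroup.centralizer ((R ⊓ Q : Subgroup G) : Set G) := by
      rw [hE]
      unfold pPrimeClosure
      rw [Subgroup.closure_le]
      rintro a ⟨haD, hao⟩
      have hcent := Cfsg.Agent.S2809.centralizes_of_coprime RM hRMp DM hDMRM 2 hnil a haD
        (orderOf a) hao (pow_orderOf_eq_one a) 2 le_rfl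
      simp only [Nat.sub_self] at hcent
      rw [SetLike.mem_coe, Subgroup.mem_centralizer_iff]
      intro s hs
      have hs' : s ∈ RM := ⟨hs.1, hLM (hQL hs.2)⟩
      have := hcent s hs'
      calc s * a = (a * s * a⁻¹) * a := by rw [this]
        _ = a * s := by group
    intro x hx
    rw [Subgroup.mem_centralizer_iff]
    intro e he
    exact ((Subgroup.mem_centralizer_iff.mp (hEc he)) x hx).symm
  have hEQ : E ≤ Subgroup.normalizer (Q : Set G) :=
    wc_le_normalizer_of_charp_pair hQp hwc hRp hH₁R hchar hQH₁ (hEDM.trans hDMH₁)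
      ((hQL.trans hLM).trans hME) hcentE
  have hEp : IsPGroup p ↥E :=
    (isPGroup_of_le_centralizer_pCoreOf hQp hCQ (hQL.trans hLM) hEDM hME hEQ).1
  have hDMp : IsPGroup p ↥DM := isPGroup_of_pPrimeClosure hEp
  have hMchar : M ⊓ DM ≤ PM := by
    apply le_pCoreOf inf_le_left
    · exact (le_inf Subgroup.le_normalizer hMDM).trans (normalizer_inf_le_normalizer_inf M DM)
    · exact hDMp.to_le inf_le_right
  -- Step 2: `D` normalizes `Q`
  have hPML : PM ⊓ L ≤ P := by
    apply le_pCoreOf inf_le_right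
    · exact (le_inf (hLM.trans hMPM) Subgroup.le_normalizer).trans
        (normalizer_inf_le_normalizer_inf PM L)
    · exact hPMp.to_le inf_le_left
  have hcentD : PM ⊓ Q ≤ Subgroup.centralizer (D : Set G) :=
    ((inf_le_inf_left PM hQL).trans hPML).trans (le_centralizer_centralizer P)
  have hDQ : D ≤ Subgroup.normalizer (Q : Set G) :=
    wc_le_normalizer_of_charp_pair hQp hwc hPMp hMPM hMchar (hQL.trans hLM) hDM'
      (hQL.trans hLD) hcentD
  -- Step 3
  obtain ⟨h1, h2⟩ := isPGroup_of_le_centralizer_pCoreOf hQp hCQ hQL (le_refl D) hLD hDQ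
  refine ⟨h2, h1, ?_⟩
  apply le_pCoreOf inf_le_left
  · exact (le_inf Subgroup.le_normalizer hLD).trans (normalizer_inf_le_normalizer_inf L D)
  · exact h1.to_le inf_le_right

end Cfsg.Agent.Lib.Helper47
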