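import Cfsg.Agent.Lib.Helper47.Asym2
import Cfsg.Agent.Lib.Helper47.WC3
import Cfsg.Agent.S2842

set_option autoImplicit false

namespace Cfsg.Agent.Lib.Helper47

open Cfsg
open scoped commutatorElement Pointwise

theorem pCore_map_mulEquiv_le {A B : Type*} [Group A] [Group B] (p : ℕ) (e : A ≃* B) :
    (pCore p A).map e.toMonoidHom ≤ pCore p B := by
  rw [Subgroup.map_le_iff_le_comap]
  apply sSup_le
  rintro N ⟨hN, hNp⟩
  rw [← Subgroup.map_le_iff_le_comap]
  apply le_sSup
  exact ⟨hN.map e.toMonoidHom e.surjective, hNp.map _⟩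

/-- characteristic `p` is invariant under isomorphism -/
theorem charp_of_mulEquiv {A B : Type*} [Group A] [Group B] {p : ℕ} (e : A ≃* B)
    (h : Subgroup.centralizer (pCore p A : Set A) ≤ pCore p A) :
    Subgroup.centralizer (pCore p B : Set B) ≤ pCore p B := by
  intro x hx
  have h1 : e.symm x ∈ Subgroup.centralizer (pCore p A : Set A) := by
    rw [Subgroup.mem_centralizer_iff]
    intro a ha
    have h2 : e a ∈ pCore p B := pCore_map_mulEquiv_le p e ⟨a, ha, rfl⟩
    have h3 := Subgroup.mem_centralizer_iff.mp hx (e a) h2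
    apply e.injective
    simpa using h3
  have h4 := pCore_map_mulEquiv_le p e ⟨e.symm x, h h1, rfl⟩
  simpa using h4

variable {G : Type*} [Group G]

/-- characteristic `p` for conjugates -/
theorem charp_map_conj {p : ℕ} {L : Subgroup G}
    (h : Subgroup.centralizer (pCore p ↥L : Set ↥L) ≤ pCore p ↥L) (c : G) :
    Subgroup.centralizer (pCore p ↥(L.map (MulAut.conj c).toMonoidHom) :
      Set ↥(L.map (MulAut.conj c).toMonoidHom)) ≤ pCore p ↥(L.map (MulAut.conj c).toMonoidHom) :=
  charp_of_mulEquiv (L.equivMapOfInjective (MulAut.conj c).toMonoidHom (MulAut.conj c).injective) h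

theorem pCoreOf_map_conj_le [Finite G] (p : ℕ) [Fact p.Prime] (L : Subgroup G) (c : G) :
    (pCoreOf p L).map (MulAut.conj c).toMonoidHom ≤ pCoreOf p (L.map (MulAut.conj c).toMonoidHom) := by
  apply le_pCoreOf (Subgroup.map_mono (pCoreOf_le p L))
  · rw [normalizer_map_conj]
    exact Subgroup.map_mono (le_normalizer_pCoreOf p L)
  · exact isPGroup_map_conj (pCoreOf_isPGroup p L) c

theorem pCoreOf_map_conj [Finite G] (p : ℕ) [Fact p.Prime] (L : Subgroup G) (c : G) :
    pCoreOf p (L.map (MulAut.conj c).toMonoidHom) = (pCoreOf p L).map (MulAut.conj c).toMonoidHom := by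
  apply le_antisymm _ (pCoreOf_map_conj_le p L c)
  have h1 := pCoreOf_map_conj_le p (L.map (MulAut.conj c).toMonoidHom) c⁻¹
  rw [map_conj_inv_map_conj] at h1
  have h2 := Subgroup.map_mono (f := (MulAut.conj c).toMonoidHom) h1
  rwa [map_conj_map_conj_inv] at h2

/-- a subgroup `P'` with `P ≤ P' ≤ H`, `H` of characteristic `p`, `P` weakly closed in `G` with
`C_G(P) ≤ P`, has characteristic `p` -/
theorem charp_of_wc_le [Finite G] {p : ℕ} [Fact p.Prime] {P P' H : Subgroup G}
    (hPp : IsPGroup p ↥P) (hP1 : P ≠ ⊥)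
    (hwc : IsWeaklyClosedSubgroup p P) (hCP : Subgroup.centralizer (P : Set G) ≤ P)
    (hH : Subgroup.centralizer (pCore p ↥H : Set ↥H) ≤ pCore p ↥H) (hPP' : P ≤ P')
    (hP'H : P' ≤ H) : Subgroup.centralizer (pCore p ↥P' : Set ↥P') ≤ pCore p ↥P' := by
  have hPH := hPP'.trans hP'H
  have hc : Subgroup.centralizer ((P.subgroupOf H : Subgroup ↥H) : Set ↥H) ≤ P.subgroupOf H := by
    intro x hx
    rw [Subgroup.mem_subgroupOf]
    apply hCP
    rw [Subgroup.mem_centralizer_iff]
    intro y hy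
    have := Subgroup.mem_centralizer_iff.mp hx ⟨y, hPH hy⟩ (Subgroup.mem_subgroupOf.mpr hy)
    exact congrArg Subtype.val this
  have hle : P.subgroupOf H ≤ P'.subgroupOf H := by
    intro x hx
    rw [Subgroup.mem_subgroupOf] at hx ⊢
    exact hPP' hx
  have h1 := Cfsg.Agent.S2842.result (P.subgroupOf H) hPp.comap_subtype
    (subgroupOf_ne_bot hP1 hPH) (wc_subgroupOf hPp hP1 hwc hPH) hc (P'.subgroupOf H) hle (Or.inl hH)
  exact charp_of_mulEquiv (Subgroup.subgroupOfEquivOfLe hP'H) h1.2.2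

end Cfsg.Agent.Lib.Helper47
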