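import Cfsg.Agent.Lib.Helper32.Transitivity2

set_option autoImplicit false

/-!
# BG 9.5 glue: every `A`-invariant `t`-subgroup lies in the hub `M`
-/

namespace Cfsg.Agent.Lib.Helper47.BG95

open Subgroup Cfsg Cfsg.Agent.Lib.Helper33 Cfsg.Agent.Lib.Helper32

universe u

variable {G : Type u} [Group G] [Finite G]

/-- If `A` satisfies the transitivity hypothesis with `Z(A)` of rank at least 3, the hub `M`
contains `K = O_{π(A)'}(C_G(A))` and an `A`-invariant `t`-subgroup `E` such that every proper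
subgroup over `E` lies in `M`, then every `A`-invariant `t`-subgroup of `G` lies in `M`. -/
theorem inv_pSubgroup_le (hG : IsMinSimpleOddOrder G) {A : Subgroup G}
    (hA : TransitivityHypothesis A)
    (hZ : ¬ RankLE 2 ↥(A ⊓ centralizer (A : Set G))) {t : ℕ} (ht : t.Prime)
    (htA : ¬ t ∣ Nat.card A) {M E : Subgroup G}
    (hK : piCoreOf (primesNotDvd (Nat.card A)) (centralizer (A : Set G)) ≤ M)
    (hEt : IsPGroup t E) (hAE : A ≤ normalizer (E : Set G))
    (hU : ∀ H : Subgroup G, E ≤ H → H ≠ ⊤ → H ≤ M) :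
    ∀ N : Subgroup G, IsPGroup t N → A ≤ normalizer (N : Set G) → N ≤ M := by
  intro N hNt hAN
  obtain ⟨Q₀, hQ₀, hEQ₀⟩ := exists_maxInv_ge (mem_invSubgroups_of_isPGroup ht hEt hAE)
  obtain ⟨Q, hQ, hNQ⟩ := exists_maxInv_ge (mem_invSubgroups_of_isPGroup ht hNt hAN)
  obtain ⟨k, hk, hkQ⟩ := transitivity_73 hG hA hZ ht htA Q₀ hQ₀ Q hQ
  have hQ₀t : IsPGroup t Q₀ := isPGroup_of_mem_invSubgroups ht hQ₀.1
  have hQ₀top : Q₀ ≠ ⊤ := by
    intro h
    have : Fact t.Prime := ⟨ht⟩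
    have hsolv : Group.IsSolvable G := by
      have h1 : IsPGroup t (⊤ : Subgroup G) := h ▸ hQ₀t
      have h2 : IsPGroup t G := h1.of_equiv Subgroup.topEquiv
      have := h2.isNilpotent
      infer_instance
    have hsimple : IsSimpleGroup G := hG.2.1
    exact hG.2.2.1 ⟨⟨IsSimpleGroup.comm_iff_isSolvable.mpr hsolv⟩⟩
  have hQ₀M : Q₀ ≤ M := hU Q₀ hEQ₀ hQ₀top
  have hkM : k ∈ M := hK hk
  refine hNQ.trans ?_
  rw [hkQ]
  intro x hx
  obtain ⟨y, hy, rfl⟩ := mem_cj'.mp hx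
  exact M.mul_mem (M.mul_mem hkM (hQ₀M hy)) (M.inv_mem hkM)

end Cfsg.Agent.Lib.Helper47.BG95
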