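import Cfsg.Agent.Lib.Helper47.Subn

set_option autoImplicit false

namespace Cfsg.Agent.Lib.Helper47

open Cfsg
open scoped commutatorElement Pointwise

variable {G : Type*} [Group G]

/-- a normal subgroup `N` is `p`-closed iff `T ∩ N` is normal, `T` a Sylow subgroup -/
theorem isPClosed_iff_sylow_inf_normal [Finite G] {p : ℕ} [Fact p.Prime] (T : Sylow p G)
    (N : Subgroup G) [hN : N.Normal] :
    IsPClosed p ↥N ↔ ((T : Subgroup G) ⊓ N).Normal := by
  constructor
  · intro h
    exact sylow_inf_normal_of_isPClosed T N h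
  · intro h
    obtain ⟨P, hP⟩ := exists_sylow_subgroupOf_normal T N
    apply isPClosed_of_sylow_normal P
    rw [hP, ← Subgroup.inf_subgroupOf_right]
    exact h.subgroupOf N

theorem isPClosed_iff_sylow_normal [Finite G] {p : ℕ} [Fact p.Prime] (T : Sylow p G) :
    IsPClosed p G ↔ (T : Subgroup G).Normal :=
  ⟨fun h => h T, fun h => isPClosed_of_sylow_normal T h⟩

/-- image of `O^p` under a surjective homomorphism -/
theorem map_pResidual_of_surjective [Finite G] {p : ℕ} [Fact p.Prime] {G' : Type*} [Group G']
    (f : G →* G') (hf : Function.Surjective f) :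
    (pResidual p G).map f = pResidual p G' := by
  apply le_antisymm
  · rw [Subgroup.map_le_iff_le_comap]
    unfold pResidual
    rw [Subgroup.closure_le]
    intro g hg
    rw [SetLike.mem_coe, Subgroup.mem_comap]
    apply Subgroup.subset_closure
    exact Nat.Coprime.coprime_dvd_left (orderOf_map_dvd f g) hg
  · conv_lhs => unfold pResidual
    rw [Subgroup.closure_le]
    intro g' hg'
    obtain ⟨g, rfl⟩ := hf g'
    obtain ⟨k, hk⟩ := pow_mem_pResidual (p := p) g
    have hcop : Nat.Coprime (p ^ k) (orderOf (f g)) := (Nat.Coprime.pow_right k hg').symm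
    obtain ⟨j, hj⟩ := exists_pow_eq_self_of_coprime hcop
    rw [SetLike.mem_coe, ← hj, ← map_pow, ← map_pow]
    exact Subgroup.mem_map_of_mem f (Subgroup.pow_mem _ hk j)

/-- `O_p(G/D)` pulls back to `O_p(G)` for a normal `p`-subgroup `D` -/
theorem comap_pCore_quotient [Finite G] {p : ℕ} [Fact p.Prime] (D : Subgroup G) [D.Normal]
    (hD : IsPGroup p ↥D) :
    (pCore p (G ⧸ D)).comap (QuotientGroup.mk' D) = pCore p G := by
  apply le_antisymm
  · apply le_pCore
    · exact Subgroup.Normal.comap inferInstance _
    · apply (pCore_isPGroup p (G ⧸ D)).comap_of_ker_isPGroup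
      rw [QuotientGroup.ker_mk']
      exact hD
  · rw [← Subgroup.map_le_iff_le_comap]
    apply le_pCore
    · exact Subgroup.Normal.map inferInstance _ (QuotientGroup.mk'_surjective D)
    · exact (pCore_isPGroup p G).map _

end Cfsg.Agent.Lib.Helper47
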