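import Cfsg.Agent.Lib.Helper47.BG11d
import Cfsg.Agent.Lib.Helper19.BG124a
import Cfsg.Agent.S1404
import Cfsg.Agent.S1410

set_option autoImplicit false
set_option linter.style.haveILetI false
set_option linter.unusedSectionVars false

/-!
# Bender–Glauberman §11, part E: unconditional forms of 11.2 – 11.6

All `Stmt14xx` hypotheses are discharged from the landed statements; `M_σ ≠ 1` from helper19.
-/

namespace Cfsg.Agent.Lib.Helper47.BG11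

open Subgroup Cfsg Cfsg.Agent.Lib.Helper33 Cfsg.Agent.Lib.Helper24 Cfsg.Agent.Lib.Helper32
open Cfsg.Agent.Lib.Helper24.BG Cfsg.Agent.Lib.Helper23 Cfsg.Agent.Lib.Helper63

universe u

variable {G : Type u} [Group G] [Finite G]

theorem stmt1404 (hG : IsMinSimpleOddOrder G) : Stmt1404 G :=
  fun M hM p _ hp X hXp hX1 hXM => Cfsg.Agent.S1404.result hG M hM p hp X hXp hX1 hXM

theorem stmt1410 (hG : IsMinSimpleOddOrder G) : Stmt1410 G :=
  fun p _ H hH => Cfsg.Agent.S1410.result hG p H hH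

theorem sigmaHallIn_of_coatom (hG : IsMinSimpleOddOrder G) {M : Subgroup G} (hM : IsCoatom M) :
    SigmaHallIn M := Cfsg.Agent.Lib.Helper19.BG124.sigmaHallIn hG hM

namespace Exc

variable {M A₀ A : Subgroup G} {p : ℕ} [hp : Fact p.Prime]

/-- **B&G Corollary 11.2 (a)** -/
theorem bg_11_2_a (hG : IsMinSimpleOddOrder G) (e : Exc M p A₀ A) {g : G} (hg : g ∉ M)
    (hAg : A ≤ cj g M) : sigmaCore M ⊓ cj g M = ⊥ :=
  e.cor_11_2_a hG (stmt1404 hG) (stmt1410 hG) (sigmaHallIn_of_coatom hG e.coatom) hg hAg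

/-- **B&G Corollary 11.2 (b)** -/
theorem bg_11_2_b (hG : IsMinSimpleOddOrder G) (e : Exc M p A₀ A) {g : G} (hg : g ∉ M)
    (hAg : A ≤ cj g M) : sigmaCore M ⊓ centralizer ((cj g A₀ : Subgroup G) : Set G) = ⊥ :=
  e.cor_11_2_b hG (stmt1404 hG) (stmt1410 hG) (sigmaHallIn_of_coatom hG e.coatom) hg hAg

/-- **B&G Theorem 11.3** -/
theorem bg_11_3 (hG : IsMinSimpleOddOrder G) (e : Exc M p A₀ A) :
    Group.IsNilpotent ↥(sigmaCore M) :=
  e.thm_11_3 hG (stmt1404 hG) (stmt1410 hG) (sigmaHallIn_of_coatom hG e.coatom)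

/-- **B&G Corollary 11.4** -/
theorem bg_11_4 (hG : IsMinSimpleOddOrder G) (e : Exc M p A₀ A) {H : Subgroup G}
    (hH : IsCoatom H) (hAH : A ≤ H) (hne : sigmaCore H ⊓ sigmaCore M ≠ ⊥) : H = M :=
  e.cor_11_4 hG (stmt1404 hG) (stmt1410 hG) (sigmaHallIn_of_coatom hG e.coatom) hH hAH hne

/-- **B&G Theorem 11.5 + Corollary 11.6 (a)**: a Sylow `p`-subgroup `P ≥ A` of `M` is abelian and
`A = Ω₁(P)`. -/
theorem bg_11_5 (hG : IsMinSimpleOddOrder G) (e : Exc M p A₀ A) {P : Subgroup G}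
    (hPp : IsPGroup p P) (hPM : P ≤ M) (hPi : ¬ p ∣ P.relIndex M) (hAP : A ≤ P) :
    (∀ a ∈ P, ∀ b ∈ P, a * b = b * a) ∧ ∀ x ∈ P, x ^ p = 1 → x ∈ A :=
  e.thm_11_5' hG (stmt1404 hG) (stmt1410 hG) (sigmaHallIn_of_coatom hG e.coatom)
    (Cfsg.Agent.Lib.Helper19.BG124.sigmaCore_ne_bot hG e.coatom) hPp hPM hPi hAP

/-- **B&G Theorem 11.5**: every Sylow `p`-subgroup of `M` is abelian. -/
theorem bg_11_5_any (hG : IsMinSimpleOddOrder G) (e : Exc M p A₀ A) {P : Subgroup G}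
    (hPp : IsPGroup p P) (hPM : P ≤ M) (hPi : ¬ p ∣ P.relIndex M) :
    ∀ a ∈ P, ∀ b ∈ P, a * b = b * a :=
  e.stmt_11_5' hG (stmt1404 hG) (stmt1410 hG) (sigmaHallIn_of_coatom hG e.coatom)
    (Cfsg.Agent.Lib.Helper19.BG124.sigmaCore_ne_bot hG e.coatom) hPp hPM hPi

/-- **B&G Corollary 11.6 (b)** -/
theorem bg_11_6_b (hG : IsMinSimpleOddOrder G) (e : Exc M p A₀ A) :
    sigmaCore M ⊓ centralizer (A : Set G) = ⊥ :=
  e.cor_11_6_b hG (stmt1410 hG) (sigmaHallIn_of_coatom hG e.coatom)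

/-- **B&G Corollary 11.6 (c)**, strong form: two distinct lines of `A` fixed-point-free on `M_σ`. -/
theorem bg_11_6_c (hG : IsMinSimpleOddOrder G) (e : Exc M p A₀ A) :
    ∃ A₁ A₂ : Subgroup G, A₁ ≤ A ∧ A₂ ≤ A ∧ Nat.card A₁ = p ∧ Nat.card A₂ = p ∧ A₁ ≠ A₂ ∧
      sigmaCore M ⊓ centralizer (A₁ : Set G) = ⊥ ∧ sigmaCore M ⊓ centralizer (A₂ : Set G) = ⊥ :=
  e.exists_two_fpf' hG (stmt1404 hG) (stmt1410 hG) (sigmaHallIn_of_coatom hG e.coatom)
    (Cfsg.Agent.Lib.Helper19.BG124.sigmaCore_ne_bot hG e.coatom)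

end Exc

end Cfsg.Agent.Lib.Helper47.BG11
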