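import Cfsg.Agent.Lib.Helper47.BG117R2
import Cfsg.Agent.Lib.Helper56.BG117R
import Cfsg.Agent.Lib.Helper60.BG117Final

set_option autoImplicit false
set_option linter.style.haveILetI false
set_option linter.unusedSectionVars false

/-!
# Bender–Glauberman Theorem 11.7, unconditionally

For exceptional data `(M, p, A₀, A)` in a minimal simple group of odd order, `M_σ A` is normal
in `M`.  Assembly of helper60's `hstar`, helper56's `hcent` and `r2_of_cent`.
-/

namespace Cfsg.Agent.Lib.Helper47.BG117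

open Subgroup Cfsg Cfsg.Agent.Lib.Helper47.BG11

universe u

variable {G : Type u} [Group G] [Finite G]

/-- **B&G Theorem 11.7**: `M ≤ N_G(M_σ A)`. -/
theorem bg_11_7 (hG : IsMinSimpleOddOrder G) {M A₀ A : Subgroup G} {p : ℕ} [hp : Fact p.Prime]
    (e : Exc M p A₀ A) : M ≤ normalizer ((sigmaCore M ⊔ A : Subgroup G) : Set G) :=
  r2_of_cent hG e
    (Cfsg.Agent.Lib.Helper56.BG117.hcent hG e (sigmaHallIn_of_coatom hG e.coatom)
      (e.bg_11_6_c hG) (Cfsg.Agent.Lib.Helper60.BG117.hstar hG e))

end Cfsg.Agent.Lib.Helper47.BG117
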