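import Cfsg.Agent.Lib.Helper21.BG139Cfg
import Cfsg.Agent.Lib.Helper68.BG1215a

set_option autoImplicit false
set_option linter.style.haveILetI false
set_option linter.unusedSectionVars false

/-!
# BG 13.9 (S1378), piece T7 of the plan: semiprime action of `T`, `C_P(x) = 1`, `τ₁(M) = τ₁(N)`

The pieces T2 (`semiprime_tau1`), T3 (`Cfg.le_sigmaCore`) and T6 (`Cfg.hallT`) are taken as
explicit hypotheses in the shapes of the plan.
-/

namespace Cfsg.Agent.Lib.Helper47.BG139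

open Subgroup Cfsg Cfsg.Agent.Lib.Helper21.BG139 Cfsg.Agent.Lib.Helper33

universe u

variable {G : Type u} [Group G] [Finite G]

/-- the conclusion of piece T2 (`semiprime_tau1`) for the maximal subgroup `M` -/
def SemiT2 (M : Subgroup G) : Prop :=
  ∀ E T : Subgroup G, IsComplIn E (sigmaCore M) M → IsPiHallOf (tau1 M) T E →
    ∀ x ∈ T, x ≠ 1 →
      sigmaCore M ⊓ centralizer ({x} : Set G) = sigmaCore M ⊓ centralizer (T : Set G)

/-- the conclusion of piece T6 (`Cfg.hallT`) -/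
def HallT6 (M N : Subgroup G) {p : ℕ} [Fact p.Prime] (P : Sylow p G) (T : Subgroup G) : Prop :=
  IsPiHallOf (tau1 M) T M ∧ IsCyclic T ∧ (↑P : Subgroup G) ⊓ centralizer (T : Set G) = ⊥ ∧
    ∃ E : Subgroup G, IsComplIn E (sigmaCore M) M ∧ E ≤ M ⊓ N ∧ T ≤ E

/-- a Hall subgroup of `M` lying in `E ≤ M` is a Hall subgroup of `E` -/
theorem isPiHallOf_of_le {π : Set ℕ} {T E M : Subgroup G} (h : IsPiHallOf π T M) (hTE : T ≤ E)
    (hEM : E ≤ M) : IsPiHallOf π T E := by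
  refine ⟨hTE, h.2.1, fun q hq hqπ hd => h.2.2 q hq hqπ ?_⟩
  rw [← Subgroup.relIndex_mul_relIndex T E M hTE hEM]
  exact Dvd.dvd.mul_right hd _

/-- Hall's existence theorem inside a proper subgroup of a minimal simple group of odd order -/
theorem exists_isPiHallOf (hG : IsMinSimpleOddOrder G) (π : Set ℕ) {K : Subgroup G}
    (hK : K ≠ ⊤) : ∃ T : Subgroup G, IsPiHallOf π T K := by
  haveI : Group.IsSolvable ↥K := hG.2.2.2 K hK
  obtain ⟨m, n, hmn, hcopmn, hmπ, hnπ⟩ :=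
    Cfsg.Agent.Lib.Helper19.HallRel.pi_factorization π (Nat.card K) Nat.card_pos
  obtain ⟨T, hTK, hTc, -⟩ := Cfsg.Agent.Lib.Helper68.BG1215.hall_exists_ge m n hmn hcopmn
    (bot_le : (⊥ : Subgroup G) ≤ K) (by rw [Subgroup.card_bot]; exact Nat.coprime_one_left n)
  refine ⟨T, hTK, fun r hr hrd => hmπ r hr (hTc ▸ hrd), fun r hr hrπ hrd => ?_⟩
  have h1 : Nat.card T * T.relIndex K = Nat.card K := card_mul_relIndex_eq' hTK
  rw [hTc, hmn] at h1
  have hm0 : 0 < m := by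
    rcases Nat.eq_zero_or_pos m with h0 | h0
    · rw [h0, zero_mul] at hmn
      exact absurd hmn (Nat.card_pos (α := ↥K)).ne'
    · exact h0
  have h2 : T.relIndex K = n := Nat.eq_of_mul_eq_mul_left hm0 h1
  exact hnπ r hr (h2 ▸ hrd) hrπ

variable {M N : Subgroup G} {p : ℕ} [Fact p.Prime] {P : Sylow p G}

/-- T7 (first part): `T` acts semiprimely on `M_σ`. -/
theorem Cfg.semiprime (_c : Cfg M N p P) {T : Subgroup G} (hT2 : SemiT2 M)
    (hT6 : HallT6 M N P T) :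
    ∀ x ∈ T, x ≠ 1 →
      sigmaCore M ⊓ centralizer ({x} : Set G) = sigmaCore M ⊓ centralizer (T : Set G) := by
  obtain ⟨hTM, -, -, E, hE, -, hTE⟩ := hT6
  exact hT2 E T hE (isPiHallOf_of_le hTM hTE hE.1)

/-- T7 (second part): every non-identity element of `T` acts fixed-point-freely on `P`. -/
theorem Cfg.fpf (c : Cfg M N p P) {T : Subgroup G} (hT2 : SemiT2 M)
    (hT6 : HallT6 M N P T) (hP : (↑P : Subgroup G) ≤ sigmaCore M) :
    ∀ x ∈ T, x ≠ 1 → (↑P : Subgroup G) ⊓ centralizer ({x} : Set G) = ⊥ := by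
  intro x hx hx1
  have h1 := Cfg.semiprime c hT2 hT6 x hx hx1
  rw [eq_bot_iff, ← hT6.2.2.1]
  refine le_inf inf_le_left ?_
  have h2 : (↑P : Subgroup G) ⊓ centralizer ({x} : Set G) ≤
      sigmaCore M ⊓ centralizer ({x} : Set G) := inf_le_inf_right _ hP
  rw [h1] at h2
  exact h2.trans inf_le_right

/-- a prime of a Hall `π`-subgroup: `t ∈ π`, `t ∣ |M|` gives `t ∣ |T|` -/
theorem dvd_card_of_isPiHallOf {π : Set ℕ} {T M : Subgroup G} (h : IsPiHallOf π T M) {t : ℕ}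
    (ht : t.Prime) (htπ : t ∈ π) (htM : t ∣ Nat.card M) : t ∣ Nat.card T := by
  have h1 : Nat.card T * T.relIndex M = Nat.card M := card_mul_relIndex_eq' h.1
  rw [← h1] at htM
  rcases (Nat.Prime.dvd_mul ht).1 htM with h2 | h2
  · exact h2
  · exact absurd h2 (h.2.2 t ht htπ)

/-- T7 (third part, one inclusion): `τ₁(M) ⊆ τ₁(N)`. -/
theorem Cfg.tau1_subset (c : Cfg M N p P) (h31 : Stmt131a G) {T : Subgroup G} (hT2 : SemiT2 M)
    (hT6 : HallT6 M N P T) (hP : (↑P : Subgroup G) ≤ sigmaCore M) : tau1 M ⊆ tau1 N := by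
  intro t ht
  by_contra htN
  have htp : t.Prime := ht.1
  haveI : Fact t.Prime := ⟨htp⟩
  have htT : t ∣ Nat.card T := dvd_card_of_isPiHallOf hT6.1 htp ht ht.2.2.1
  obtain ⟨x, hx⟩ := exists_prime_orderOf_dvd_card' (G := ↥T) t htT
  have hx1 : (x : G) ≠ 1 := by
    intro h
    have : x = 1 := Subtype.ext h
    rw [this, orderOf_one] at hx
    exact htp.one_lt.ne hx
  have hfp := Cfg.fpf c hT2 hT6 hP (x : G) x.2 hx1
  obtain ⟨-, -, -, E, -, hEMN, hTE⟩ := hT6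
  -- the subgroup generated by `x`
  have hox : orderOf (x : G) = t := by rw [Subgroup.orderOf_coe]; exact hx
  have hXp : IsPGroup t ↥(zpowers (x : G)) := by
    apply IsPGroup.of_card (n := 1)
    rw [Nat.card_zpowers, hox, pow_one]
  have hXle : zpowers (x : G) ≤ M ⊓ N := by
    rw [Subgroup.zpowers_le]
    exact hEMN (hTE x.2)
  have hcent := h31 M N c.hM c.hN c.hnc t htp ht.2.1 htN (zpowers (x : G)) hXp hXle
  have hPle : (↑P : Subgroup G) ≤ (↑P : Subgroup G) ⊓ centralizer ({(x : G)} : Set G) := by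
    refine le_inf le_rfl ?_
    intro y hy
    have h1 : y ∈ centralizer ((zpowers (x : G) : Subgroup G) : Set G) :=
      hcent ⟨hP hy, c.hPN hy⟩
    rw [Subgroup.mem_centralizer_iff] at h1 ⊢
    intro z hz
    rw [Set.mem_singleton_iff] at hz
    subst hz
    exact h1 _ (Subgroup.mem_zpowers _)
  rw [hfp, le_bot_iff] at hPle
  have hpd : p ∣ Nat.card G := c.hpM.2.1.trans (Subgroup.card_subgroup_dvd_card M)
  exact Sylow.ne_bot_of_dvd_card P hpd hPle

/-- T7 (third part): `τ₁(M) = τ₁(N)`. -/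
theorem Cfg.tau1_eq (c : Cfg M N p P) (h31 : Stmt131a G) {T T' : Subgroup G}
    (hT2 : SemiT2 M) (hT6 : HallT6 M N P T) (hP : (↑P : Subgroup G) ≤ sigmaCore M)
    (hT2' : SemiT2 N) (hT6' : HallT6 N M P T') (hP' : (↑P : Subgroup G) ≤ sigmaCore N) :
    tau1 M = tau1 N :=
  Set.Subset.antisymm (Cfg.tau1_subset c h31 hT2 hT6 hP)
    (Cfg.tau1_subset c.symm h31 hT2' hT6' hP')

/-- T7 (third part, global form): if T2, T3 and T6 hold for every configuration, then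
`τ₁(M) = τ₁(N)`. -/
theorem Cfg.tau1_eq' (hG : IsMinSimpleOddOrder G) (c : Cfg M N p P) (h31 : Stmt131a G)
    (hT2 : ∀ M : Subgroup G, IsCoatom M → SemiT2 M)
    (hT3 : ∀ (M N : Subgroup G) (p : ℕ) [Fact p.Prime] (P : Sylow p G), Cfg M N p P →
      (↑P : Subgroup G) ≤ sigmaCore M)
    (hT6 : ∀ (M N : Subgroup G) (p : ℕ) [Fact p.Prime] (P : Sylow p G), Cfg M N p P →
      ∀ T : Subgroup G, IsPiHallOf (tau1 M) T (M ⊓ N) → HallT6 M N P T) :
    tau1 M = tau1 N := by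
  have hMN : M ⊓ N ≠ ⊤ := fun h => c.hM.1 (top_le_iff.mp (h ▸ inf_le_left))
  obtain ⟨T, hT⟩ := exists_isPiHallOf hG (tau1 M) hMN
  obtain ⟨T', hT'⟩ := exists_isPiHallOf hG (tau1 N) hMN
  have hT'' : IsPiHallOf (tau1 N) T' (N ⊓ M) := by rwa [inf_comm]
  exact Cfg.tau1_eq c h31 (hT2 M c.hM) (hT6 M N p P c T hT) (hT3 M N p P c)
    (hT2 N c.hN) (hT6 N M p P c.symm T' hT'') (hT3 N M p P c.symm)

/-! ### the same with the prime-order form of 13.1(a') -/

/-- prime-order form of 13.1(a') (same text as `Helper21.BG139.Stmt131p`) -/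
def Stmt131p' (G : Type u) [Group G] : Prop :=
  ∀ M H : Subgroup G, IsCoatom M → IsCoatom H →
    (∀ g : G, H ≠ M.map (MulAut.conj g).toMonoidHom) →
    ∀ t : ℕ, t.Prime → t ∉ sigma M → t ∉ tau1 H →
    ∀ T C : Subgroup G, Nat.card T = t → T ≤ H → C ≤ H → C ≤ sigmaCore M →
      T ≤ normalizer (C : Set G) → C ≤ centralizer (T : Set G)

theorem mem_normalizer_inf_of_mem {H K : Subgroup G} {g : G} (hH : g ∈ normalizer (H : Set G))
    (hK : g ∈ normalizer (K : Set G)) : g ∈ normalizer ((H ⊓ K : Subgroup G) : Set G) := by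
  rw [Subgroup.mem_normalizer_iff] at hH hK ⊢
  intro y
  rw [Subgroup.mem_inf, Subgroup.mem_inf, ← hH y, ← hK y]

/-- T7 (third part, one inclusion), prime-order form: `τ₁(M) ⊆ τ₁(N)`. -/
theorem Cfg.tau1_subset_p (c : Cfg M N p P) (h31 : Stmt131p' G) {T : Subgroup G} (hT2 : SemiT2 M)
    (hT6 : HallT6 M N P T) (hP : (↑P : Subgroup G) ≤ sigmaCore M) : tau1 M ⊆ tau1 N := by
  intro t ht
  by_contra htN
  have htp : t.Prime := ht.1
  haveI : Fact t.Prime := ⟨htp⟩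
  have htT : t ∣ Nat.card T := dvd_card_of_isPiHallOf hT6.1 htp ht ht.2.2.1
  obtain ⟨x, hx⟩ := exists_prime_orderOf_dvd_card' (G := ↥T) t htT
  have hx1 : (x : G) ≠ 1 := by
    intro h
    have : x = 1 := Subtype.ext h
    rw [this, orderOf_one] at hx
    exact htp.one_lt.ne hx
  have hfp := Cfg.fpf c hT2 hT6 hP (x : G) x.2 hx1
  obtain ⟨-, -, -, E, -, hEMN, hTE⟩ := hT6
  have hox : orderOf (x : G) = t := by rw [Subgroup.orderOf_coe]; exact hx
  have hxMN : (x : G) ∈ M ⊓ N := hEMN (hTE x.2)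
  have hXN : zpowers (x : G) ≤ N := by
    rw [Subgroup.zpowers_le]; exact hxMN.2
  have hXnorm : zpowers (x : G) ≤ normalizer ((sigmaCore M ⊓ N : Subgroup G) : Set G) := by
    rw [Subgroup.zpowers_le]
    exact mem_normalizer_inf_of_mem
      (Cfsg.Agent.Lib.Helper24.BG.le_normalizer_sigmaCore M hxMN.1) (le_normalizer hxMN.2)
  have hcent := h31 M N c.hM c.hN c.hnc t htp ht.2.1 htN (zpowers (x : G)) (sigmaCore M ⊓ N)
    (by rw [Nat.card_zpowers, hox]) hXN inf_le_right inf_le_left hXnorm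
  have hPle : (↑P : Subgroup G) ≤ (↑P : Subgroup G) ⊓ centralizer ({(x : G)} : Set G) := by
    refine le_inf le_rfl ?_
    intro y hy
    have h1 : y ∈ centralizer ((zpowers (x : G) : Subgroup G) : Set G) :=
      hcent ⟨hP hy, c.hPN hy⟩
    rw [Subgroup.mem_centralizer_iff] at h1 ⊢
    intro z hz
    rw [Set.mem_singleton_iff] at hz
    subst hz
    exact h1 _ (Subgroup.mem_zpowers _)
  rw [hfp, le_bot_iff] at hPle
  have hpd : p ∣ Nat.card G := c.hpM.2.1.trans (Subgroup.card_subgroup_dvd_card M)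
  exact Sylow.ne_bot_of_dvd_card P hpd hPle

/-- T7 (third part), prime-order form: `τ₁(M) = τ₁(N)`. -/
theorem Cfg.tau1_eq_p (c : Cfg M N p P) (h31 : Stmt131p' G) {T T' : Subgroup G}
    (hT2 : SemiT2 M) (hT6 : HallT6 M N P T) (hP : (↑P : Subgroup G) ≤ sigmaCore M)
    (hT2' : SemiT2 N) (hT6' : HallT6 N M P T') (hP' : (↑P : Subgroup G) ≤ sigmaCore N) :
    tau1 M = tau1 N :=
  Set.Subset.antisymm (Cfg.tau1_subset_p c h31 hT2 hT6 hP)
    (Cfg.tau1_subset_p c.symm h31 hT2' hT6' hP')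

/-- T7 (third part, global form), prime-order form. -/
theorem Cfg.tau1_eq_p' (hG : IsMinSimpleOddOrder G) (c : Cfg M N p P) (h31 : Stmt131p' G)
    (hT2 : ∀ M : Subgroup G, IsCoatom M → SemiT2 M)
    (hT3 : ∀ (M N : Subgroup G) (p : ℕ) [Fact p.Prime] (P : Sylow p G), Cfg M N p P →
      (↑P : Subgroup G) ≤ sigmaCore M)
    (hT6 : ∀ (M N : Subgroup G) (p : ℕ) [Fact p.Prime] (P : Sylow p G), Cfg M N p P →
      ∀ T : Subgroup G, IsPiHallOf (tau1 M) T (M ⊓ N) → HallT6 M N P T) :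
    tau1 M = tau1 N := by
  have hMN : M ⊓ N ≠ ⊤ := fun h => c.hM.1 (top_le_iff.mp (h ▸ inf_le_left))
  obtain ⟨T, hT⟩ := exists_isPiHallOf hG (tau1 M) hMN
  obtain ⟨T', hT'⟩ := exists_isPiHallOf hG (tau1 N) hMN
  have hT'' : IsPiHallOf (tau1 N) T' (N ⊓ M) := by rwa [inf_comm]
  exact Cfg.tau1_eq_p c h31 (hT2 M c.hM) (hT6 M N p P c T hT) (hT3 M N p P c)
    (hT2 N c.hN) (hT6 N M p P c.symm T' hT'') (hT3 N M p P c.symm)

end Cfsg.Agent.Lib.Helper47.BG139
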