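import Cfsg.Agent.Lib.Helper56.FrobApply
import Cfsg.Agent.Lib.Helper24.Coprime
import Cfsg.Agent.Lib.Helper24.CoprimeAbelian

set_option autoImplicit false
set_option linter.style.haveILetI false
set_option linter.unusedSectionVars false

/-!
# A Frobenius group acting with cyclic fixed points (for Bender–Glauberman 12.17)

**Lemma F.**  Let `QP` be a Frobenius group (kernel `Q`, complement `P`) acting coprimely on an
`s`-group `S`.  If `C_S(P)` and `C_S(Q)` are cyclic and `C_S(QP) ≠ 1`, then `S` is cyclic.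
-/

namespace Cfsg.Agent.Lib.Helper47.BG12

open Subgroup Cfsg.Agent.Lib.Helper24

universe u

variable {G : Type u} [Group G] [Finite G]

/-- in a cyclic subgroup, the elements of order dividing a prime `s` form a single subgroup of
order `s` -/
theorem mem_zpowers_of_isCyclic {C : Subgroup G} (hC : IsCyclic ↥C) {s : ℕ} (hs : s.Prime)
    {a b : G} (ha : a ∈ C) (hb : b ∈ C) (has : a ^ s = 1) (ha1 : a ≠ 1) (hbs : b ^ s = 1) :
    b ∈ zpowers a := by
  classical
  haveI : Fintype ↥C := Fintype.ofFinite _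
  have hle := IsCyclic.card_pow_eq_one_le (α := ↥C) hs.pos
  set a' : ↥C := ⟨a, ha⟩ with ha'
  set b' : ↥C := ⟨b, hb⟩ with hb'
  have has' : a' ^ s = 1 := Subtype.ext (by simpa using has)
  haveI : Fact s.Prime := ⟨hs⟩
  have horder : orderOf a' = s :=
    orderOf_eq_prime has' (fun h => ha1 (congrArg Subtype.val h))
  set Z : Finset ↥C := (Finset.range s).image (fun i => a' ^ i) with hZ
  have hZcard : Z.card = s := by
    rw [hZ, Finset.card_image_of_injOn, Finset.card_range]
    intro i hi j hj hij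
    have hi' : i ∈ Set.Iio (orderOf a') := by
      rw [horder]; exact Finset.mem_range.mp (Finset.mem_coe.mp hi)
    have hj' : j ∈ Set.Iio (orderOf a') := by
      rw [horder]; exact Finset.mem_range.mp (Finset.mem_coe.mp hj)
    exact pow_injOn_Iio_orderOf hi' hj' hij
  have hZsub : Z ⊆ Finset.univ.filter (fun x : ↥C => x ^ s = 1) := by
    intro x hx
    obtain ⟨i, -, rfl⟩ := Finset.mem_image.mp hx
    rw [Finset.mem_filter]
    refine ⟨Finset.mem_univ _, ?_⟩
    rw [← pow_mul, mul_comm, pow_mul, has', one_pow]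
  have heq : Z = Finset.univ.filter (fun x : ↥C => x ^ s = 1) :=
    Finset.eq_of_subset_of_card_le hZsub (by rw [hZcard]; exact hle)
  have hbZ : b' ∈ Z := by
    rw [heq, Finset.mem_filter]
    exact ⟨Finset.mem_univ _, Subtype.ext (by simpa using hbs)⟩
  obtain ⟨i, -, hi⟩ := Finset.mem_image.mp hbZ
  refine ⟨(i : ℤ), ?_⟩
  have := congrArg Subtype.val hi
  simpa using this

/-- a nontrivial `s`-subgroup has an element of order `s` -/
theorem exists_order_prime {H : Subgroup G} {s : ℕ} [hs : Fact s.Prime] (hH : IsPGroup s H)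
    (hne : H ≠ ⊥) : ∃ y ∈ H, y ^ s = 1 ∧ y ≠ 1 := by
  have hcard : Nat.card H ≠ 1 := fun h => hne (Subgroup.card_eq_one.mp h)
  have hdvd : s ∣ Nat.card H := by
    rcases hH.card_eq_or_dvd with h | h
    · exact absurd h hcard
    · exact h
  obtain ⟨y, hy⟩ := exists_prime_orderOf_dvd_card' s hdvd
  refine ⟨y, y.2, ?_, ?_⟩
  · have : y ^ s = 1 := by rw [← hy]; exact pow_orderOf_eq_one y
    simpa using congrArg Subtype.val this
  · intro h
    have : y = 1 := Subtype.ext h
    rw [this, orderOf_one] at hy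
    exact hs.out.one_lt.ne hy

/-- a group acting coprimely on a cyclic `s`-group with a nontrivial fixed point acts trivially -/
theorem le_centralizer_of_isCyclic_of_fix {A N : Subgroup G} {s : ℕ} [hs : Fact s.Prime]
    (hN : IsPGroup s N) (hNc : IsCyclic ↥N) (hAN : A ≤ normalizer (N : Set G))
    (hcop : (Nat.card A).Coprime (Nat.card N)) (hfix : N ⊓ centralizer (A : Set G) ≠ ⊥) :
    N ≤ centralizer (A : Set G) := by
  haveI : IsMulCommutative ↥N := IsCyclic.isMulCommutative
  have hbot := commutator_inf_centralizer_eq_bot_of_abelian N A hAN hcop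
  have hcomm : ⁅N, A⁆ = ⊥ := by
    by_contra hne
    have hle : ⁅N, A⁆ ≤ N := commutator_le_of_le_normalizer N A hAN
    obtain ⟨y, hy, hys, hy1⟩ := exists_order_prime (hN.to_le hle) hne
    obtain ⟨x, hx, hxs, hx1⟩ := exists_order_prime (hN.to_le inf_le_left) hfix
    have hxy : x ∈ zpowers y := mem_zpowers_of_isCyclic hNc hs.out (hle hy) hx.1 hys hy1 hxs
    have hx2 : x ∈ ⁅N, A⁆ := (zpowers_le.mpr hy) hxy
    have : x ∈ ⁅N, A⁆ ⊓ centralizer (A : Set G) := ⟨hx2, hx.2⟩
    rw [hbot, mem_bot] at this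
    exact hx1 this
  exact commutator_eq_bot_iff_le_centralizer.mp hcomm

open Cfsg.Agent.Lib.Helper33 in
/-- an element normalizing two subgroups normalizes their commutator -/
theorem mem_normalizer_commutator {H K : Subgroup G} {g : G} (hH : g ∈ normalizer (H : Set G))
    (hK : g ∈ normalizer (K : Set G)) : g ∈ normalizer ((⁅H, K⁆ : Subgroup G) : Set G) := by
  rw [← cj_eq_self_iff] at hH hK ⊢
  rw [cj_def, Subgroup.map_commutator, ← cj_def, ← cj_def, hH, hK]

open Cfsg.Agent.Lib.Helper33 in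
/-- an element normalizing two subgroups normalizes their intersection -/
theorem mem_normalizer_inf {H K : Subgroup G} {g : G} (hH : g ∈ normalizer (H : Set G))
    (hK : g ∈ normalizer (K : Set G)) : g ∈ normalizer ((H ⊓ K : Subgroup G) : Set G) := by
  rw [← cj_eq_self_iff] at hH hK ⊢
  rw [cj_inf, hH, hK]

/-- an element normalizing `K` normalizes `C_G(K)` -/
theorem mem_normalizer_centralizer' {K : Subgroup G} {g : G} (hK : g ∈ normalizer (K : Set G)) :
    g ∈ normalizer ((centralizer (K : Set G) : Subgroup G) : Set G) := by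
  have key : ∀ e : G, e ∈ normalizer (K : Set G) → ∀ h ∈ centralizer (K : Set G),
      e * h * e⁻¹ ∈ centralizer (K : Set G) := by
    intro e he h hh
    rw [mem_centralizer_iff] at hh ⊢
    intro u hu
    have hu' : e⁻¹ * u * e ∈ K := by
      have := (mem_normalizer_iff.mp (inv_mem he) u).mp hu
      simpa using this
    have h1 := hh _ hu'
    calc u * (e * h * e⁻¹) = e * ((e⁻¹ * u * e) * h) * e⁻¹ := by group
      _ = e * (h * (e⁻¹ * u * e)) * e⁻¹ := by rw [h1]
      _ = e * h * e⁻¹ * u := by group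
  rw [mem_normalizer_iff]
  intro h
  constructor
  · exact key g hK h
  · intro hh
    have := key g⁻¹ (inv_mem hK) _ hh
    have e1 : g⁻¹ * (g * h * g⁻¹) * g⁻¹⁻¹ = h := by group
    rwa [e1] at this

theorem centralizer_sup_eq_inf (Q P : Subgroup G) :
    centralizer ((Q ⊔ P : Subgroup G) : Set G)
      = centralizer (Q : Set G) ⊓ centralizer (P : Set G) := by
  apply le_antisymm
  · refine le_inf (centralizer_le ?_) (centralizer_le ?_)
    · exact SetLike.coe_subset_coe.mpr le_sup_left
    · exact SetLike.coe_subset_coe.mpr le_sup_right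
  · intro x hx
    have hQ : Q ≤ centralizer ({x} : Set G) := by
      intro q hq
      rw [mem_centralizer_iff]
      intro y hy
      rw [Set.mem_singleton_iff] at hy
      subst hy
      exact (mem_centralizer_iff.mp hx.1 q hq).symm
    have hP : P ≤ centralizer ({x} : Set G) := by
      intro q hq
      rw [mem_centralizer_iff]
      intro y hy
      rw [Set.mem_singleton_iff] at hy
      subst hy
      exact (mem_centralizer_iff.mp hx.2 q hq).symm
    rw [mem_centralizer_iff]
    intro y hy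
    exact (mem_centralizer_iff.mp (sup_le hQ hP hy) x rfl).symm

/-- **Lemma F**, inductive form. -/
theorem lemmaF_aux {Q P : Subgroup G} {s : ℕ} [hs : Fact s.Prime]
    (hPQ : P ≤ normalizer (Q : Set G)) (hP1 : P ≠ ⊥)
    (hfrob : ∀ e ∈ P, e ≠ 1 → ∀ u ∈ Q, e * u = u * e → u = 1) :
    ∀ (n : ℕ) (S : Subgroup G), Nat.card S = n → IsPGroup s S → Q ≤ normalizer (S : Set G) →
      P ≤ normalizer (S : Set G) → (Nat.card S).Coprime (Nat.card ↥(Q ⊔ P)) →
      IsCyclic ↥(S ⊓ centralizer (P : Set G)) → IsCyclic ↥(S ⊓ centralizer (Q : Set G)) →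
      S ⊓ centralizer ((Q ⊔ P : Subgroup G) : Set G) ≠ ⊥ → IsCyclic ↥S := by
  intro n
  induction n using Nat.strong_induction_on with
  | _ n ih =>
  intro S hn hS hQS hPS hcop hcP hcQ hne
  have hcopQ : (Nat.card Q).Coprime (Nat.card S) :=
    (Nat.Coprime.coprime_dvd_right (card_dvd_of_le le_sup_left) hcop).symm
  have hcopP : (Nat.card P).Coprime (Nat.card S) :=
    (Nat.Coprime.coprime_dvd_right (card_dvd_of_le le_sup_right) hcop).symm
  haveI hnilS : Group.IsNilpotent ↥S := hS.isNilpotent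
  have hsolvS : Group.IsSolvable ↥S := inferInstance
  have hCsup := centralizer_sup_eq_inf Q P
  -- the fixed point formula for invariant subgroups
  have formula : ∀ N : Subgroup G, N ≤ S → Q ≤ normalizer (N : Set G) →
      P ≤ normalizer (N : Set G) →
      Nat.card ↥(N ⊓ centralizer ((Q ⊔ P : Subgroup G) : Set G)) ^ Nat.card P * Nat.card N
        = Nat.card ↥(N ⊓ centralizer (P : Set G)) ^ Nat.card P
          * Nat.card ↥(N ⊓ centralizer (Q : Set G)) := by
    intro N hNS hQN hPN
    refine Cfsg.Agent.Lib.Helper56.FrobApply.frobenius_formula Q P N hP1 ?_ hfrob ?_ ?_ ?_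
    · intro e he u hu
      exact (mem_normalizer_iff.mp (hPQ he) u).mp hu
    · intro x hx h hh
      exact (mem_normalizer_iff.mp (sup_le hQN hPN hx) h).mp hh
    · exact Group.isSolvable_of_isSolvable_injective (f := inclusion hNS) (inclusion_injective hNS)
    · exact Nat.Coprime.coprime_dvd_left (card_dvd_of_le hNS) hcop
  -- (1) `P` centralizes `S₀ = C_S(Q)`
  have hPS₀n : P ≤ normalizer ((S ⊓ centralizer (Q : Set G) : Subgroup G) : Set G) := fun e he =>
    mem_normalizer_inf (hPS he) (mem_normalizer_centralizer' (hPQ he))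
  have hS₀P : S ⊓ centralizer (Q : Set G) ≤ centralizer (P : Set G) := by
    refine le_centralizer_of_isCyclic_of_fix (hS.to_le inf_le_left) hcQ hPS₀n
      (Nat.Coprime.coprime_dvd_right (card_dvd_of_le inf_le_left) hcopP) ?_
    intro h
    apply hne
    rw [hCsup, ← inf_assoc]
    exact h
  -- an element of order `s` in `C_S(QP)`
  obtain ⟨x, hx, hxs, hx1⟩ := exists_order_prime (hS.to_le inf_le_left) hne
  have hxS : x ∈ S := hx.1
  have hx2 : x ∈ centralizer (Q : Set G) ⊓ centralizer (P : Set G) := by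
    rw [← hCsup]; exact hx.2
  have hxQ : x ∈ centralizer (Q : Set G) := hx2.1
  have hxP : x ∈ centralizer (P : Set G) := hx2.2
  -- (2) every nontrivial invariant subgroup meets `C(Q)`
  have step2 : ∀ N : Subgroup G, N ≤ S → Q ≤ normalizer (N : Set G) →
      P ≤ normalizer (N : Set G) → N ≠ ⊥ → N ⊓ centralizer (Q : Set G) ≠ ⊥ := by
    intro N hNS hQN hPN hN1 hbot
    have hbot2 : N ⊓ centralizer ((Q ⊔ P : Subgroup G) : Set G) = ⊥ := by
      rw [eq_bot_iff, ← hbot, hCsup]
      exact inf_le_inf_left _ inf_le_left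
    have hf := formula N hNS hQN hPN
    rw [hbot, hbot2, Subgroup.card_bot, one_pow, one_mul, mul_one] at hf
    have hCP : N ⊓ centralizer (P : Set G) ≠ ⊥ := by
      intro h
      rw [h, Subgroup.card_bot, one_pow] at hf
      exact hN1 (Subgroup.card_eq_one.mp hf)
    obtain ⟨y, hy, hys, hy1⟩ := exists_order_prime (hS.to_le (inf_le_left.trans hNS)) hCP
    have hxy : x ∈ zpowers y :=
      mem_zpowers_of_isCyclic hcP hs.out ⟨hNS hy.1, hy.2⟩ ⟨hxS, hxP⟩ hys hy1 hxs
    have hxN : x ∈ N := (zpowers_le.mpr hy.1) hxy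
    have : x ∈ N ⊓ centralizer (Q : Set G) := ⟨hxN, hxQ⟩
    rw [hbot, mem_bot] at this
    exact hx1 this
  -- (3) every proper invariant subgroup is centralized by `Q`
  have step3 : ∀ N : Subgroup G, N ≤ S → Q ≤ normalizer (N : Set G) →
      P ≤ normalizer (N : Set G) → N ≠ S → N ≤ centralizer (Q : Set G) := by
    intro N hNS hQN hPN hNne
    by_cases hN1 : N = ⊥
    · rw [hN1]; exact bot_le
    have hfix := step2 N hNS hQN hPN hN1
    have hlt : Nat.card N < n := by
      rw [← hn]
      by_contra hge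
      exact hNne (eq_of_le_of_card_ge hNS (not_lt.mp hge))
    have hNcyc : IsCyclic ↥N := by
      refine ih (Nat.card N) hlt N rfl (hS.to_le hNS) hQN hPN
        (Nat.Coprime.coprime_dvd_left (card_dvd_of_le hNS) hcop) ?_ ?_ ?_
      · haveI := hcP
        exact Subgroup.isCyclic_of_le (inf_le_inf_right _ hNS)
      · haveI := hcQ
        exact Subgroup.isCyclic_of_le (inf_le_inf_right _ hNS)
      · intro h
        apply hfix
        rw [eq_bot_iff, ← h, hCsup]
        intro y hy
        exact ⟨hy.1, hy.2, hS₀P ⟨hNS hy.1, hy.2⟩⟩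
    exact le_centralizer_of_isCyclic_of_fix (hS.to_le hNS) hNcyc hQN
      (Nat.Coprime.coprime_dvd_right (card_dvd_of_le hNS) hcopQ) hfix
  -- trivial case
  by_cases hSQ : S ≤ centralizer (Q : Set G)
  · haveI := hcQ
    exact Subgroup.isCyclic_of_le (le_inf le_rfl hSQ)
  exfalso
  -- (4) `[S, Q] = S`
  have hcomSQ : ⁅S, Q⁆ = S := by
    by_contra hne'
    have hle : ⁅S, Q⁆ ≤ S := commutator_le_of_le_normalizer S Q hQS
    have h3 := step3 ⁅S, Q⁆ hle (le_normalizer_commutator_right S Q hQS)
      (fun e he => mem_normalizer_commutator (hPS he) (hPQ he)) hne'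
    have h4 : ⁅⁅S, Q⁆, Q⁆ = ⊥ := commutator_eq_bot_iff_le_centralizer.mpr h3
    rw [commutator_commutator_eq Q S hQS hcopQ (Or.inr hsolvS)] at h4
    exact hSQ (commutator_eq_bot_iff_le_centralizer.mp h4)
  -- (5) `S' ≤ Z(S)`
  have hS1 : S ≠ ⊥ := fun h => hne (by rw [h]; exact bot_inf_eq _)
  have hder_lt : ⁅S, S⁆ < S := by
    have h1 : ⁅S, S⁆ ≤ S := commutator_le_of_le_normalizer S S le_normalizer
    refine lt_of_le_of_ne h1 ?_
    intro h
    haveI : Nontrivial ↥S := (nontrivial_iff_ne_bot S).mpr hS1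
    have h2 := Group.IsSolvable.commutator_lt_top_of_nontrivial ↥S
    have h3 : (commutator ↥S).map S.subtype = S := by
      rw [Subgroup.map_subtype_commutator, h]
    have h4 : commutator ↥S = ⊤ := by
      apply Subgroup.map_injective S.subtype_injective
      rw [h3, ← MonoidHom.range_eq_map, Subgroup.range_subtype]
    exact h2.ne h4
  have hderQ : ⁅S, S⁆ ≤ centralizer (Q : Set G) :=
    step3 ⁅S, S⁆ hder_lt.le (fun e he => mem_normalizer_commutator (hQS he) (hQS he))
      (fun e he => mem_normalizer_commutator (hPS he) (hPS he)) hder_lt.ne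
  have hderP : ⁅S, S⁆ ≤ centralizer (P : Set G) := fun y hy => hS₀P ⟨hder_lt.le hy, hderQ hy⟩
  have hcentral : ⁅S, ⁅S, S⁆⁆ = ⊥ := by
    have h1 : ⁅⁅Q, ⁅S, S⁆⁆, S⁆ = ⊥ := by
      have : ⁅Q, ⁅S, S⁆⁆ = ⊥ := by
        rw [commutator_comm]; exact commutator_eq_bot_iff_le_centralizer.mpr hderQ
      rw [this]; exact commutator_bot_left S
    have h2 : ⁅⁅⁅S, S⁆, S⁆, Q⁆ = ⊥ := by
      apply commutator_eq_bot_iff_le_centralizer.mpr
      refine le_trans ?_ hderQ
      exact commutator_le_of_le_normalizer ⁅S, S⁆ S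
        (fun e he => mem_normalizer_commutator (le_normalizer he) (le_normalizer he))
    have h3 := commutator_commutator_eq_bot_of_rotate h1 h2
    rwa [hcomSQ] at h3
  -- (6) `C_S(P) ≤ Z(S)`
  have hAS : S ≤ centralizer ((S ⊓ centralizer (P : Set G) : Subgroup G) : Set G) := by
    set A := S ⊓ centralizer (P : Set G) with hA
    have h1 : ⁅⁅P, A⁆, S⁆ = ⊥ := by
      have : ⁅P, A⁆ = ⊥ := by
        rw [commutator_comm]; exact commutator_eq_bot_iff_le_centralizer.mpr inf_le_right
      rw [this]; exact commutator_bot_left S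
    have h2 : ⁅⁅A, S⁆, P⁆ = ⊥ := by
      apply commutator_eq_bot_iff_le_centralizer.mpr
      exact le_trans (commutator_mono inf_le_left le_rfl) hderP
    have h3 : ⁅⁅S, P⁆, A⁆ = ⊥ := commutator_commutator_eq_bot_of_rotate h1 h2
    have h4 : ⁅S, P⁆ ≤ centralizer (A : Set G) := commutator_eq_bot_iff_le_centralizer.mp h3
    have h5 : A ≤ centralizer (A : Set G) := by
      haveI : IsMulCommutative ↥A := @IsCyclic.isMulCommutative _ _ hcP
      intro a ha
      rw [mem_centralizer_iff]
      intro b hb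
      exact congrArg Subtype.val (this.is_comm.comm (⟨b, hb⟩ : ↥A) ⟨a, ha⟩)
    have h6 := commutator_sup_centralizer_eq P S hPS hcopP (Or.inr hsolvS)
    rw [← h6]
    exact sup_le h4 h5
  -- (7) `C_S(P) ≤ C_S(Q)`
  have hAQ : S ⊓ centralizer (P : Set G) ≤ centralizer (Q : Set G) := by
    set Z := S ⊓ centralizer (S : Set G) with hZ
    have hAZ : S ⊓ centralizer (P : Set G) ≤ Z :=
      le_inf inf_le_left (Subgroup.le_centralizer_iff.mp hAS)
    by_cases hZS : Z = S
    · exfalso
      have hSc : S ≤ centralizer (S : Set G) := by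
        intro y hy
        have hyZ : y ∈ Z := by rw [hZS]; exact hy
        exact hyZ.2
      haveI : IsMulCommutative ↥S := ⟨⟨fun a b => Subtype.ext
        ((mem_centralizer_iff.mp (hSc b.2) a a.2))⟩⟩
      have hb := commutator_inf_centralizer_eq_bot_of_abelian S Q hQS hcopQ
      rw [hcomSQ] at hb
      have : x ∈ S ⊓ centralizer (Q : Set G) := ⟨hxS, hxQ⟩
      rw [hb, mem_bot] at this
      exact hx1 this
    · have hZQ := step3 Z inf_le_left
        (fun e he => mem_normalizer_inf (hQS he) (mem_normalizer_centralizer' (hQS he)))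
        (fun e he => mem_normalizer_inf (hPS he) (mem_normalizer_centralizer' (hPS he))) hZS
      exact hAZ.trans hZQ
  -- (8) counting
  have hA_eq : S ⊓ centralizer (P : Set G) = S ⊓ centralizer (Q : Set G) :=
    le_antisymm (le_inf inf_le_left hAQ) (le_inf inf_le_left hS₀P)
  have hC_eq : S ⊓ centralizer ((Q ⊔ P : Subgroup G) : Set G) = S ⊓ centralizer (Q : Set G) := by
    rw [hCsup]
    apply le_antisymm (inf_le_inf_left _ inf_le_left)
    intro y hy
    exact ⟨hy.1, hy.2, hS₀P hy⟩
  have hf := formula S le_rfl hQS hPS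
  rw [hC_eq, hA_eq] at hf
  have hpos : 0 < Nat.card ↥(S ⊓ centralizer (Q : Set G)) ^ Nat.card P :=
    pow_pos Nat.card_pos _
  have hcard : Nat.card S = Nat.card ↥(S ⊓ centralizer (Q : Set G)) :=
    Nat.eq_of_mul_eq_mul_left hpos hf
  have hSS₀ : S ⊓ centralizer (Q : Set G) = S :=
    Subgroup.eq_of_le_of_card_ge inf_le_left (le_of_eq hcard)
  exact hSQ (hSS₀ ▸ inf_le_right)

/-- **Lemma F.** A Frobenius group `QP` acting coprimely on an `s`-group `S` with `C_S(P)`,
`C_S(Q)` cyclic and `C_S(QP) ≠ 1`: then `S` is cyclic. -/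
theorem lemmaF {Q P S : Subgroup G} {s : ℕ} [Fact s.Prime] (hPQ : P ≤ normalizer (Q : Set G))
    (hP1 : P ≠ ⊥) (hfrob : ∀ e ∈ P, e ≠ 1 → ∀ u ∈ Q, e * u = u * e → u = 1)
    (hS : IsPGroup s S) (hQS : Q ≤ normalizer (S : Set G)) (hPS : P ≤ normalizer (S : Set G))
    (hcop : (Nat.card S).Coprime (Nat.card ↥(Q ⊔ P)))
    (hcP : IsCyclic ↥(S ⊓ centralizer (P : Set G)))
    (hcQ : IsCyclic ↥(S ⊓ centralizer (Q : Set G)))
    (hne : S ⊓ centralizer ((Q ⊔ P : Subgroup G) : Set G) ≠ ⊥) : IsCyclic ↥S :=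
  lemmaF_aux hPQ hP1 hfrob (Nat.card S) S rfl hS hQS hPS hcop hcP hcQ hne

end Cfsg.Agent.Lib.Helper47.BG12
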