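import Cfsg.Agent.Lib.Helper47.BGLemmaF
import Cfsg.Agent.Lib.Helper47.BG11e
import Cfsg.Agent.S1405
import Cfsg.Agent.S1406
import Cfsg.Agent.S1409
import Cfsg.Agent.Lib.Helper49.RankOneCyclic
import Cfsg.Agent.Lib.Helper76.BGSigU2
import Cfsg.Agent.Lib.Helper63.BG10
import Cfsg.Agent.Lib.Helper63.BG13a
import Cfsg.Agent.Lib.Helper56.BG10a
import Cfsg.Agent.Lib.Helper56.BG117A
import Cfsg.Agent.Lib.Helper96.BG103
import Cfsg.Agent.Lib.Helper33.SylowSub
import Cfsg.Agent.Lib.Helper47.BG117A23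

set_option autoImplicit false
set_option linter.style.haveILetI false
set_option linter.unusedSectionVars false

/-!
# Bender–Glauberman Lemma 12.17 (a)

`L` maximal, `T ≤ L` of prime order `t ∉ σ(L)` with `L` of `t`-rank one, `Q₁ ≠ 1` a `T`-invariant
`q`-subgroup of `L` with `q ∉ α(L)`, `C_{Q₁}(T) = 1`, and `C_L(Q₁)` contained in a maximal subgroup
other than `L`.  Then `C_{L_α}(Q₁T) = 1`, and `C_{L_α}(T) ≠ 1` if `L_α ≠ 1`.
-/

namespace Cfsg.Agent.Lib.Helper47.BG12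

open Subgroup Cfsg Cfsg.Agent.Lib.Helper33 Cfsg.Agent.Lib.Helper24 Cfsg.Agent.Lib.Helper23

universe u

variable {G : Type u} [Group G] [Finite G]

/-- contrapositive of S1406: a subgroup `X` of `L` with `C_L(X)` in two maximal subgroups has
`C_{L_α}(X)` of rank at most one -/
theorem rankLE_one_of_not_unique (hG : IsMinSimpleOddOrder G) {L X : Subgroup G} (hL : IsCoatom L)
    (hXL : X ≤ L) (hXα : ∀ p : ℕ, p.Prime → p ∣ Nat.card X → p ∉ alpha L)
    (hnu : ∃ L' : Subgroup G, IsCoatom L' ∧ L' ≠ L ∧ L ⊓ centralizer (X : Set G) ≤ L') :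
    RankLE 1 ↥(alphaCore L ⊓ centralizer (X : Set G)) := by
  by_contra h
  obtain ⟨M₀, -, huniq⟩ := Cfsg.Agent.S1406.result hG L hL X hXL hXα h
  obtain ⟨L', hL', hne, hle'⟩ := hnu
  have h1 : L = M₀ := huniq L ⟨hL, inf_le_left⟩
  have h2 : L' = M₀ := huniq L' ⟨hL', hle'⟩
  exact hne (h2.trans h1.symm)

/-- an `s`-subgroup (`s` odd) of a group of rank at most one is cyclic -/
theorem isCyclic_of_le_of_rankLE_one {s : ℕ} [hs : Fact s.Prime] (hs2 : s ≠ 2) {D C : Subgroup G}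
    (hD : IsPGroup s D) (hDC : D ≤ C) (hC : RankLE 1 ↥C) : IsCyclic ↥D := by
  have h1 : PRankLE s 1 ↥D :=
    Cfsg.Agent.Lib.Helper76.BGSigU.pRankLE_of_le hDC (hC s hs.out)
  refine Cfsg.Agent.Lib.Helper49.isCyclic_of_isPGroup_rankLEOne hs2 hD ?_
  intro A hA hAe
  have := h1 A hA hAe
  rwa [pow_one] at this

/-- the prime divisors of the order of `Q₁ ⊔ T`, for a `q`-group `Q₁` normalized by `T` of
order `t` -/
theorem prime_dvd_card_sup {Q₁ T : Subgroup G} {t q : ℕ} [ht : Fact t.Prime] [hq : Fact q.Prime]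
    (hTc : Nat.card T = t) (hQq : IsPGroup q Q₁) (hTQ : T ≤ normalizer (Q₁ : Set G)) {l : ℕ}
    (hl : l.Prime) (hdvd : l ∣ Nat.card ↥(Q₁ ⊔ T)) : l = q ∨ l = t := by
  have h1 := Cfsg.Agent.Lib.Helper56.BG117.card_sup_dvd_mul_of_le_normalizer hTQ
  have h2 : l ∣ Nat.card Q₁ * Nat.card T := dvd_trans hdvd h1
  rcases (Nat.Prime.dvd_mul hl).mp h2 with h | h
  · left
    obtain ⟨k, hk⟩ := IsPGroup.iff_card.mp hQq
    rw [hk] at h
    exact (Nat.prime_dvd_prime_iff_eq hl hq.out).mp (hl.dvd_of_dvd_pow h)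
  · right
    rw [hTc] at h
    exact (Nat.prime_dvd_prime_iff_eq hl ht.out).mp h

/-- an elementary abelian subgroup of order more than `s ^ k` prevents `s`-rank `≤ k` -/
theorem not_pRankLE_of_le {s k : ℕ} {E H : Subgroup G} (hEH : E ≤ H)
    (hE : IsElementaryAbelian s E) (hcard : s ^ k < Nat.card E) : ¬ PRankLE s k ↥H := by
  intro hr
  haveI := hE.1
  have h1 := hr (E.subgroupOf H) inferInstance (by
    intro a ha
    apply Subtype.ext
    have := hE.2 (a : G) ha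
    simpa using this)
  rw [Nat.card_congr (Subgroup.subgroupOfEquivOfLe hEH).toEquiv] at h1
  omega

/-- for `s ∈ α(L)`, a Sylow `s`-subgroup of `L` contains an elementary abelian subgroup of order
more than `s ^ 2` -/
theorem exists_large_elemAb_le {L S : Subgroup G} {s : ℕ} [hs : Fact s.Prime] (hsα : s ∈ alpha L)
    (hSL : S ≤ L) (hSp : IsPGroup s S) (hSiL : ¬ s ∣ S.relIndex L) :
    ∃ E : Subgroup G, E ≤ S ∧ IsElementaryAbelian s E ∧ s ^ 2 < Nat.card E := by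
  have hrank := hsα.2
  unfold PRankLE at hrank
  push Not at hrank
  obtain ⟨B, hBc, hBe, hBcard⟩ := hrank
  set B' : Subgroup G := B.map L.subtype with hB'
  have hB'L : B' ≤ L := map_subtype_le _
  have hB'card : Nat.card B' = Nat.card B := card_map_of_injective L.subtype_injective
  have hB'e : IsElementaryAbelian s B' := by
    refine ⟨⟨⟨?_⟩⟩, ?_⟩
    · rintro ⟨_, ⟨a, ha, rfl⟩⟩ ⟨_, ⟨b, hb, rfl⟩⟩
      apply Subtype.ext
      have := hBc.is_comm.comm ⟨a, ha⟩ ⟨b, hb⟩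
      have h2 : a * b = b * a := congrArg Subtype.val this
      show (L.subtype a) * (L.subtype b) = (L.subtype b) * (L.subtype a)
      rw [← map_mul, ← map_mul, h2]
    · rintro _ ⟨a, ha, rfl⟩
      rw [← map_pow, hBe a ha, map_one]
  have hB'p : IsPGroup s B' := by
    intro a
    exact ⟨1, by rw [pow_one]; exact Subtype.ext (by simpa using hB'e.2 a.1 a.2)⟩
  obtain ⟨c, hc, hcle⟩ := sylow_sub hSL hSp hSiL hB'L hB'p
  refine ⟨cj c B', hcle, Cfsg.Agent.Lib.Helper47.BG117.elemAb_cj hB'e c, ?_⟩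
  rw [card_cj, hB'card]
  exact hBcard

section main

variable {L T Q₁ : Subgroup G} {t q : ℕ} [ht : Fact t.Prime] [hq : Fact q.Prime]

/-- `T` acts regularly on `Q₁` elementwise -/
theorem frob_of_reg (hTc : Nat.card T = t) (hreg : Q₁ ⊓ centralizer (T : Set G) = ⊥) :
    ∀ e ∈ T, e ≠ 1 → ∀ u ∈ Q₁, e * u = u * e → u = 1 := by
  intro e he he1 u hu heu
  have hz : zpowers e = T := Cfsg.Agent.Lib.Helper47.BG11.zpowers_eq_of_card_prime hTc he he1
  have huc : u ∈ centralizer ((zpowers e : Subgroup G) : Set G) := by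
    rw [mem_centralizer_iff]
    intro y hy
    obtain ⟨k, rfl⟩ := mem_zpowers_iff.mp hy
    have hc : Commute e u := heu
    exact (hc.zpow_left k).eq
  have : u ∈ Q₁ ⊓ centralizer (T : Set G) := ⟨hu, hz ▸ huc⟩
  rw [hreg, mem_bot] at this
  exact this

theorem t_not_alpha (htr : PRankLE t 1 ↥L) : t ∉ alpha L := by
  intro h
  apply h.2
  intro A hA hAe
  refine le_trans (htr A hA hAe) ?_
  exact Nat.pow_le_pow_right ht.out.pos (by norm_num)

/-- `C_{L_α}(T)` has rank at most one -/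
theorem rankLE_one_cent_T (hG : IsMinSimpleOddOrder G) (hL : IsCoatom L) (htσ : t ∉ sigma L)
    (htr : PRankLE t 1 ↥L) (hTL : T ≤ L) (hTc : Nat.card T = t) :
    RankLE 1 ↥(alphaCore L ⊓ centralizer (T : Set G)) := by
  have htp := ht.out
  by_contra h
  have hXα : ∀ p : ℕ, p.Prime → p ∣ Nat.card T → p ∉ alpha L := by
    intro p hp hdvd
    rw [hTc] at hdvd
    rw [(Nat.prime_dvd_prime_iff_eq hp htp).mp hdvd]
    exact t_not_alpha htr
  obtain ⟨M₀, ⟨hM₀, hle⟩, huniq⟩ := Cfsg.Agent.S1406.result hG L hL T hTL hXα h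
  have hLM₀ : L = M₀ := huniq L ⟨hL, inf_le_left⟩
  have hT1 : T ≠ ⊥ := by
    intro h0
    rw [h0, Subgroup.card_bot] at hTc
    exact htp.one_lt.ne hTc
  have hTtop : T ≠ ⊤ := fun h0 => hL.1 (top_le_iff.mp (h0 ▸ hTL))
  have hNtop := Cfsg.Agent.Lib.Helper63.BG10.normalizer_ne_top hG hT1 hTtop
  obtain ⟨L'', hL'', hNL''⟩ := Cfsg.Agent.Lib.Helper56.BG10.exists_coatom_ge hNtop
  have hL''L : L'' = M₀ :=
    huniq L'' ⟨hL'', (inf_le_right.trans (centralizer_le_normalizer _)).trans hNL''⟩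
  have hNL : normalizer (T : Set G) ≤ L := by rw [hLM₀, ← hL''L]; exact hNL''
  have h9 := Cfsg.Agent.S1409.result hG L hL t htσ T hTc hNL
  exact h9.1.2 htr

/-- **B&G Lemma 12.17 (a)**, second clause. -/
theorem bg_12_17_a (hG : IsMinSimpleOddOrder G) (hL : IsCoatom L) (htσ : t ∉ sigma L)
    (htr : PRankLE t 1 ↥L) (hTL : T ≤ L) (hTc : Nat.card T = t) (hQL : Q₁ ≤ L)
    (hQq : IsPGroup q Q₁) (hqα : q ∉ alpha L) (hTQ : T ≤ normalizer (Q₁ : Set G))
    (hreg : Q₁ ⊓ centralizer (T : Set G) = ⊥)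
    (hnu : ∃ L' : Subgroup G, IsCoatom L' ∧ L' ≠ L ∧ L ⊓ centralizer (Q₁ : Set G) ≤ L') :
    alphaCore L ⊓ centralizer ((Q₁ ⊔ T : Subgroup G) : Set G) = ⊥ := by
  have htp := ht.out
  have hqp := hq.out
  by_contra hX
  set K := alphaCore L with hK
  set A := Q₁ ⊔ T with hA
  have h5 := Cfsg.Agent.S1405.result hG L hL
  have hKL : K ≤ L := h5.1.1
  have hAL : A ≤ L := sup_le hQL hTL
  have hAK : A ≤ normalizer (K : Set G) :=
    hAL.trans (Cfsg.Agent.Lib.Helper96.BG103.le_normalizer_alphaCore L)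
  have htα : t ∉ alpha L := t_not_alpha htr
  -- coprimality
  have hcop : (Nat.card A).Coprime (Nat.card K) := by
    apply Nat.Coprime.symm
    apply Nat.coprime_of_dvd
    intro l hl hlK hlA
    have hlα : l ∈ alpha L := h5.1.2.1 l hl hlK
    rcases prime_dvd_card_sup hTc hQq hTQ hl hlA with rfl | rfl
    · exact hqα hlα
    · exact htα hlα
  have hAtop : A ≠ ⊤ := fun h0 => hL.1 (top_le_iff.mp (h0 ▸ hAL))
  have hsolvA : Group.IsSolvable ↥A := isSolvable_of_ne_top hG hAtop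
  -- an element of prime order in `C_K(A)`
  have hcardX : Nat.card ↥(K ⊓ centralizer (A : Set G)) ≠ 1 :=
    fun h => hX (Subgroup.card_eq_one.mp h)
  obtain ⟨s, hsp, hsdvd⟩ := Nat.exists_prime_and_dvd hcardX
  haveI : Fact s.Prime := ⟨hsp⟩
  obtain ⟨x', hx'⟩ := exists_prime_orderOf_dvd_card' s hsdvd
  set x : G := (x' : G) with hx
  have hxK : x ∈ K := x'.2.1
  have hxA : x ∈ centralizer (A : Set G) := x'.2.2
  have hxo : orderOf x = s := by rw [hx, Subgroup.orderOf_coe]; exact hx'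
  have hx1 : x ≠ 1 := by
    intro h
    rw [h, orderOf_one] at hxo
    exact hsp.one_lt.ne hxo
  have hs2 : s ≠ 2 := by
    intro h
    have h1 : s ∣ Nat.card G := hxo ▸ orderOf_dvd_natCard x
    rw [h] at h1
    exact (Nat.not_even_iff_odd.mpr hG.1) (even_iff_two_dvd.mpr h1)
  -- an `A`-invariant Sylow `s`-subgroup of `K` containing `x`
  have hUp : IsPGroup s (zpowers x) := by
    apply IsPGroup.of_card (n := 1)
    rw [Nat.card_zpowers, hxo, pow_one]
  have hUA : A ≤ normalizer ((zpowers x : Subgroup G) : Set G) := by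
    refine le_trans ?_ (centralizer_le_normalizer _)
    rw [Subgroup.le_centralizer_iff]
    rw [zpowers_le]
    exact hxA
  obtain ⟨Ps, hUS, hAS⟩ := invariant_pSubgroup_le_sylow A K hAK hcop (Or.inl hsolvA) (zpowers x)
    (zpowers_le.mpr hxK) hUp hUA
  obtain ⟨hSK, hSp, hSi⟩ := sylow_map_facts K Ps
  set S : Subgroup G := (Ps : Subgroup ↥K).map K.subtype with hS
  have hxS : x ∈ S := hUS (mem_zpowers x)
  have hQS : Q₁ ≤ normalizer (S : Set G) := le_sup_left.trans hAS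
  have hTS : T ≤ normalizer (S : Set G) := le_sup_right.trans hAS
  have hcopS : (Nat.card S).Coprime (Nat.card ↥(Q₁ ⊔ T)) :=
    (Nat.Coprime.coprime_dvd_right (card_dvd_of_le hSK) hcop).symm
  -- the centralizers are cyclic
  have hXαQ : ∀ p : ℕ, p.Prime → p ∣ Nat.card Q₁ → p ∉ alpha L := by
    intro p hp hdvd
    obtain ⟨k, hk⟩ := IsPGroup.iff_card.mp hQq
    rw [hk] at hdvd
    rw [(Nat.prime_dvd_prime_iff_eq hp hqp).mp (hp.dvd_of_dvd_pow hdvd)]
    exact hqα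
  have hrQ := rankLE_one_of_not_unique hG hL hQL hXαQ hnu
  have hrT := rankLE_one_cent_T hG hL htσ htr hTL hTc
  have hcT : IsCyclic ↥(S ⊓ centralizer (T : Set G)) :=
    isCyclic_of_le_of_rankLE_one hs2 (hSp.to_le inf_le_left) (inf_le_inf_right _ hSK) hrT
  have hcQ : IsCyclic ↥(S ⊓ centralizer (Q₁ : Set G)) :=
    isCyclic_of_le_of_rankLE_one hs2 (hSp.to_le inf_le_left) (inf_le_inf_right _ hSK) hrQ
  have hT1 : T ≠ ⊥ := by
    intro h0
    rw [h0, Subgroup.card_bot] at hTc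
    exact htp.one_lt.ne hTc
  have hne : S ⊓ centralizer ((Q₁ ⊔ T : Subgroup G) : Set G) ≠ ⊥ := by
    intro h
    have : x ∈ S ⊓ centralizer ((Q₁ ⊔ T : Subgroup G) : Set G) := ⟨hxS, hxA⟩
    rw [h, mem_bot] at this
    exact hx1 this
  have hScyc : IsCyclic ↥S :=
    lemmaF hTQ hT1 (frob_of_reg hTc hreg) hSp hQS hTS hcopS hcT hcQ hne
  -- but `S` is a Sylow `s`-subgroup of `L` and `s ∈ α(L)`
  have hsα : s ∈ alpha L := by
    apply h5.1.2.1 s hsp
    rw [← hxo]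
    exact Subgroup.orderOf_dvd_natCard K hxK
  have hSL : S ≤ L := hSK.trans hKL
  have hSiL : ¬ s ∣ S.relIndex L := by
    rw [← Subgroup.relIndex_mul_relIndex S K L hSK hKL]
    intro h
    rcases (Nat.Prime.dvd_mul hsp).mp h with h' | h'
    · exact hSi h'
    · exact h5.1.2.2 s hsp hsα h'
  obtain ⟨E, hES, hEe, hEcard⟩ := exists_large_elemAb_le hsα hSL hSp hSiL
  have hr1 : PRankLE s 1 ↥S := Cfsg.Agent.Lib.Helper63.BG13.pRankLE_one_of_isCyclic hsp hScyc
  refine not_pRankLE_of_le hES hEe ?_ hr1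
  have h3 : s ^ 1 ≤ s ^ 2 := Nat.pow_le_pow_right hsp.pos (by norm_num)
  omega

/-- **B&G Lemma 12.17 (a)**, first clause. -/
theorem bg_12_17_a_ne (hG : IsMinSimpleOddOrder G) (hL : IsCoatom L) (hTL : T ≤ L)
    (hTc : Nat.card T = t) (hQL : Q₁ ≤ L)
    (hQq : IsPGroup q Q₁) (hqα : q ∉ alpha L) (htα : t ∉ alpha L)
    (hTQ : T ≤ normalizer (Q₁ : Set G))
    (hreg : Q₁ ⊓ centralizer (T : Set G) = ⊥)
    (hnu : ∃ L' : Subgroup G, IsCoatom L' ∧ L' ≠ L ∧ L ⊓ centralizer (Q₁ : Set G) ≤ L')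
    (hα : alphaCore L ≠ ⊥) : alphaCore L ⊓ centralizer (T : Set G) ≠ ⊥ := by
  have htp := ht.out
  have hqp := hq.out
  intro hCT
  set K := alphaCore L with hK
  set A := Q₁ ⊔ T with hA
  have h5 := Cfsg.Agent.S1405.result hG L hL
  have hKL : K ≤ L := h5.1.1
  have hAL : A ≤ L := sup_le hQL hTL
  have hLK : L ≤ normalizer (K : Set G) := Cfsg.Agent.Lib.Helper96.BG103.le_normalizer_alphaCore L
  have hcop : (Nat.card A).Coprime (Nat.card K) := by
    apply Nat.Coprime.symm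
    apply Nat.coprime_of_dvd
    intro l hl hlK hlA
    have hlα : l ∈ alpha L := h5.1.2.1 l hl hlK
    rcases prime_dvd_card_sup hTc hQq hTQ hl hlA with rfl | rfl
    · exact hqα hlα
    · exact htα hlα
  have hKtop : K ≠ ⊤ := fun h0 => hL.1 (top_le_iff.mp (h0 ▸ hKL))
  have hsolvK : Group.IsSolvable ↥K := isSolvable_of_ne_top hG hKtop
  have hT1 : T ≠ ⊥ := by
    intro h0
    rw [h0, Subgroup.card_bot] at hTc
    exact htp.one_lt.ne hTc
  have hf := Cfsg.Agent.Lib.Helper56.FrobApply.frobenius_formula Q₁ T K hT1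
    (fun e he u hu => (mem_normalizer_iff.mp (hTQ he) u).mp hu) (frob_of_reg hTc hreg)
    (fun x hx h hh => (mem_normalizer_iff.mp (hLK (hAL hx)) h).mp hh) hsolvK hcop.symm
  have hCA : K ⊓ centralizer ((Q₁ ⊔ T : Subgroup G) : Set G) = ⊥ := by
    rw [eq_bot_iff, ← hCT]
    refine inf_le_inf_left _ (centralizer_le ?_)
    exact SetLike.coe_subset_coe.mpr le_sup_right
  rw [hCA, hCT, Subgroup.card_bot, one_pow, one_mul, one_mul] at hf
  have hKQ : K ≤ centralizer (Q₁ : Set G) := by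
    have : K ⊓ centralizer (Q₁ : Set G) = K := eq_of_le_of_card_ge inf_le_left (le_of_eq hf)
    rw [← this]
    exact inf_le_right
  -- now `K ⊓ C(Q₁) = K` has rank at most one, impossible
  have hXαQ : ∀ p : ℕ, p.Prime → p ∣ Nat.card Q₁ → p ∉ alpha L := by
    intro p hp hdvd
    obtain ⟨k, hk⟩ := IsPGroup.iff_card.mp hQq
    rw [hk] at hdvd
    rw [(Nat.prime_dvd_prime_iff_eq hp hqp).mp (hp.dvd_of_dvd_pow hdvd)]
    exact hqα
  have hrQ := rankLE_one_of_not_unique hG hL hQL hXαQ hnu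
  have hcardK : Nat.card K ≠ 1 := fun h => hα (Subgroup.card_eq_one.mp h)
  obtain ⟨s, hsp, hsdvd⟩ := Nat.exists_prime_and_dvd hcardK
  haveI : Fact s.Prime := ⟨hsp⟩
  have hsα : s ∈ alpha L := h5.1.2.1 s hsp hsdvd
  obtain ⟨Ps⟩ : Nonempty (Sylow s ↥K) := inferInstance
  obtain ⟨hSK, hSp, hSi⟩ := sylow_map_facts K Ps
  set S : Subgroup G := (Ps : Subgroup ↥K).map K.subtype with hS
  have hSL : S ≤ L := hSK.trans hKL
  have hSiL : ¬ s ∣ S.relIndex L := by
    rw [← Subgroup.relIndex_mul_relIndex S K L hSK hKL]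
    intro h
    rcases (Nat.Prime.dvd_mul hsp).mp h with h' | h'
    · exact hSi h'
    · exact h5.1.2.2 s hsp hsα h'
  obtain ⟨E, hES, hEe, hEcard⟩ := exists_large_elemAb_le hsα hSL hSp hSiL
  refine not_pRankLE_of_le (hES.trans (le_inf hSK (hSK.trans hKQ))) hEe ?_ (hrQ s hsp)
  have h3 : s ^ 1 ≤ s ^ 2 := Nat.pow_le_pow_right hsp.pos (by norm_num)
  omega

end main

end Cfsg.Agent.Lib.Helper47.BG12
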