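import Cfsg.Agent.Lib.Helper47.BG11e
import Cfsg.Agent.Lib.Helper71.BG115P3
import Cfsg.Agent.Lib.Helper63.PLength
import Cfsg.Agent.S1414

set_option autoImplicit false
set_option linter.style.haveILetI false
set_option linter.unusedSectionVars false

/-!
# Bender–Glauberman 11.7, CASE 2 of helper60's proof: auxiliary lemmas (a2), (a3), (L5)
-/

namespace Cfsg.Agent.Lib.Helper47.BG117

open Subgroup Cfsg Cfsg.Agent.Lib.Helper33 Cfsg.Agent.Lib.Helper23 Cfsg.Agent.Lib.Helper47.BG11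
open Cfsg.Agent.Lib.Helper31 Cfsg.Agent.Lib.Helper48

universe u

variable {G : Type u} [Group G] [Finite G]

/-- conjugates of elementary abelian subgroups are elementary abelian -/
theorem elemAb_cj {q : ℕ} {B : Subgroup G} (hB : IsElementaryAbelian q B) (m : G) :
    IsElementaryAbelian q (cj m B) := by
  refine ⟨⟨⟨?_⟩⟩, ?_⟩
  · rintro ⟨a, ha⟩ ⟨b, hb⟩
    apply Subtype.ext
    obtain ⟨a', ha', rfl⟩ := mem_cj'.mp ha
    obtain ⟨b', hb', rfl⟩ := mem_cj'.mp hb
    have h : a' * b' = b' * a' := congrArg Subtype.val (hB.1.is_comm.comm ⟨a', ha'⟩ ⟨b', hb'⟩)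
    show m * a' * m⁻¹ * (m * b' * m⁻¹) = m * b' * m⁻¹ * (m * a' * m⁻¹)
    calc m * a' * m⁻¹ * (m * b' * m⁻¹) = m * (a' * b') * m⁻¹ := by group
      _ = m * (b' * a') * m⁻¹ := by rw [h]
      _ = m * b' * m⁻¹ * (m * a' * m⁻¹) := by group
  · intro a ha
    obtain ⟨a', ha', rfl⟩ := mem_cj'.mp ha
    rw [conj_pow, hB.2 a' ha']
    group

/-- **(L5)**: `A ≅ Z_p × Z_p` acting nontrivially on a group `B₀` of prime order `q ≠ p`:
`C_A(B₀)` has order `p`. -/
theorem card_inf_centralizer_line {p q : ℕ} [hp : Fact p.Prime] [hq : Fact q.Prime] (hpq : p ≠ q)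
    {A B₀ : Subgroup G} (hA : IsElementaryAbelian p A) (hAc : Nat.card A = p ^ 2)
    (hB₀ : Nat.card B₀ = q) (hAB₀ : A ≤ normalizer (B₀ : Set G))
    (hnc : ¬ A ≤ centralizer (B₀ : Set G)) :
    Nat.card ↥(A ⊓ centralizer (B₀ : Set G)) = p := by
  have hpp := hp.out
  have hqp := hq.out
  have hdvd : Nat.card ↥(A ⊓ centralizer (B₀ : Set G)) ∣ p ^ 2 :=
    hAc ▸ Subgroup.card_dvd_of_le inf_le_left
  obtain ⟨i, hi, hci⟩ := (Nat.dvd_prime_pow hpp).mp hdvd
  interval_cases i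
  · exfalso
    have hX0 : A ⊓ centralizer (B₀ : Set G) = ⊥ := Subgroup.card_eq_one.mp (by simpa using hci)
    have hAcomm : ∀ a ∈ A, ∀ b ∈ A, a * b = b * a := fun a ha b hb =>
      congrArg Subtype.val (hA.1.is_comm.comm ⟨a, ha⟩ ⟨b, hb⟩)
    -- choose independent generators
    have hA1 : A ≠ ⊥ := by
      intro h
      rw [h, Subgroup.card_bot] at hAc
      have := hpp.one_lt
      nlinarith
    obtain ⟨b', hb'⟩ := (Subgroup.ne_bot_iff_exists_ne_one).mp hA1
    set b : G := (b' : G) with hb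
    have hbA : b ∈ A := b'.2
    have hb1 : b ≠ 1 := fun h => hb' (Subtype.ext h)
    have hbp : b ^ p = 1 := hA.2 b hbA
    have hzb : Nat.card (zpowers b) = p := by
      rw [Nat.card_zpowers]
      exact orderOf_eq_prime hbp hb1
    have hlt : zpowers b < A := by
      refine lt_of_le_of_ne ((zpowers_le).mpr hbA) ?_
      intro h
      rw [h, hAc] at hzb
      have := hpp.one_lt
      nlinarith
    obtain ⟨a, haA, hab⟩ := SetLike.exists_of_lt hlt
    have hap : a ^ p = 1 := hA.2 a haA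
    have hB₀p : ¬ p ∣ Nat.card B₀ := by
      rw [hB₀]
      intro h
      exact hpq ((Nat.prime_dvd_prime_iff_eq hpp hqp).mp h)
    have hgen := coprime_gen_of_normalizer B₀ a b (hAB₀ haA) (hAB₀ hbA) hap hbp
      (hAcomm a haA b hbA) hB₀p
    have hbot : genSub B₀ a b ≤ ⊥ := by
      unfold genSub
      refine iSup₂_le fun c hc => ?_
      have hcA : c ∈ A := by
        rcases hc with rfl | ⟨n, rfl⟩
        · exact hbA
        · exact A.mul_mem haA (A.pow_mem hbA n)
      have hc1 : c ≠ 1 := by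
        rcases hc with rfl | ⟨n, rfl⟩
        · exact hb1
        · intro h
          apply hab
          have : a = (b ^ n)⁻¹ := eq_inv_of_mul_eq_one_left h
          rw [this]
          exact (zpowers b).inv_mem ((zpowers b).pow_mem (mem_zpowers b) n)
      intro x hx
      by_contra hx1
      rw [mem_bot] at hx1
      have hxc : x ∈ centralizer ({c} : Set G) := hx.2
      have hcomm : x * c = c * x := (mem_centralizer_iff.mp hxc c rfl).symm
      have hcB₀ : c ∈ centralizer (B₀ : Set G) :=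
        Exc.le_centralizer_of_commute hB₀ hx.1 hx1 hcomm
      have hcX : c ∈ A ⊓ centralizer (B₀ : Set G) := ⟨hcA, hcB₀⟩
      rw [hX0, mem_bot] at hcX
      exact hc1 hcX
    have hB₀bot : B₀ = ⊥ := eq_bot_iff.mpr (hgen.trans hbot)
    rw [hB₀bot, Subgroup.card_bot] at hB₀
    exact hqp.one_lt.ne hB₀
  · simpa using hci
  · exfalso
    apply hnc
    have h2 : A ⊓ centralizer (B₀ : Set G) = A :=
      eq_of_le_of_card_ge inf_le_left (by rw [hci, hAc])
    rw [← h2]
    exact inf_le_right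

/-- two normal subgroups of `M` meeting trivially centralize each other -/
theorem le_centralizer_of_normal_of_inf_eq_bot {M X Y : Subgroup G} (hXM : X ≤ M) (hYM : Y ≤ M)
    (hXn : M ≤ normalizer (X : Set G)) (hYn : M ≤ normalizer (Y : Set G)) (h : X ⊓ Y = ⊥) :
    X ≤ centralizer (Y : Set G) := by
  intro x hx
  rw [mem_centralizer_iff]
  intro y hy
  have h1 : x * y * x⁻¹ * y⁻¹ ∈ Y := by
    have := (mem_normalizer_iff.mp (hYn (hXM hx)) y).mp hy
    exact Y.mul_mem this (Y.inv_mem hy)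
  have h2 : x * y * x⁻¹ * y⁻¹ ∈ X := by
    have := (mem_normalizer_iff.mp (hXn (hYM hy)) x⁻¹).mp (X.inv_mem hx)
    have h3 : x * (y * x⁻¹ * y⁻¹) ∈ X := X.mul_mem hx this
    have h4 : x * y * x⁻¹ * y⁻¹ = x * (y * x⁻¹ * y⁻¹) := by group
    rw [h4]
    exact h3
  have h5 : x * y * x⁻¹ * y⁻¹ ∈ X ⊓ Y := ⟨h2, h1⟩
  rw [h, mem_bot] at h5
  have h6 : x * y = y * x := by
    calc x * y = (x * y * x⁻¹ * y⁻¹) * (y * x) := by group
      _ = y * x := by rw [h5, one_mul]
  exact h6.symm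

/-- **(L6)**: for exceptional data `(M, q, B₀, B)` with `B₀` centralizing `M_σ`, every line of `B`
other than `B₀` acts fixed-point-freely on `M_σ`. -/
theorem fpf_lines_of_centralizes (hG : IsMinSimpleOddOrder G) {M B₀ B : Subgroup G} {q : ℕ}
    [hq : Fact q.Prime]
    (eq : Exc M q B₀ B) (hB₀W : B₀ ≤ centralizer ((sigmaCore M : Subgroup G) : Set G)) :
    ∀ B₁ : Subgroup G, B₁ ≤ B → Nat.card B₁ = q → B₁ ≠ B₀ →
      sigmaCore M ⊓ centralizer (B₁ : Set G) = ⊥ := by
  intro B₁ hB₁B hB₁c hne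
  rw [eq_bot_iff, ← eq.bg_11_6_b hG]
  intro x hx
  refine ⟨hx.1, ?_⟩
  -- `B = B₀ ⊔ B₁` commutes with `x`
  have hsup : B₀ ⊔ B₁ = B :=
    Cfsg.Agent.Lib.Helper71.BG115.eq_of_two_lines eq.card (sup_le eq.le₀ hB₁B) le_sup_left
      le_sup_right eq.card₀ hB₁c hne
  have h0 : B₀ ≤ centralizer ({x} : Set G) := by
    intro b hb
    apply mem_centralizer_iff.mpr
    intro y hy
    rw [Set.mem_singleton_iff] at hy
    subst hy
    exact (mem_centralizer_iff.mp (hB₀W hb) y hx.1)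
  have h1 : B₁ ≤ centralizer ({x} : Set G) := by
    intro b hb
    apply mem_centralizer_iff.mpr
    intro y hy
    rw [Set.mem_singleton_iff] at hy
    subst hy
    exact (mem_centralizer_iff.mp hx.2 b hb).symm
  have h2 : B ≤ centralizer ({x} : Set G) := hsup ▸ sup_le h0 h1
  apply mem_centralizer_iff.mpr
  intro b hb
  exact (mem_centralizer_iff.mp (h2 hb) x rfl).symm

/-- a normal subgroup of prime order `q ∉ σ(M)` of `M` centralizes `M_σ` -/
theorem le_centralizer_sigmaCore (hG : IsMinSimpleOddOrder G) {M B₀ : Subgroup G} {q : ℕ}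
    [hq : Fact q.Prime] (hM : IsCoatom M) (hqσ : q ∉ sigma M) (hB₀M : B₀ ≤ M)
    (hB₀c : Nat.card B₀ = q) (hB₀n : M ≤ normalizer (B₀ : Set G)) :
    B₀ ≤ centralizer ((sigmaCore M : Subgroup G) : Set G) := by
  have hσ := sigmaHallIn_of_coatom hG hM
  refine le_centralizer_of_normal_of_inf_eq_bot hB₀M (sigmaCore_le M) hB₀n
    (Cfsg.Agent.Lib.Helper24.BG.le_normalizer_sigmaCore M) ?_
  apply disjoint_iff.mp
  apply Subgroup.disjoint_of_coprime_natCard
  rw [hB₀c, Nat.Prime.coprime_iff_not_dvd hq.out]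
  intro h
  exact hqσ (hσ.2.1 q hq.out h)

/-- **(a3)**: for exceptional data `(M, q, B₀, B)` with `B₀` normal in `M`, every line of `B`
other than `B₀` acts fixed-point-freely on `M_σ`. -/
theorem fpf_lines (hG : IsMinSimpleOddOrder G) {M B₀ B : Subgroup G} {q : ℕ} [hq : Fact q.Prime]
    (e : Exc M q B₀ B) (hB₀n : M ≤ normalizer (B₀ : Set G)) :
    ∀ B₁ : Subgroup G, B₁ ≤ B → Nat.card B₁ = q → B₁ ≠ B₀ →
      sigmaCore M ⊓ centralizer (B₁ : Set G) = ⊥ :=
  fpf_lines_of_centralizes hG e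
    (le_centralizer_sigmaCore hG e.coatom e.notSigma (e.le₀.trans e.le) e.card₀ hB₀n)

/-- **(a2)**: for `p < q`, `p ∉ β(M)`, a `p`-subgroup `A` of `M` normalizes some Sylow
`q`-subgroup of `M` (which lies in `O_{p'}(M)` by the last clause of S1414). -/
theorem exists_invariant_sylow_of_lt (hG : IsMinSimpleOddOrder G) {M A : Subgroup G}
    (hM : IsCoatom M) {p q : ℕ} [hp : Fact p.Prime] [hq : Fact q.Prime] (hpq : p < q)
    (hpβ : p ∉ beta M) (hpM : p ∣ Nat.card M) (hAM : A ≤ M) (hAp : IsPGroup p A) :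
    ∃ S : Subgroup G, S ≤ M ∧ IsPGroup q S ∧ ¬ q ∣ S.relIndex M ∧
      A ≤ normalizer (S : Set G) := by
  have hpp : p.Prime := hp.out
  have hqq : q.Prime := hq.out
  have h14 := (Cfsg.Agent.S1414.result hG M hM).2.2.2.2 p hpp hpM hpβ
  have hidx : ¬ q ∣ (pPrimeCore p ↥M).index := fun h =>
    absurd (h14.2.2 q hqq h) (not_le.mpr hpq)
  haveI : (pPrimeCore p ↥M).Normal := Subgroup.sSup_normal _ (fun _ h => h.1)
  set Θ : Subgroup G := (pPrimeCore p ↥M).map M.subtype with hΘ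
  have hΘM : Θ ≤ M := map_subtype_le _
  have hΘn : M ≤ normalizer (Θ : Set G) :=
    Cfsg.Agent.Lib.Helper19.BG124.le_normalizer_map_of_normal M (pPrimeCore p ↥M)
  have hΘcard : Nat.card Θ = Nat.card (pPrimeCore p ↥M) :=
    card_map_of_injective M.subtype_injective
  have hcop : (Nat.card A).Coprime (Nat.card Θ) := by
    rw [hΘcard]
    obtain ⟨k, hk⟩ := IsPGroup.iff_card.mp hAp
    rw [hk]
    exact Nat.Coprime.pow_left k (Cfsg.Agent.Lib.Helper63.pPrimeCore_card_coprime' p).symm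
  have hAtop : A ≠ ⊤ := fun h => hM.1 (top_le_iff.mp (h ▸ hAM))
  have hsolv : Group.IsSolvable ↥A := isSolvable_of_ne_top hG hAtop
  obtain ⟨P, hP⟩ := Cfsg.Agent.Lib.Helper24.exists_invariant_sylow (p := q) A Θ (hAM.trans hΘn)
    hcop (Or.inl hsolv)
  obtain ⟨h1, h2, h3⟩ := Cfsg.Agent.Lib.Helper24.sylow_map_facts Θ P
  refine ⟨_, h1.trans hΘM, h2, ?_, hP⟩
  have hmul := Subgroup.relIndex_mul_relIndex _ Θ M h1 hΘM
  rw [← hmul]
  intro h
  rcases (Nat.Prime.dvd_mul hqq).mp h with h' | h'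
  · exact h3 h'
  · apply hidx
    have : Θ.subgroupOf M = pPrimeCore p ↥M := by
      rw [hΘ, subgroupOf, comap_map_eq_self_of_injective M.subtype_injective]
    rwa [relIndex, this] at h'

end Cfsg.Agent.Lib.Helper47.BG117
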