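import Cfsg.Agent.S1408
import Cfsg.Agent.S1409
import Cfsg.Agent.S1414
import Cfsg.Agent.S1415
import Cfsg.Agent.S1417
import Cfsg.Agent.S1418
import Cfsg.Agent.S1423
import Cfsg.Agent.S1426
import Cfsg.Agent.S1427
import Cfsg.Agent.Lib.Helper62.BG13K2
import Cfsg.Agent.Lib.Helper63.BG13b
import Cfsg.Agent.Lib.Helper70.BG134c
import Cfsg.Agent.Lib.Helper70.BG134d
import Cfsg.Agent.Lib.Helper60.BG139S2
import Cfsg.Agent.Lib.Helper96.BG127
import Cfsg.Agent.Lib.Helper68.BG1215a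

set_option autoImplicit false
set_option linter.style.haveILetI false
set_option linter.unusedSectionVars false

/-!
# Bender–Glauberman Lemma 13.12 (`tau12_regular`), the core

`core`: `H` maximal, `q ∈ σ(H) ∖ β(H)`, `p ∈ τ₁(H)`, `P ≤ H` of order `p`, `Y ≤ H_σ` of order `q`
centralized by `P`, every `q`-subgroup of `C_G(P)` cyclic, and `M ≠ H` the unique maximal subgroup
over `C_G(Y)`: impossible.
-/

namespace Cfsg.Agent.Lib.Helper47.BG1312

open Subgroup Cfsg Cfsg.Agent.Lib.Helper33 Cfsg.Agent.Lib.Helper60.BG139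
open scoped commutatorElement

universe u

variable {G : Type u} [Group G] [Finite G]

/-- Hall's existence theorem with containment, inside a proper subgroup -/
theorem exists_isPiHallOf_ge (hG : IsMinSimpleOddOrder G) (π : Set ℕ) {K U : Subgroup G}
    (hK : K ≠ ⊤) (hUK : U ≤ K) (hU : ∀ r : ℕ, r.Prime → r ∣ Nat.card U → r ∈ π) :
    ∃ T : Subgroup G, IsPiHallOf π T K ∧ U ≤ T := by
  haveI : Group.IsSolvable ↥K := hG.2.2.2 K hK
  obtain ⟨m, n, hmn, hcopmn, hmπ, hnπ⟩ :=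
    Cfsg.Agent.Lib.Helper19.HallRel.pi_factorization π (Nat.card K) Nat.card_pos
  have hUn : (Nat.card U).Coprime n := by
    apply Nat.coprime_of_dvd
    intro k hk hkU hkn
    exact hnπ k hk hkn (hU k hk hkU)
  obtain ⟨T, hTK, hTc, hUT⟩ :=
    Cfsg.Agent.Lib.Helper68.BG1215.hall_exists_ge m n hmn hcopmn hUK hUn
  refine ⟨T, ⟨hTK, fun r hr hrd => hmπ r hr (hTc ▸ hrd), fun r hr hrπ hrd => ?_⟩, hUT⟩
  have h1 : Nat.card T * T.relIndex K = Nat.card K := card_mul_relIndex_eq' hTK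
  rw [hTc, hmn] at h1
  have hm0 : 0 < m := by
    rcases Nat.eq_zero_or_pos m with h0 | h0
    · rw [h0, zero_mul] at hmn
      exact absurd hmn (Nat.card_pos (α := ↥K)).ne'
    · exact h0
  have h2 : T.relIndex K = n := Nat.eq_of_mul_eq_mul_left hm0 h1
  exact hnπ r hr (h2 ▸ hrd) hrπ

/-- a subgroup `E` all of whose elements conjugate `D` into itself normalizes `D` -/
theorem le_normalizer_of_conj_mem {E D : Subgroup G}
    (h : ∀ e ∈ E, ∀ d ∈ D, e * d * e⁻¹ ∈ D) : E ≤ normalizer (D : Set G) := by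
  intro e he
  rw [mem_normalizer_iff]
  intro d
  constructor
  · exact h e he d
  · intro hd
    have h1 := h e⁻¹ (E.inv_mem he) _ hd
    have h2 : e⁻¹ * (e * d * e⁻¹) * e⁻¹⁻¹ = d := by group
    rwa [h2] at h1

/-- if `[E,E]` centralizes `S` and `E` normalizes `S`, then `E` normalizes `C_S(P)` for `P ≤ E` -/
theorem le_normalizer_inf_centralizer {E S P : Subgroup G} (hPE : P ≤ E)
    (hES : E ≤ normalizer (S : Set G)) (hE' : ⁅E, E⁆ ≤ centralizer (S : Set G)) :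
    E ≤ normalizer ((S ⊓ centralizer (P : Set G) : Subgroup G) : Set G) := by
  apply le_normalizer_of_conj_mem
  intro e he d hd
  refine Subgroup.mem_inf.mpr ⟨(mem_normalizer_iff.mp (hES he) d).mp hd.1, ?_⟩
  rw [mem_centralizer_iff]
  intro x hx
  set c := ⁅e⁻¹, x⁆ with hc
  have hcC : c ∈ centralizer (S : Set G) :=
    hE' (Subgroup.commutator_mem_commutator (E.inv_mem he) (hPE hx))
  have hcd : d * c = c * d := mem_centralizer_iff.mp hcC d hd.1
  have hxd : x * d = d * x := mem_centralizer_iff.mp hd.2 x hx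
  have hcx : c * x = e⁻¹ * x * e := by rw [hc, commutatorElement_def]; group
  calc x * (e * d * e⁻¹) = e * (e⁻¹ * x * e) * d * e⁻¹ := by group
    _ = e * (c * x) * d * e⁻¹ := by rw [hcx]
    _ = e * c * (x * d) * e⁻¹ := by group
    _ = e * c * (d * x) * e⁻¹ := by rw [hxd]
    _ = e * (c * d) * x * e⁻¹ := by group
    _ = e * (d * c) * x * e⁻¹ := by rw [← hcd]
    _ = e * d * (c * x) * e⁻¹ := by group
    _ = e * d * (e⁻¹ * x * e) * e⁻¹ := by rw [hcx]
    _ = e * d * e⁻¹ * x := by group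

/-- `|M_σ : M| = |E|` for a complement `E` -/
theorem relIndex_sigmaCore_eq_card {M E : Subgroup G} (hE : IsComplIn E (sigmaCore M) M) :
    (sigmaCore M).relIndex M = Nat.card E := by
  have h1 : Nat.card E * Nat.card (sigmaCore M) = Nat.card M :=
    Cfsg.Agent.Lib.Helper23.card_isComplIn hE
  have h2 : Nat.card (sigmaCore M) * (sigmaCore M).relIndex M = Nat.card M :=
    card_mul_relIndex_eq' hE.2.1
  have hpos : 0 < Nat.card (sigmaCore M) := Nat.card_pos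
  apply Nat.eq_of_mul_eq_mul_left hpos
  rw [h2, ← h1, mul_comm]

/-- a prime dividing the order of a complement of `M_σ` is not in `σ(M)` -/
theorem not_mem_sigma_of_dvd_card_compl {M E : Subgroup G} (hσ : IsPiHallOf (sigma M) (sigmaCore M) M)
    (hE : IsComplIn E (sigmaCore M) M) {r : ℕ} (hr : r.Prime) (hrE : r ∣ Nat.card E) :
    r ∉ sigma M := by
  intro h
  apply hσ.2.2 r hr h
  rw [relIndex_sigmaCore_eq_card hE]
  exact hrE

/-- **Core of B&G 13.12.** -/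
theorem core (hG : IsMinSimpleOddOrder G) (h28 : Stmt1428 G) {H M : Subgroup G}
    (hH : IsCoatom H) (hM : IsCoatom M) (hne : H ≠ M) {p q : ℕ} [hpf : Fact p.Prime]
    [hqf : Fact q.Prime]
    (hqσ : q ∈ sigma H) (hqβ : q ∉ beta H) (hpτ : p ∈ tau1 H) {P Y : Subgroup G}
    (hP : Nat.card P = p) (hPH : P ≤ H) (hY : Nat.card Y = q) (hYσ : Y ≤ sigmaCore H)
    (hYP : Y ≤ centralizer (P : Set G))
    (hcyc : ∀ Q : Subgroup G, IsPGroup q Q → Q ≤ centralizer (P : Set G) → IsCyclic ↥Q)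
    (hYM : centralizer (Y : Set G) ≤ M)
    (huniq : ∀ L : Subgroup G, IsCoatom L → centralizer (Y : Set G) ≤ L → L = M) : False := by
  have hpp : p.Prime := hpf.out
  have hqp : q.Prime := hqf.out
  have hσH : IsPiHallOf (sigma H) (sigmaCore H) H :=
    Cfsg.Agent.Lib.Helper47.BG11.sigmaHallIn_of_coatom hG hH
  have hpσ : p ∉ sigma H := hpτ.2.1
  have hσle : sigmaCore H ≤ H := hσH.1
  -- a complement `E₀` of `H_σ` containing `P`
  have hcopP : (Nat.card P).Coprime (Nat.card (sigmaCore H)) := by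
    rw [hP]
    exact (Nat.Prime.coprime_iff_not_dvd hpp).2 (fun hd => hpσ (hσH.2.1 p hpp hd))
  obtain ⟨E₀, hE₀, hPE₀⟩ :=
    Cfsg.Agent.Lib.Helper63.BG13.exists_compl_ge hG hH.1 hσH hPH hcopP
  have hE₀H : E₀ ≤ H := hE₀.1
  obtain ⟨S₀, hS₀p, -, hS₀i, hS₀σ, hE₀S₀, -, hE₀'⟩ :=
    Cfsg.Agent.Lib.Helper62.BG13K.lemmaK_beta hG hH hqσ hqβ hE₀
  set D := S₀ ⊓ centralizer (P : Set G) with hD
  have hE₀D : E₀ ≤ normalizer (D : Set G) := le_normalizer_inf_centralizer hPE₀ hE₀S₀ hE₀'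
  have hDq : IsPGroup q D := hS₀p.to_le inf_le_left
  have hDcyc : IsCyclic ↥D := hcyc D hDq inf_le_right
  -- `D` is a Sylow `q`-subgroup of `C_{H_σ}(P)`
  have hPσn : P ≤ normalizer ((sigmaCore H : Subgroup G) : Set G) :=
    hPH.trans (Cfsg.Agent.Lib.Helper24.BG.le_normalizer_sigmaCore H)
  have hPS₀ : P ≤ normalizer (S₀ : Set G) := hPE₀.trans hE₀S₀
  have hS₀rel : ¬ q ∣ S₀.relIndex (sigmaCore H) := fun h =>
    hS₀i (h.trans (Subgroup.relIndex_dvd_index_of_le hS₀σ))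
  have hσtop : sigmaCore H ≠ ⊤ := fun h => hH.1 (top_le_iff.mp (h ▸ hσle))
  have hsolvσ : Group.IsSolvable ↥(sigmaCore H) := hG.2.2.2 _ hσtop
  have hDsyl : ¬ q ∣ D.relIndex (sigmaCore H ⊓ centralizer (P : Set G)) :=
    Cfsg.Agent.Lib.Helper70.BG134.inf_centralizer_sylow' P (sigmaCore H) hPσn hcopP
      (Or.inr hsolvσ) S₀ hS₀σ hS₀p hS₀rel hPS₀
  have hYq : IsPGroup q Y := IsPGroup.of_card (n := 1) (by rw [hY, pow_one])
  obtain ⟨c, hcK, hcY⟩ := sylow_sub (K := sigmaCore H ⊓ centralizer (P : Set G)) (P := D) (H := Y)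
    (inf_le_inf_right _ hS₀σ) hDq hDsyl (le_inf hYσ hYP) hYq
  set Y₁ := cj c Y with hY₁
  have hY₁c : Nat.card Y₁ = q := by rw [hY₁, card_cj, hY]
  have hY₁D : Y₁ ≤ D := hcY
  have hY₁σ : Y₁ ≤ sigmaCore H := hY₁D.trans (inf_le_left.trans hS₀σ)
  have hY₁1 : Y₁ ≠ ⊥ := by
    intro h
    rw [h, Subgroup.card_bot] at hY₁c
    exact hqp.one_lt.ne hY₁c
  -- `E₀` normalizes `Y₁`
  have hE₀Y₁ : E₀ ≤ normalizer (Y₁ : Set G) := by
    intro e he
    rw [← cj_eq_self_iff]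
    have h1 : cj e Y₁ ≤ D := by
      have : cj e Y₁ ≤ cj e D := cj_mono hY₁D
      rwa [cj_eq_self_iff.mpr (hE₀D he)] at this
    exact Cfsg.Agent.Lib.Helper63.BG13.eq_of_card_prime_of_le_isCyclic hDcyc
      (by rw [card_cj, hY₁c]) hY₁c h1 hY₁D
  -- transport of `M`
  have hcH : c ∈ H := hσle hcK.1
  set M₁ := cj c M with hM₁def
  have hM₁ : IsCoatom M₁ := Cfsg.Agent.Lib.Helper63.BG13.isCoatom_cj hM c
  have hY₁M₁ : centralizer (Y₁ : Set G) ≤ M₁ := by
    rw [hY₁, centralizer_cj]; exact cj_mono hYM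
  have huniq₁ : ∀ L : Subgroup G, IsCoatom L → centralizer (Y₁ : Set G) ≤ L → L = M₁ := by
    intro L hL h
    rw [hY₁, centralizer_cj, cj_le_iff] at h
    have h1 := huniq (cj c⁻¹ L) (Cfsg.Agent.Lib.Helper63.BG13.isCoatom_cj hL c⁻¹) h
    have h2 := (cj_eq_iff (g := c⁻¹)).mp h1
    rwa [inv_inv] at h2
  have hne₁ : H ≠ M₁ := by
    intro h
    apply hne
    have h1 : cj c⁻¹ H = M := (cj_eq_iff (g := c⁻¹)).mpr (by rw [inv_inv]; exact h)
    rwa [cj_eq_self_of_mem (H.inv_mem hcH)] at h1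
  have hY₁ab : Y₁ ≤ centralizer (Y₁ : Set G) := by
    haveI : Fact (Nat.card Y₁).Prime := ⟨by rw [hY₁c]; exact hqp⟩
    haveI : IsCyclic ↥Y₁ := isCyclic_of_prime_card (p := Nat.card Y₁) rfl
    intro a ha
    rw [mem_centralizer_iff]
    intro b hb
    have h1 : (⟨b, hb⟩ : ↥Y₁) * ⟨a, ha⟩ = ⟨a, ha⟩ * ⟨b, hb⟩ :=
      isMulCommutative_iff.mp (IsCyclic.isMulCommutative (α := ↥Y₁)) _ _
    exact congrArg Subtype.val h1
  have hY₁M₁' : Y₁ ≤ M₁ := hY₁ab.trans hY₁M₁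
  have hNY₁ : normalizer (Y₁ : Set G) ≤ M₁ := by
    have hY₁top : Y₁ ≠ ⊤ := fun h => hM₁.1 (top_le_iff.mp (h ▸ hY₁M₁'))
    have hNtop := Cfsg.Agent.Lib.Helper63.BG10.normalizer_ne_top hG hY₁1 hY₁top
    obtain ⟨L, hL, hNL⟩ := Cfsg.Agent.Lib.Helper56.BG10.exists_coatom_ge hNtop
    have := huniq₁ L hL ((centralizer_le_normalizer _).trans hNL)
    rwa [this] at hNL
  -- `E₀` centralizes `Y₁`
  have hE₀top : E₀ ≠ ⊤ := fun h => hH.1 (top_le_iff.mp (h ▸ hE₀H))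
  have hE₀cent : E₀ ≤ centralizer (Y₁ : Set G) := by
    set KY := E₀ ⊓ centralizer (Y₁ : Set G) with hKY
    have hrel : KY.relIndex E₀ = 1 := by
      by_contra hne1
      obtain ⟨r, hr, hrd⟩ := Nat.exists_prime_and_dvd hne1
      haveI : Fact r.Prime := ⟨hr⟩
      have hrE : r ∣ Nat.card E₀ := hrd.trans (Subgroup.relIndex_dvd_card _ _)
      have hrσ : r ∉ sigma H := not_mem_sigma_of_dvd_card_compl hσH hE₀ hr hrE
      have hrH : r ∣ Nat.card H := hrE.trans (Subgroup.card_dvd_of_le hE₀H)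
      have hr2 : PRankLE r 2 ↥H := by
        by_contra h
        exact hrσ (Cfsg.Agent.Lib.Helper23.alpha_subset_sigma hG
          (Cfsg.Agent.Lib.Helper63.BG13.uniqStmt hG) hH ⟨hr, h⟩)
      have hS₀Y₁ : centralizer (S₀ : Set G) ≤ centralizer (Y₁ : Set G) :=
        Subgroup.centralizer_le (fun y hy => (hY₁D hy).1)
      by_cases h1 : PRankLE r 1 ↥H
      · by_cases hd : r ∣ Nat.card ↥⁅H, H⁆
        · -- `r ∈ τ₃(H)`
          have hτ3 : r ∈ tau3 H := ⟨hr, hrσ, hd, h1⟩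
          obtain ⟨E₃, hE₃⟩ := exists_isPiHallOf_ge hG (tau3 H) hE₀top
            (bot_le : (⊥ : Subgroup G) ≤ E₀) (by
              intro k hk hkd
              rw [Subgroup.card_bot] at hkd
              exact absurd (Nat.dvd_one.mp hkd) hk.one_lt.ne')
          have h15 := (Cfsg.Agent.S1415.result hG H hH E₀ hE₀).2.2 E₃ hE₃.1
          have hE₃K : E₃ ≤ KY := le_inf hE₃.1.1 ((h15.2.1.trans hE₀').trans hS₀Y₁)
          exact hE₃.1.2.2 r hr hτ3 (hrd.trans (Subgroup.relIndex_dvd_of_le_left E₀ hE₃K))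
        · -- `r ∈ τ₁(H)`
          have hτ1 : r ∈ tau1 H := ⟨hr, hrσ, hrH, hd, h1⟩
          obtain ⟨T₁, hT₁, hPT₁⟩ := exists_isPiHallOf_ge hG (tau1 H) hE₀top hPE₀ (by
            intro k hk hkd
            rw [hP] at hkd
            rw [(Nat.prime_dvd_prime_iff_eq hk hpp).mp hkd]
            exact hpτ)
          have hP1 : P ≠ ⊥ := by
            intro h
            rw [h, Subgroup.card_bot] at hP
            exact hpp.one_lt.ne hP
          obtain ⟨x', hx'⟩ := (Subgroup.ne_bot_iff_exists_ne_one).mp hP1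
          obtain ⟨x, hxP, hx1⟩ : ∃ x : G, x ∈ P ∧ x ≠ 1 :=
            ⟨(x' : G), x'.2, fun h => hx' (Subtype.ext h)⟩
          have hsp := semiprime_tau1 hG h28 hH hE₀ hT₁ x (hPT₁ hxP) hx1
          have hY₁x : Y₁ ≤ sigmaCore H ⊓ centralizer ({x} : Set G) := by
            refine le_inf hY₁σ ((hY₁D.trans inf_le_right).trans (Subgroup.centralizer_le ?_))
            intro y hy
            rw [Set.mem_singleton_iff] at hy
            rw [hy]; exact hxP
          rw [hsp] at hY₁x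
          have hT₁Y₁ : T₁ ≤ centralizer (Y₁ : Set G) :=
            Subgroup.le_centralizer_iff.mp (hY₁x.trans inf_le_right)
          have hT₁K : T₁ ≤ KY := le_inf hT₁.1 hT₁Y₁
          exact hT₁.2.2 r hr hτ1 (hrd.trans (Subgroup.relIndex_dvd_of_le_left E₀ hT₁K))
      · -- `r ∈ τ₂(H)`
        have hτ2 : r ∈ tau2 H := ⟨hr, hrσ, hr2, h1⟩
        obtain ⟨Ar, hArE, hAre, hArc⟩ :=
          Cfsg.Agent.Lib.Helper96.BG127.exists_elemAb_sq_le_compl hE₀ hτ2
        have h17 := (Cfsg.Agent.S1417.result hG H hH r hτ2 Ar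
          ⟨hArE.trans hE₀H, hAre, hArc⟩).2.2.2.2.1 M₁ hM₁ hne₁.symm
          ((hArE.trans hE₀Y₁).trans hNY₁)
        have : Y₁ ≤ sigmaCore H ⊓ M₁ := le_inf hY₁σ hY₁M₁'
        rw [h17, le_bot_iff] at this
        exact hY₁1 this
    have := (Subgroup.relIndex_eq_one).mp hrel
    exact this.trans inf_le_right
  -- `Y₁ ≤ (H_σ)'`
  have hY₁E₀ : Y₁ ≤ centralizer (E₀ : Set G) := Subgroup.le_centralizer_iff.mp hE₀cent
  have h26 := (Cfsg.Agent.S1426.result hG H hH E₀ hE₀).1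
  have hY₁der : Y₁ ≤ ⁅sigmaCore H, sigmaCore H⁆ := (le_inf hY₁σ hY₁E₀).trans h26
  obtain ⟨PS⟩ : Nonempty (Sylow q ↥(sigmaCore H)) := inferInstance
  have h23 := (Cfsg.Agent.S1423.result hG H hH q hqσ Y₁ (hY₁σ.trans hσle) hY₁c PS
    (Or.inr hY₁der)).1.2 M₁ hM₁ hY₁M₁
  exact hne₁ h23.symm

end Cfsg.Agent.Lib.Helper47.BG1312
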