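import Cfsg.Agent.Lib.Helper32.Rank2Aut
import Cfsg.Agent.Lib.Helper24.Coprime

set_option autoImplicit false
set_option linter.style.haveILetI false
set_option linter.unusedSectionVars false

/-!
# (C3) of the B&G 13.4 split: odd-order `p'`-groups of automorphisms of a `p`-group of rank `≤ 2`
have commutator subgroup acting trivially
-/

namespace Cfsg.Agent.Lib.Helper47.BG13

open Subgroup Cfsg Cfsg.Agent.Lib.Helper24

universe u

variable {G : Type u} [Group G] [Finite G]

/-- the conjugation action of a subgroup `A ≤ N_G(V)` on `V` -/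
def conjHom (V A : Subgroup G) (hAV : A ≤ normalizer (V : Set G)) : ↥A →* MulAut ↥V where
  toFun a := conjNormalizer V (a : G) (hAV a.2)
  map_one' := by
    apply MulEquiv.ext
    intro v
    apply Subtype.ext
    simp [conjNormalizer]
  map_mul' a b := by
    apply MulEquiv.ext
    intro v
    apply Subtype.ext
    simp [conjNormalizer, mul_assoc]

theorem conjHom_apply (V A : Subgroup G) (hAV : A ≤ normalizer (V : Set G)) (a : ↥A) (v : ↥V) :
    ((conjHom V A hAV a v : ↥V) : G) = (a : G) * v * (a : G)⁻¹ := rfl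

/-- **(C3)**: `V` a `p`-group (`p` odd) of rank at most two, `A ≤ N_G(V)` a solvable `p'`-group of
odd order: then `[A, A]` centralizes `V`. -/
theorem commutator_le_centralizer_of_rank_two {p : ℕ} [hp : Fact p.Prime] (hp2 : p ≠ 2)
    {V A : Subgroup G} (hV : IsPGroup p V) (hr : PRankLE p 2 ↥V)
    (hAV : A ≤ normalizer (V : Set G)) (hodd : Odd (Nat.card A)) (hsolv : Group.IsSolvable ↥A)
    (hcop : (Nat.card A).Coprime p) : ⁅A, A⁆ ≤ centralizer (V : Set G) := by
  set θ := conjHom V A hAV with hθ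
  haveI : Group.IsSolvable θ.range :=
    Group.isSolvable_of_surjective (f := θ.rangeRestrict) θ.rangeRestrict_surjective
  have hYodd : Odd (Nat.card θ.range) := Odd.of_dvd_nat hodd (Subgroup.card_range_dvd θ)
  have hmain := Cfsg.Agent.Lib.Helper32.Rank2.isPGroup_commutator_mulAut p hp2 hV hr θ.range hYodd
  -- pass to `↥A`
  rw [← Subgroup.map_subtype_commutator A]
  rintro _ ⟨d, hd, rfl⟩
  have hθd : θ d ∈ ⁅θ.range, θ.range⁆ := by
    have h := Subgroup.mem_map_of_mem θ hd
    rw [_root_.commutator_def, Subgroup.map_commutator, ← MonoidHom.range_eq_map] at h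
    exact h
  obtain ⟨k, hk⟩ := hmain _ hθd
  rw [← map_pow] at hk
  -- `d ^ (p ^ k)` centralizes `V`, and `d` is a power of it
  have hcopd : (p ^ k).Coprime (orderOf d) := by
    apply Nat.Coprime.pow_left
    exact (Nat.Coprime.coprime_dvd_left (orderOf_dvd_natCard d) hcop).symm
  obtain ⟨m, hm⟩ := exists_pow_eq_self_of_coprime hcopd
  have hθ1 : θ d = 1 := by
    rw [← hm, map_pow, hk, one_pow]
  show (d : G) ∈ centralizer (V : Set G)
  rw [mem_centralizer_iff]
  intro v hv
  have h1 : ((θ d ⟨v, hv⟩ : ↥V) : G) = (d : G) * v * (d : G)⁻¹ := conjHom_apply V A hAV d ⟨v, hv⟩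
  rw [hθ1] at h1
  have h2 : v = (d : G) * v * (d : G)⁻¹ := h1
  calc v * (d : G) = ((d : G) * v * (d : G)⁻¹) * (d : G) := by rw [← h2]
    _ = (d : G) * v := by group

end Cfsg.Agent.Lib.Helper47.BG13
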