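import Cfsg.Agent.Lib.Helper47.BG1312
import Cfsg.Agent.Lib.Helper22.BG1312L
import Cfsg.Agent.S1428

set_option autoImplicit false
set_option linter.style.haveILetI false
set_option linter.unusedSectionVars false

/-!
# Bender–Glauberman Lemma 13.12 (`tau12_regular`)
-/

namespace Cfsg.Agent.Lib.Helper47.BG1312

open Subgroup Cfsg Cfsg.Agent.Lib.Helper33 Cfsg.Agent.Lib.Helper60.BG139
open Cfsg.Agent.Lib.Helper22.BG1312

universe u

variable {G : Type u} [Group G] [Finite G]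

/-- **B&G Lemma 13.12** (`tau12_regular`), from B&G 13.4 (= S1428) as a hypothesis. -/
theorem bg_13_12_of (hG : IsMinSimpleOddOrder G) (h28 : Stmt1428 G) {M : Subgroup G}
    (hM : IsCoatom M) {E : Subgroup G} (hE : IsComplIn E (sigmaCore M) M) {p : ℕ}
    (hp : p ∈ tau1 M) {P : Subgroup G} (hPE : P ≤ E) (hP : Nat.card P = p) {q : ℕ}
    [hqf : Fact q.Prime] (hq : q ∈ tau2 M) {A : Subgroup G} (hAE : A ≤ E)
    (hAe : IsElementaryAbelian q A) (hAc : Nat.card A = q ^ 2)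
    (hAP : A ⊓ centralizer (P : Set G) ≠ ⊥) : sigmaCore M ⊓ centralizer (P : Set G) = ⊥ := by
  by_contra hC
  have hpp : p.Prime := hp.1
  have hqp : q.Prime := hqf.out
  haveI : Fact p.Prime := ⟨hpp⟩
  have hσM : IsPiHallOf (sigma M) (sigmaCore M) M :=
    Cfsg.Agent.Lib.Helper47.BG11.sigmaHallIn_of_coatom hG hM
  have hEM : E ≤ M := hE.1
  have hAM : A ≤ M := hAE.trans hEM
  have hPM : P ≤ M := hPE.trans hEM
  have h18 := Cfsg.Agent.S1418.result hG M hM E hE q hq A ⟨hAE, hAe, hAc⟩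
  have h17 := Cfsg.Agent.S1417.result hG M hM q hq A ⟨hAM, hAe, hAc⟩
  have hApg : IsPGroup q A := Cfsg.Agent.Lib.Helper23.isPGroup_of_isElementaryAbelian hAe
  -- `p ≠ q`
  have hpq : p ≠ q := by
    rintro rfl
    exact hq.2.2.2 hp.2.2.2.2
  -- a subgroup `Y` of order `q` of `C_A(P)`
  obtain ⟨y', hy'⟩ := (Subgroup.ne_bot_iff_exists_ne_one).mp hAP
  have hyA : (y' : G) ∈ A := y'.2.1
  have hyP : (y' : G) ∈ centralizer (P : Set G) := y'.2.2
  have hy1 : (y' : G) ≠ 1 := fun h => hy' (Subtype.ext h)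
  have horder : ∀ a ∈ A, a ≠ 1 → orderOf a = q := by
    intro a ha ha1
    have h1 : a ^ q = 1 := hAe.2 a ha
    rcases (Nat.dvd_prime hqp).mp (orderOf_dvd_of_pow_eq_one h1) with h | h
    · exact absurd (orderOf_eq_one_iff.mp h) ha1
    · exact h
  set Y := zpowers (y' : G) with hYdef
  have hY : Nat.card Y = q := by rw [hYdef, Nat.card_zpowers, horder _ hyA hy1]
  have hYA : Y ≤ A := by rw [hYdef, zpowers_le]; exact hyA
  have hYP : Y ≤ centralizer (P : Set G) := by rw [hYdef, zpowers_le]; exact hyP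
  -- S1428 for points of `A` centralized by `P`
  have hpt : ∀ X : Subgroup G, X ≤ A → X ≤ centralizer (P : Set G) → Nat.card X = q →
      sigmaCore M ⊓ centralizer (P : Set G) ≤ centralizer (X : Set G) := by
    intro X hXA hXP hXc
    exact (h28 M hM E hE p hp P hPE hP X (le_inf (hXA.trans hAE) hXP)
      (by rw [hXc]; exact hqp)).trans inf_le_right
  have hCY := hpt Y hYA hYP hY
  have hσY : sigmaCore M ⊓ centralizer (Y : Set G) ≠ ⊥ := by
    intro h
    apply hC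
    rw [eq_bot_iff, ← h]
    exact le_inf inf_le_left hCY
  obtain ⟨hYM, huniq⟩ := h18.2.2 Y hYA hY hσY
  -- `P` does not centralize `A`
  have hnc : ¬ A ≤ centralizer (P : Set G) := by
    intro hAcent
    apply hC
    rw [eq_bot_iff, ← h17.2.2.2.1]
    refine le_inf inf_le_left ?_
    intro x hx
    rw [mem_centralizer_iff]
    intro a ha
    by_cases ha1 : a = 1
    · rw [ha1, one_mul, mul_one]
    · have hXc : Nat.card (zpowers a) = q := by rw [Nat.card_zpowers, horder a ha ha1]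
      have hXA : zpowers a ≤ A := by rw [zpowers_le]; exact ha
      have h1 := hpt (zpowers a) hXA (hXA.trans hAcent) hXc hx
      exact mem_centralizer_iff.mp h1 a (mem_zpowers a)
  -- the maximal subgroup `H`
  have hcopE : (Nat.card E).Coprime (Nat.card (sigmaCore M)) := by
    apply Nat.coprime_of_dvd
    intro k hk hkE hkσ
    exact not_mem_sigma_of_dvd_card_compl hσM hE hk hkE (hσM.2.1 k hk hkσ)
  obtain ⟨H, hH, hEH, hqσH⟩ := Cfsg.Agent.Lib.Helper63.BG13.tau2_detour hG hM hq hEM hcopE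
  have hneHM : H ≠ M := by
    rintro rfl
    exact hq.2.1 hqσH
  have hAH : A ≤ H := hAE.trans hEH
  have hPH : P ≤ H := hPE.trans hEH
  have hσMH : sigmaCore M ⊓ H = ⊥ := h17.2.2.2.2.1 H hH hneHM hAH
  have hqβ : q ∉ beta H := by
    intro h
    exact (Cfsg.Agent.S1408.result hG M hM q hq.2.1 hq.2.2.1 hq.2.2.2).1 h.2
  have hσH : IsPiHallOf (sigma H) (sigmaCore H) H :=
    Cfsg.Agent.Lib.Helper47.BG11.sigmaHallIn_of_coatom hG hH
  have hYq : IsPGroup q Y := IsPGroup.of_card (n := 1) (by rw [hY, pow_one])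
  have hYH : Y ≤ H := hYA.trans hAH
  have hYσ : Y ≤ sigmaCore H :=
    Cfsg.Agent.Lib.Helper76.BGSigU.le_sigmaCore_of_isPGroup hσH hqσH hYq hYH
  have hY1 : Y ≠ ⊥ := by
    intro h
    rw [h, Subgroup.card_bot] at hY
    exact hqp.one_lt.ne hY
  -- `p ∈ τ₁(H)`
  have hpτH : p ∈ tau1 H := by
    refine mem_tau1_of_acts hG hH hpq hqσH.2.1 hqβ hP hPH hApg hAH (hPE.trans h18.1.1) hnc ?_ ?_
    · intro h
      apply hY1
      rw [eq_bot_iff, ← h]
      exact le_inf hYσ hYP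
    · intro h
      apply hC
      rw [eq_bot_iff, ← hσMH]
      exact le_inf inf_le_left (inf_le_right.trans h)
  -- the maximal subgroup `N` over `N_G(P)`
  have hP1 : P ≠ ⊥ := by
    intro h
    rw [h, Subgroup.card_bot] at hP
    exact hpp.one_lt.ne hP
  have hPtop : P ≠ ⊤ := fun h => hM.1 (top_le_iff.mp (h ▸ hPM))
  have hNtop := Cfsg.Agent.Lib.Helper63.BG10.normalizer_ne_top hG hP1 hPtop
  obtain ⟨N, hN, hNP⟩ := Cfsg.Agent.Lib.Helper56.BG10.exists_coatom_ge hNtop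
  have hrank : PRankLE q 1 ↥N :=
    pRankLE_one_of_normalizer_le hG hM hN hp hq hP hPM hNP hY hYP hYM huniq hC hCY
  have hq2 : q ≠ 2 := Cfsg.Agent.Lib.Helper63.BG13.ne_two_of_dvd_card hG
    (hqσH.2.1.trans (Subgroup.card_subgroup_dvd_card H))
  have hcyc : ∀ Q : Subgroup G, IsPGroup q Q → Q ≤ centralizer (P : Set G) → IsCyclic ↥Q := by
    intro Q hQ hQP
    exact Cfsg.Agent.Lib.Helper63.BG13.isCyclic_of_le_of_pRankLE_one hq2 hQ
      ((hQP.trans (centralizer_le_normalizer _)).trans hNP) hrank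
  exact core hG h28 hH hM hneHM hqσH hqβ hpτH hP hPH hY hYσ hYP hcyc hYM huniq

/-- **B&G Lemma 13.12** (`tau12_regular`), unconditional: if `p ∈ τ₁(M)`, `P ≤ E` has order `p`,
`q ∈ τ₂(M)`, `A ≤ E` is elementary abelian of order `q²` and `C_A(P) ≠ 1`, then
`C_{M_σ}(P) = 1`. -/
theorem bg_13_12 (hG : IsMinSimpleOddOrder G) {M : Subgroup G}
    (hM : IsCoatom M) {E : Subgroup G} (hE : IsComplIn E (sigmaCore M) M) {p : ℕ}
    (hp : p ∈ tau1 M) {P : Subgroup G} (hPE : P ≤ E) (hP : Nat.card P = p) {q : ℕ}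
    [hqf : Fact q.Prime] (hq : q ∈ tau2 M) {A : Subgroup G} (hAE : A ≤ E)
    (hAe : IsElementaryAbelian q A) (hAc : Nat.card A = q ^ 2)
    (hAP : A ⊓ centralizer (P : Set G) ≠ ⊥) : sigmaCore M ⊓ centralizer (P : Set G) = ⊥ :=
  bg_13_12_of hG
    (fun M hM E hE p hp P hPE hP R hRE hR =>
      Cfsg.Agent.S1428.result hG M hM E hE p hp P hPE hP R hRE hR)
    hM hE hp hPE hP hq hAE hAe hAc hAP

/-- B&G 13.12 as a closed `∀`-statement (the shape of `Stmt1312` used by consumers). -/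
theorem stmt1312 (hG : IsMinSimpleOddOrder G) :
    ∀ (M E : Subgroup G), IsCoatom M → IsComplIn E (sigmaCore M) M → ∀ p : ℕ, p ∈ tau1 M →
      ∀ P : Subgroup G, P ≤ E → Nat.card P = p → ∀ q : ℕ, q ∈ tau2 M → ∀ A : Subgroup G, A ≤ E →
        IsElementaryAbelian q A → Nat.card A = q ^ 2 → A ⊓ centralizer (P : Set G) ≠ ⊥ →
          sigmaCore M ⊓ centralizer (P : Set G) = ⊥ := by
  intro M E hM hE p hp P hPE hP q hq A hAE hAe hAc hAP
  haveI : Fact q.Prime := ⟨hq.1⟩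
  exact bg_13_12 hG hM hE hp hPE hP hq hAE hAe hAc hAP

end Cfsg.Agent.Lib.Helper47.BG1312

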