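import Cfsg.Agent.S1446
import Cfsg.Agent.S1429
import Cfsg.Agent.S1360
import Cfsg.Agent.Lib.Helper76.BGSigU4
import Cfsg.Agent.Lib.Helper19.BG124a
import Cfsg.Agent.Lib.Helper47.BG11e
import Cfsg.Agent.Lib.Helper70.BG1216b
import Cfsg.Agent.Lib.Helper23.FitUniqueB

set_option autoImplicit false
set_option linter.style.haveILetI false
set_option linter.unusedSectionVars false

/-!
# `U ≠ 1 ⟹ |K|` is prime (B&G 14.7(f), second halves; first clause of S1372)

For a maximal subgroup `M = K U M_σ` with `K ≠ 1` and `U ≠ 1`, the prime-action theorem S1446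
(B&G 3.x) applied to `U ⋊ K` acting on the nilpotent group `M_σ` shows that `K` has prime order.
The two facts coming from B&G 14.2 (`K` regular on `U`, `K` semiprime on `M_σ`) are hypotheses.
-/

namespace Cfsg.Agent.Lib.Helper47.BG147P

open Subgroup Cfsg

universe u

variable {G : Type u} [Group G] [Finite G]

/-- a nontrivial subgroup contains an element of prime order -/
theorem exists_prime_orderOf {U : Subgroup G} (hU1 : U ≠ ⊥) :
    ∃ (p : ℕ) (x : G), p.Prime ∧ p ∣ Nat.card U ∧ x ∈ U ∧ x ≠ 1 ∧ x ^ p = 1 := by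
  have hcard : Nat.card U ≠ 1 := by
    intro h
    exact hU1 (Subgroup.card_eq_one.mp h)
  obtain ⟨p, hp, hpU⟩ := Nat.exists_prime_and_dvd hcard
  haveI : Fact p.Prime := ⟨hp⟩
  obtain ⟨x, hx⟩ := exists_prime_orderOf_dvd_card' p hpU
  refine ⟨p, (x : G), hp, hpU, x.2, ?_, ?_⟩
  · intro h
    have h1 : x = 1 := Subtype.ext h
    rw [h1, orderOf_one] at hx
    exact hp.one_lt.ne hx
  · have h1 : x ^ p = 1 := by rw [← hx]; exact pow_orderOf_eq_one x
    have h2 := congrArg (Subtype.val) h1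
    simpa using h2

/-- **B&G 14.7(f), prime order of `K`.**  If `M = K U M_σ` with `K ≠ 1`, `U ≠ 1`, then `M_σ` is
nilpotent, `K` has prime order and `|M_σ| = |K*| ^ |K|`. -/
theorem card_prime_of_U_ne_bot (hG : IsMinSimpleOddOrder G) {M K U : Subgroup G}
    (hM : IsCoatom M) (hKU : IsSigmaDecomposition M K U) (hK1 : K ≠ ⊥) (hU1 : U ≠ ⊥)
    (hreg : ∀ k ∈ K, k ≠ 1 → U ⊓ centralizer ({k} : Set G) = ⊥)
    (hsp : ∀ k ∈ K, k ≠ 1 → sigmaCore M ⊓ centralizer ({k} : Set G) =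
      sigmaCore M ⊓ centralizer (K : Set G)) :
    (Nat.card K).Prime ∧
      Nat.card (sigmaCore M) =
        Nat.card ↥(sigmaCore M ⊓ centralizer (K : Set G)) ^ Nat.card K ∧
      Group.IsNilpotent (sigmaCore M) := by
  have hσ : IsPiHallOf (sigma M) (sigmaCore M) M :=
    Cfsg.Agent.Lib.Helper47.BG11.sigmaHallIn_of_coatom hG hM
  have hUM : U ≤ M := hKU.compl.1
  have hKM : K ≤ M := hKU.hall.1
  have hWM : sigmaCore M ≤ M := hσ.1
  have hMtop : M ≠ ⊤ := hM.1
  -- a prime of `U`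
  obtain ⟨p, x, hp, hpU, hxU, hx1, hxp⟩ := exists_prime_orderOf hU1
  haveI : Fact p.Prime := ⟨hp⟩
  have hpκ : p ∉ kappa M := Cfsg.Agent.Lib.Helper76.BGSigU.not_kappa_of_dvd_card_U hKU hp hpU
  have hpσ : p ∉ sigma M :=
    Cfsg.Agent.Lib.Helper76.BGSigU.not_sigma_of_mem_U hσ hKU hxU hx1 hxp
  have hpM : p ∣ Nat.card M := hpU.trans (Subgroup.card_dvd_of_le hUM)
  -- `M_σ` is nilpotent
  have hnil : Group.IsNilpotent (sigmaCore M) := by
    obtain ⟨S⟩ : Nonempty (Sylow p M) := inferInstance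
    refine (Cfsg.Agent.S1429.result hG M hM ?_ p hpM ?_ S).2.2
    · intro h
      exact hpκ (h p hp hpM hpσ)
    · rintro (h | h)
      · exact hpσ h
      · exact hpκ h
  -- the complement `U K`
  have hE : IsComplIn (U ⊔ K) (sigmaCore M) M :=
    Cfsg.Agent.Lib.Helper76.BGSigU.isComplIn_UK hσ hKU
  have hcop : (Nat.card ↥(U ⊔ K)).Coprime (Nat.card (sigmaCore M)) :=
    Cfsg.Agent.Lib.Helper70.BG1216.coprime_card_compl hσ hE
  have hUKM : U ⊔ K ≤ M := sup_le hUM hKM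
  have hUKtop : U ⊔ K ≠ ⊤ := fun h => hMtop (top_le_iff.mp (h ▸ hUKM))
  have hsolv : Group.IsSolvable ↥(U ⊔ K) :=
    Cfsg.Agent.Lib.Helper23.isSolvable_of_ne_top hG hUKtop
  have hodd : Odd (Nat.card ↥(U ⊔ K)) := Cfsg.Agent.Lib.Helper23.odd_card_subgroup hG _
  have hKR : U ⊓ K = ⊥ := by
    rw [eq_bot_iff, ← hKU.compl.2.2.1]
    exact inf_le_inf_left U le_sup_left
  have hNW : M ≤ normalizer ((sigmaCore M : Subgroup G) : Set G) :=
    Cfsg.Agent.Lib.Helper76.BGSigU.le_normalizer_sigmaCore' M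
  have hW1 : sigmaCore M ≠ ⊥ := Cfsg.Agent.Lib.Helper19.BG124.sigmaCore_ne_bot hG hM
  -- `C_{M_σ}(U) = 1`
  have hCK : sigmaCore M ⊓ centralizer (U : Set G) = ⊥ := by
    obtain ⟨U₀, hU₀U, hexp, hU₀⟩ := Cfsg.Agent.S1360.result hG M hM K U hKU
    have hU₀1 : U₀ ≠ ⊥ := by
      intro h
      have h1 : Monoid.exponent U = 1 := by
        rw [← hexp, h]
        exact Monoid.exp_eq_one_iff.mpr inferInstance
      have h2 : Subsingleton U := Monoid.exp_eq_one_iff.mp h1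
      apply hU1
      rw [eq_bot_iff]
      intro z hz
      have h3 : (⟨z, hz⟩ : U) = 1 := Subsingleton.elim _ _
      rw [Subgroup.mem_bot]
      exact congrArg Subtype.val h3
    obtain ⟨u', hu'⟩ := (Subgroup.ne_bot_iff_exists_ne_one).mp hU₀1
    have hu : (u' : G) ∈ U₀ := u'.2
    have hu1 : (u' : G) ≠ 1 := fun h => hu' (Subtype.ext h)
    set u : G := (u' : G) with hudef
    rw [eq_bot_iff]
    intro y hy
    rw [Subgroup.mem_bot]
    by_contra hy1
    apply hu1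
    apply hU₀ u hu
    refine ⟨hUM (hU₀U hu), y, hy.1, hy1, ?_⟩
    exact mem_centralizer_iff.mp hy.2 u (hU₀U hu)
  obtain ⟨h1, h2, -⟩ := Cfsg.Agent.S1446.result (X := G) U K (sigmaCore M) hU1 hK1 hKR hKU.normal
    hreg hsolv hodd hW1 hnil (hUM.trans hNW) (hKM.trans hNW) hcop hCK hsp
  exact ⟨h1, h2, hnil⟩

end Cfsg.Agent.Lib.Helper47.BG147P
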