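import Cfsg.Agent.Lib.Helper47.Basic

set_option autoImplicit false

namespace Cfsg.Agent.Lib.Helper47

open Cfsg

variable {G : Type*} [Group G]

theorem le_normalizer_map_subtype_of_normal (N : Subgroup G) (K : Subgroup ↥N) [hK : K.Normal] :
    N ≤ Subgroup.normalizer ((K.map N.subtype : Subgroup G) : Set G) := by
  rw [Subgroup.le_normalizer_iff]
  intro n hn x hx
  obtain ⟨k, hk, rfl⟩ := hx
  exact ⟨⟨n, hn⟩ * k * ⟨n, hn⟩⁻¹, hK.conj_mem k hk ⟨n, hn⟩, rfl⟩

theorem pCoreOf_le (p : ℕ) (N : Subgroup G) : pCoreOf p N ≤ N :=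
  Subgroup.map_subtype_le _

theorem pCoreOf_isPGroup (p : ℕ) [Fact p.Prime] [Finite G] (N : Subgroup G) :
    IsPGroup p ↥(pCoreOf p N) :=
  (pCore_isPGroup p ↥N).map _

theorem le_normalizer_pCoreOf (p : ℕ) (N : Subgroup G) :
    N ≤ Subgroup.normalizer ((pCoreOf p N : Subgroup G) : Set G) :=
  le_normalizer_map_subtype_of_normal N (pCore p ↥N)

theorem le_pCoreOf {p : ℕ} {N X : Subgroup G} (hXN : X ≤ N)
    (hNX : N ≤ Subgroup.normalizer (X : Set G)) (hX : IsPGroup p ↥X) : X ≤ pCoreOf p N := by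
  have h1 : (X.subgroupOf N).Normal := Subgroup.normal_subgroupOf_of_le_normalizer hNX
  have h2 : IsPGroup p ↥(X.subgroupOf N) := hX.comap_subtype
  have h3 : X.subgroupOf N ≤ pCore p ↥N := le_pCore h1 h2
  have h4 := Subgroup.map_mono (f := N.subtype) h3
  rw [Subgroup.subgroupOf_map_subtype, inf_of_le_left hXN] at h4
  exact h4

theorem pCoreOf_eq_bot_iff (p : ℕ) (N : Subgroup G) : pCoreOf p N = ⊥ ↔ pCore p ↥N = ⊥ := by
  unfold pCoreOf
  exact (Subgroup.map_eq_bot_iff_of_injective _ Subtype.coe_injective)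

end Cfsg.Agent.Lib.Helper47
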