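import Cfsg.Agent.Lib.Helper47.WC5
import Cfsg.Agent.Lib.Helper46.Subnormal

set_option autoImplicit false

namespace Cfsg.Agent.Lib.Helper47

open Cfsg
open scoped commutatorElement Pointwise

variable {G : Type*} [Group G]

theorem pResidual_map_subtype (p : ℕ) (B : Subgroup G) :
    (pResidual p ↥B).map B.subtype = pPrimeClosure p B := by
  unfold pResidual pPrimeClosure
  rw [MonoidHom.map_closure]
  congr 1
  ext a
  constructor
  · rintro ⟨g, hg, rfl⟩
    refine ⟨g.2, ?_⟩
    show Nat.Coprime (orderOf (g : G)) p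
    rw [Subgroup.orderOf_coe]
    exact hg
  · rintro ⟨haB, hao⟩
    refine ⟨⟨a, haB⟩, ?_, rfl⟩
    show Nat.Coprime (orderOf (⟨a, haB⟩ : ↥B)) p
    rw [← Subgroup.orderOf_coe]
    exact hao

theorem pPrimeClosure_mono (p : ℕ) {B K : Subgroup G} (h : B ≤ K) :
    pPrimeClosure p B ≤ pPrimeClosure p K := by
  unfold pPrimeClosure
  apply Subgroup.closure_mono
  rintro a ⟨ha, hao⟩
  exact ⟨h ha, hao⟩

theorem pPrimeClosure_idem (p : ℕ) (B : Subgroup G) :
    pPrimeClosure p (pPrimeClosure p B) = pPrimeClosure p B := by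
  apply le_antisymm (pPrimeClosure_le p _)
  conv_lhs => unfold pPrimeClosure
  rw [Subgroup.closure_le]
  rintro a ⟨ha, hao⟩
  apply Subgroup.subset_closure
  exact ⟨Subgroup.subset_closure ⟨ha, hao⟩, hao⟩

theorem mul_pow_eq_of_mem_normalizer {N : Subgroup G} {t n : G}
    (ht : t ∈ Subgroup.normalizer (N : Set G)) (hn : n ∈ N) (m : ℕ) :
    ∃ n' ∈ N, (t * n) ^ m = t ^ m * n' := by
  induction m with
  | zero => exact ⟨1, N.one_mem, by simp⟩
  | succ m ih =>
    obtain ⟨n', hn', h⟩ := ih
    refine ⟨(t⁻¹ * n' * t) * n, N.mul_mem (conj_mem_of_mem_normalizer' ht hn') hn, ?_⟩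
    rw [pow_succ, h, pow_succ]
    group

/-- a `p'`-element of `T ⊔ N` (`T` a `p`-group normalizing `N`) lies in `N` -/
theorem mem_of_mem_sup_of_coprime' {p : ℕ} (T N : Subgroup G)
    (hTN : T ≤ Subgroup.normalizer (N : Set G))
    (hT : IsPGroup p ↥T) {g : G} (hmem : g ∈ T ⊔ N) (hg : Nat.Coprime (orderOf g) p) : g ∈ N := by
  have hmem' : g ∈ ((T ⊔ N : Subgroup G) : Set G) := hmem
  rw [Subgroup.coe_mul_of_left_le_normalizer_right T N hTN] at hmem'
  obtain ⟨t, ht, n, hn, rfl⟩ := hmem'
  obtain ⟨k, hk⟩ := hT ⟨t, ht⟩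
  have hk' : t ^ (p ^ k) = 1 := by
    have := congrArg Subtype.val hk
    simpa using this
  obtain ⟨n', hn', h⟩ := mul_pow_eq_of_mem_normalizer (hTN ht) hn (p ^ k)
  rw [hk', one_mul] at h
  have hcop : Nat.Coprime (p ^ k) (orderOf (t * n)) := (Nat.Coprime.pow_right k hg).symm
  obtain ⟨j, hj⟩ := exists_pow_eq_self_of_coprime hcop
  show t * n ∈ N
  rw [← hj, h]
  exact N.pow_mem hn' j

theorem pPrimeClosure_sup_le {p : ℕ} (T N : Subgroup G)
    (hTN : T ≤ Subgroup.normalizer (N : Set G)) (hT : IsPGroup p ↥T) :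
    pPrimeClosure p (T ⊔ N) ≤ N := by
  unfold pPrimeClosure
  rw [Subgroup.closure_le]
  rintro g ⟨hg, hgo⟩
  exact mem_of_mem_sup_of_coprime' T N hTN hT hg hgo

/-- in a finite group: `x` normalizes `X` as soon as `x X x⁻¹ ≤ X` -/
theorem mem_normalizer_of_map_conj_le [Finite G] {X : Subgroup G} {x : G}
    (h : X.map (MulAut.conj x).toMonoidHom ≤ X) : x ∈ Subgroup.normalizer (X : Set G) := by
  rw [← map_conj_eq_iff_mem_normalizer]
  exact Subgroup.eq_of_le_of_card_ge h (card_map_conj X x).ge

/-- `O_p(G)` normalizes `O^p(B)` for every subnormal subgroup `B` -/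
theorem pCore_le_normalizer_pPrimeClosure_of_subnormal [Finite G] {p : ℕ} [Fact p.Prime]
    {B : Subgroup G} (hB : B.IsSubnormal) :
    pCore p G ≤ Subgroup.normalizer ((pPrimeClosure p B : Subgroup G) : Set G) := by
  induction hB with
  | top =>
    refine le_trans ?_ (normalizer_le_normalizer_pPrimeClosure p ⊤)
    rw [Subgroup.normalizer_eq_top]
    exact le_top
  | step B K h_le hSubn hN ih =>
    set P := pCore p G with hP
    set K' := pPrimeClosure p K with hK'
    set B' := pPrimeClosure p B with hB'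
    have hPp : IsPGroup p ↥P := pCore_isPGroup p G
    have hB'K' : B' ≤ K' := pPrimeClosure_mono p h_le
    have hKB : K ≤ Subgroup.normalizer (B : Set G) :=
      (Subgroup.normal_subgroupOf_iff_le_normalizer h_le).mp hN
    have hKB' : K ≤ Subgroup.normalizer (B' : Set G) :=
      hKB.trans (normalizer_le_normalizer_pPrimeClosure p B)
    have hK'K : K' ≤ K := pPrimeClosure_le p K
    set R := pCoreOf p K' with hR
    have hRp : IsPGroup p ↥R := pCoreOf_isPGroup p K'
    have hRK' : R ≤ K' := pCoreOf_le p K'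
    have hPR : P ≤ Subgroup.normalizer (R : Set G) :=
      ih.trans (normalizer_le_normalizer_pCoreOf p K')
    have hPn : Subgroup.normalizer (P : Set G) = ⊤ := Subgroup.normalizer_eq_top (pCore p G)
    have hcomm : ⁅K', P⁆ ≤ R := by
      have h1 : ⁅K', P⁆ ≤ P := by
        apply Subgroup.le_normalizer_iff_commutator_le_right.mp
        rw [hPn]; exact le_top
      have h2 : ⁅K', P⁆ ≤ K' := Subgroup.le_normalizer_iff_commutator_le_left.mp ih
      refine (le_inf h1 h2).trans ?_
      apply le_pCoreOf inf_le_right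
      · refine le_trans ?_ (normalizer_inf_le_normalizer_inf P K')
        apply le_inf _ Subgroup.le_normalizer
        rw [hPn]; exact le_top
      · exact hPp.to_le inf_le_left
    have hRB' : R ≤ Subgroup.normalizer (B' : Set G) := (hRK'.trans hK'K).trans hKB'
    -- P normalizes B' ⊔ R
    have hPBR : P ≤ Subgroup.normalizer ((R ⊔ B' : Subgroup G) : Set G) := by
      intro x hx
      apply mem_normalizer_of_map_conj_le
      rw [Subgroup.map_sup]
      apply sup_le
      · rw [map_conj_eq_iff_mem_normalizer.mpr (hPR hx)]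
        exact le_sup_left
      · intro y hy
        rw [mem_map_conj] at hy
        have h1 : y = (⁅x⁻¹ * y * x, x⁆)⁻¹ * (x⁻¹ * y * x) := by
          rw [commutatorElement_def]; group
        rw [h1]
        refine Subgroup.mul_mem _ (Subgroup.mem_sup_left (R.inv_mem (hcomm ?_)))
          (Subgroup.mem_sup_right hy)
        exact Subgroup.commutator_mem_commutator (hB'K' hy) hx
    have heq : pPrimeClosure p (R ⊔ B') = B' := by
      apply le_antisymm (pPrimeClosure_sup_le R B' hRB' hRp)
      calc B' = pPrimeClosure p B' := (pPrimeClosure_idem p B).symm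
        _ ≤ pPrimeClosure p (R ⊔ B') := pPrimeClosure_mono p le_sup_right
    have := hPBR.trans (normalizer_le_normalizer_pPrimeClosure p (R ⊔ B'))
    rwa [heq] at this

end Cfsg.Agent.Lib.Helper47
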