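import Cfsg.Agent.Lib.Helper47.Minimal

set_option autoImplicit false

namespace Cfsg.Agent.Lib.Helper47

open Cfsg
open scoped commutatorElement

variable {G : Type*} [Group G]

/-- a `p'`-element of `T ⊔ N` (`T` a `p`-group, `N` normal) lies in `N` -/
theorem mem_of_mem_sup_of_coprime {p : ℕ} (T N : Subgroup G) [hN : N.Normal]
    (hT : IsPGroup p ↥T) {g : G} (hmem : g ∈ T ⊔ N) (hg : Nat.Coprime (orderOf g) p) : g ∈ N := by
  have hmem' : g ∈ ((T ⊔ N : Subgroup G) : Set G) := hmem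
  rw [Subgroup.mul_normal] at hmem'
  obtain ⟨t, ht, n, hn, rfl⟩ := hmem'
  obtain ⟨k, hk⟩ := hT ⟨t, ht⟩
  have hk' : t ^ (p ^ k) = 1 := by
    have := congrArg Subtype.val hk
    simpa using this
  have e1 : (QuotientGroup.mk (t * n) : G ⧸ N) = QuotientGroup.mk t := by
    rw [QuotientGroup.mk_mul, (QuotientGroup.eq_one_iff n).mpr hn, mul_one]
  have e2 : (QuotientGroup.mk (t * n) : G ⧸ N) ^ (p ^ k) = 1 := by
    rw [e1, ← QuotientGroup.mk_pow, hk', QuotientGroup.mk_one]
  have e3 : (QuotientGroup.mk (t * n) : G ⧸ N) ^ (orderOf (t * n)) = 1 := by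
    rw [← QuotientGroup.mk_pow, pow_orderOf_eq_one, QuotientGroup.mk_one]
  have := eq_one_of_pow_coprime hg e3 e2
  exact (QuotientGroup.eq_one_iff _).mp this

/-- `O^p(G) ≤ N` as soon as `O^p(G) ≤ T ⊔ N` with `T` a `p`-group and `N` normal -/
theorem pResidual_le_of_le_sup {p : ℕ} (T N : Subgroup G) [hN : N.Normal]
    (hT : IsPGroup p ↥T) (h : pResidual p G ≤ T ⊔ N) : pResidual p G ≤ N := by
  have h' := h
  unfold pResidual at h' ⊢
  rw [Subgroup.closure_le]
  intro g hg
  exact mem_of_mem_sup_of_coprime T N hT (h' (Subgroup.subset_closure hg)) hg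

theorem pow_mem_pResidual [Finite G] {p : ℕ} [Fact p.Prime] (g : G) :
    ∃ k : ℕ, g ^ (p ^ k) ∈ pResidual p G := by
  have hp : p.Prime := Fact.out
  have hpos : orderOf g ≠ 0 := (orderOf_pos g).ne'
  obtain ⟨k, m, hmp, hkm⟩ := Nat.exists_eq_pow_mul_and_not_dvd hpos p hp.ne_one
  refine ⟨k, Subgroup.subset_closure ?_⟩
  show Nat.Coprime (orderOf (g ^ (p ^ k))) p
  have hdvd : p ^ k ∣ orderOf g := ⟨m, hkm⟩
  have hne : p ^ k ≠ 0 := pow_ne_zero _ hp.ne_zero
  rw [orderOf_pow_of_dvd hne hdvd, hkm, Nat.mul_div_cancel_left _ (Nat.pos_of_ne_zero hne)]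
  exact (Nat.Coprime.symm ((Nat.Prime.coprime_iff_not_dvd hp).mpr hmp))

theorem quotient_pResidual_isPGroup [Finite G] {p : ℕ} [Fact p.Prime]
    [(pResidual p G).Normal] : IsPGroup p (G ⧸ pResidual p G) := by
  intro x
  obtain ⟨g, rfl⟩ := QuotientGroup.mk_surjective x
  obtain ⟨k, hk⟩ := pow_mem_pResidual (p := p) g
  refine ⟨k, ?_⟩
  rw [← QuotientGroup.mk_pow]
  exact (QuotientGroup.eq_one_iff _).mpr hk

/-- `G = O^p(G) T` for a Sylow `p`-subgroup `T`. -/
theorem pResidual_sup_sylow [Finite G] {p : ℕ} [Fact p.Prime] (T : Sylow p G) :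
    pResidual p G ⊔ (T : Subgroup G) = ⊤ := by
  haveI := pResidual_normal p G
  have hsurj : Function.Surjective (QuotientGroup.mk' (pResidual p G)) :=
    QuotientGroup.mk'_surjective _
  have hq : IsPGroup p (G ⧸ pResidual p G) := quotient_pResidual_isPGroup
  have h1 : ((T.mapSurjective hsurj : Sylow p (G ⧸ pResidual p G)) :
      Subgroup (G ⧸ pResidual p G)) = ⊤ := by
    have := (T.mapSurjective hsurj).is_maximal' (Q := ⊤) (hq.to_subgroup ⊤) le_top
    exact this.symm
  rw [Sylow.coe_mapSurjective] at h1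
  have h2 : ((T : Subgroup G).map (QuotientGroup.mk' (pResidual p G))).comap
      (QuotientGroup.mk' (pResidual p G)) = ⊤ := by rw [h1, Subgroup.comap_top]
  rw [Subgroup.comap_map_eq, QuotientGroup.ker_mk'] at h2
  rw [sup_comm]; exact h2

theorem normalizer_inf_le_normalizer_sup (A B : Subgroup G) :
    Subgroup.normalizer (A : Set G) ⊓ Subgroup.normalizer (B : Set G) ≤
      Subgroup.normalizer ((A ⊔ B : Subgroup G) : Set G) := by
  intro t ht
  have h1 : t ∈ Subgroup.normalizer (A : Set G) := ht.1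
  have h2 : t ∈ Subgroup.normalizer (B : Set G) := ht.2
  rw [Subgroup.mem_normalizer_iff_map_conj_eq] at h1 h2 ⊢
  rw [Subgroup.map_sup, h1, h2]

/-- If `N ⊴ G` is `p`-closed and `T` is a Sylow `p`-subgroup of `G`, then `T ∩ N ⊴ G`. -/
theorem sylow_inf_normal_of_isPClosed [Finite G] {p : ℕ} [Fact p.Prime] (T : Sylow p G)
    (N : Subgroup G) [hN : N.Normal] (hcl : IsPClosed p ↥N) : ((T : Subgroup G) ⊓ N).Normal := by
  obtain ⟨P, hP⟩ := exists_sylow_subgroupOf_normal T N
  have hPn : (P : Subgroup ↥N).Normal := hcl P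
  haveI hPc : (P : Subgroup ↥N).Characteristic := Sylow.characteristic_of_normal P hPn
  have h1 : ((P : Subgroup ↥N).map N.subtype).Normal := ConjAct.normal_of_characteristic_of_normal
  have h2 : (P : Subgroup ↥N).map N.subtype = (T : Subgroup G) ⊓ N := by
    rw [hP, Subgroup.subgroupOf_map_subtype]
  rw [← h2]; exact h1

theorem isPClosed_of_sylow_normal [Finite G] {p : ℕ} [Fact p.Prime] (T : Sylow p G)
    (hT : (T : Subgroup G).Normal) : IsPClosed p G := by
  intro P
  haveI := Sylow.unique_of_normal T hT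
  have : P = T := Subsingleton.elim _ _
  rw [this]; exact hT

end Cfsg.Agent.Lib.Helper47
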