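import Cfsg.Agent.Lib.Helper47.Basic
import Mathlib.Tactic.Group

set_option autoImplicit false

namespace Cfsg.Agent.Lib.Helper47

open Cfsg

variable {G : Type*} [Group G]

theorem eq_one_of_pow_coprime {p : ℕ} {c : G} {m j : ℕ} (hm : Nat.Coprime m p)
    (h1 : c ^ m = 1) (h2 : c ^ (p ^ j) = 1) : c = 1 := by
  have d1 : orderOf c ∣ m := orderOf_dvd_of_pow_eq_one h1
  have d2 : orderOf c ∣ p ^ j := orderOf_dvd_of_pow_eq_one h2
  have hc : Nat.Coprime m (p ^ j) := Nat.Coprime.pow_right j hm
  have : orderOf c = 1 := Nat.eq_one_of_dvd_coprimes hc d1 d2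
  exact orderOf_eq_one_iff.mp this

/-- For `N` normal, `T ∩ N` is a Sylow subgroup of `N`. -/
theorem relIndex_dvd_index_of_normal_right [Finite G] (T N : Subgroup G) [N.Normal] :
    T.relIndex N ∣ T.index := by
  have h1 : (T ⊓ N).relIndex T * T.relIndex (T ⊔ N) = (T ⊓ N).relIndex (T ⊔ N) :=
    Subgroup.relIndex_mul_relIndex _ _ _ inf_le_left le_sup_left
  have h2 : (T ⊓ N).relIndex N * N.relIndex (T ⊔ N) = (T ⊓ N).relIndex (T ⊔ N) :=
    Subgroup.relIndex_mul_relIndex _ _ _ inf_le_right le_sup_right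
  rw [Subgroup.inf_relIndex_left] at h1
  rw [Subgroup.inf_relIndex_right, Subgroup.relIndex_sup_right] at h2
  have h3 : N.relIndex T ≠ 0 := Subgroup.index_ne_zero_of_finite
  have h4 : T.relIndex (T ⊔ N) = T.relIndex N := by
    have : N.relIndex T * T.relIndex (T ⊔ N) = N.relIndex T * T.relIndex N := by
      rw [h1, ← h2, mul_comm]
    exact Nat.eq_of_mul_eq_mul_left (Nat.pos_of_ne_zero h3) this
  rw [← h4]
  exact Subgroup.relIndex_dvd_index_of_le le_sup_left

theorem exists_sylow_subgroupOf_normal [Finite G] {p : ℕ} [Fact p.Prime] (T : Sylow p G)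
    (N : Subgroup G) [N.Normal] :
    ∃ P : Sylow p ↥N, (P : Subgroup ↥N) = (T : Subgroup G).subgroupOf N := by
  have hp : IsPGroup p ↥((T : Subgroup G).subgroupOf N) := T.isPGroup'.comap_subtype
  have hidx : ¬ p ∣ ((T : Subgroup G).subgroupOf N).index := by
    intro h
    have h1 : (T : Subgroup G).relIndex N ∣ (T : Subgroup G).index :=
      relIndex_dvd_index_of_normal_right _ N
    exact T.not_dvd_index (dvd_trans h h1)
  exact ⟨hp.toSylow hidx, rfl⟩

theorem exists_le_coatom [Finite G] {K : Subgroup G} (hK : K ≠ ⊤) :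
    ∃ M : Subgroup G, IsCoatom M ∧ K ≤ M := by
  rcases eq_top_or_exists_le_coatom K with h | h
  · exact absurd h hK
  · exact h

theorem isCoatom_map_of_surjective {H : Type*} [Group H] {φ : G →* H}
    (hφ : Function.Surjective φ) {M : Subgroup G} (hM : IsCoatom M) (hker : φ.ker ≤ M) :
    IsCoatom (M.map φ) := by
  constructor
  · intro h
    have : (M.map φ).comap φ = ⊤ := by rw [h, Subgroup.comap_top]
    rw [Subgroup.comap_map_eq_self hker] at this
    exact hM.1 this
  · intro K hK
    have h1 : M ≤ K.comap φ := by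
      rw [← Subgroup.comap_map_eq_self hker]
      exact Subgroup.comap_mono hK.le
    have h2 : M ≠ K.comap φ := by
      intro h
      have : K = M.map φ := by
        rw [h, Subgroup.map_comap_eq_self_of_surjective hφ]
      exact hK.ne' this
    have h3 : K.comap φ = ⊤ := hM.2 _ (lt_of_le_of_ne h1 h2)
    rw [← Subgroup.map_comap_eq_self_of_surjective hφ K, h3]
    exact Subgroup.map_top_of_surjective φ hφ

theorem pResidual_normal (p : ℕ) (G : Type*) [Group G] : (pResidual p G).Normal := by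
  constructor
  intro n hn g
  unfold pResidual at hn ⊢
  induction hn using Subgroup.closure_induction with
  | mem x hx =>
    apply Subgroup.subset_closure
    show Nat.Coprime (orderOf (g * x * g⁻¹)) p
    have h1 : orderOf (g * x * g⁻¹) = orderOf x :=
      orderOf_injective (MulAut.conj g).toMonoidHom (MulAut.conj g).injective x
    rw [h1]
    exact hx
  | one => simp
  | mul a b _ _ iha ihb =>
    have : g * (a * b) * g⁻¹ = (g * a * g⁻¹) * (g * b * g⁻¹) := by group
    rw [this]; exact mul_mem iha ihb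
  | inv a _ iha =>
    have : g * a⁻¹ * g⁻¹ = (g * a * g⁻¹)⁻¹ := by group
    rw [this]; exact inv_mem iha

/-- If a `p`-subgroup `T` and a normal subgroup `N` generate `G`, then `O^p(G) ≤ N`. -/
theorem pResidual_le_of_sup_eq_top {p : ℕ} (T N : Subgroup G) [hN : N.Normal]
    (hT : IsPGroup p ↥T) (h : T ⊔ N = ⊤) : pResidual p G ≤ N := by
  unfold pResidual
  rw [Subgroup.closure_le]
  intro g hg
  have hg' : Nat.Coprime (orderOf g) p := hg
  have hmem : g ∈ ((T ⊔ N : Subgroup G) : Set G) := by rw [h]; trivial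
  rw [Subgroup.mul_normal] at hmem
  obtain ⟨t, ht, n, hn, rfl⟩ := hmem
  obtain ⟨k, hk⟩ := hT ⟨t, ht⟩
  have hk' : t ^ (p ^ k) = 1 := by
    have := congrArg Subtype.val hk
    simpa using this
  -- work in the quotient
  have e1 : (QuotientGroup.mk (t * n) : G ⧸ N) = QuotientGroup.mk t := by
    rw [QuotientGroup.mk_mul, (QuotientGroup.eq_one_iff n).mpr hn, mul_one]
  have e2 : (QuotientGroup.mk (t * n) : G ⧸ N) ^ (p ^ k) = 1 := by
    rw [e1, ← QuotientGroup.mk_pow, hk', QuotientGroup.mk_one]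
  have e3 : (QuotientGroup.mk (t * n) : G ⧸ N) ^ (orderOf (t * n)) = 1 := by
    rw [← QuotientGroup.mk_pow, pow_orderOf_eq_one, QuotientGroup.mk_one]
  have := eq_one_of_pow_coprime hg' e3 e2
  exact (QuotientGroup.eq_one_iff _).mp this

end Cfsg.Agent.Lib.Helper47
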