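import Cfsg.Agent.Lib.Helper47.ABLemma

set_option autoImplicit false

namespace Cfsg.Agent.Lib.Helper47

open Cfsg
open scoped commutatorElement Pointwise

variable {G : Type*} [Group G]

/-- normal case of S2825(c): a `p`-reduced normal subgroup `W` of `L ⊴ K`, invariant under `K`, contains
a `p`-reduced normal subgroup `W'` of `K` with `C_L(W') ≤ C_L(W)` -/
theorem exists_pRed_sub_of_normal [Finite G] {p : ℕ} [Fact p.Prime] {L K : Subgroup G} (hLK : L ≤ K)
    (hKL : K ≤ Subgroup.normalizer (L : Set G)) :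
    ∀ (n : ℕ) (W : Subgroup G), Nat.card ↥W ≤ n → W ≤ L → K ≤ Subgroup.normalizer (W : Set G) →
      IsPGroup p ↥W → PRedInternal p W L →
      ∃ W' : Subgroup G, W' ≤ W ∧ K ≤ Subgroup.normalizer (W' : Set G) ∧ PRedInternal p W' K ∧
        L ⊓ Subgroup.centralizer (W' : Set G) ≤ Subgroup.centralizer (W : Set G) := by
  intro n
  induction n with
  | zero =>
    intro W hcard
    have : 0 < Nat.card ↥W := Nat.card_pos
    omega
  | succ n ih =>
    intro W hcard hWL hKW hWp hred
    by_cases hK : PRedInternal p W K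
    · exact ⟨W, le_rfl, hKW, hK, inf_le_right⟩
    · unfold PRedInternal at hK
      push Not at hK
      obtain ⟨D₀, hD₀K, hKD₀, hD₀p, hD₀C⟩ := hK
      set W₁ : Subgroup G := W ⊓ Subgroup.centralizer (D₀ : Set G) with hW₁
      have hW₁W : W₁ ≤ W := inf_le_left
      have hW₁ne : W₁ ≠ W := by
        intro h
        apply hD₀C
        rw [Subgroup.le_centralizer_iff, ← h]
        exact inf_le_right
      have hcard' : Nat.card ↥W₁ ≤ n := by
        by_contra hcon
        push Not at hcon
        have h1 : Nat.card ↥W ≤ Nat.card ↥W₁ := by omega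
        exact hW₁ne (Subgroup.eq_of_le_of_card_ge hW₁W h1)
      have hKW₁ : K ≤ Subgroup.normalizer (W₁ : Set G) :=
        (le_inf hKW (hKD₀.trans (normalizer_le_normalizer_centralizer D₀))).trans
          (normalizer_inf_le_normalizer_inf W _)
      have hDL : D₀ ⊓ L ≤ Subgroup.centralizer (W : Set G) := by
        apply hred (D₀ ⊓ L) inf_le_right
        · exact (le_inf (hLK.trans hKD₀) Subgroup.le_normalizer).trans
            (normalizer_inf_le_normalizer_inf D₀ L)
        · intro d hd
          exact hD₀p d hd.1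
      set Q : Subgroup G := L ⊓ Subgroup.centralizer (W₁ : Set G) with hQ
      have hQL : Q ≤ L := inf_le_left
      have hQK : Q ≤ K := hQL.trans hLK
      have hQD : Q ≤ Subgroup.normalizer (D₀ : Set G) := hQK.trans hKD₀
      have hDQ : ⁅D₀, Q⁆ ≤ Subgroup.centralizer (W : Set G) := by
        refine le_trans (le_inf ?_ ?_) hDL
        · exact Cfsg.Agent.Lib.Helper24.commutator_le_of_le_normalizer D₀ Q hQD
        · rw [Subgroup.commutator_comm]
          refine (Subgroup.commutator_mono hQL hD₀K).trans ?_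
          exact Cfsg.Agent.Lib.Helper24.commutator_le_of_le_normalizer L K hKL
      obtain ⟨k, hk⟩ := exists_iterCommutator_eq_bot_of_pgroup_mod hWp (hD₀K.trans hKW) hD₀p
      have hfix : W ⊓ Subgroup.centralizer (D₀ : Set G) ≤ Subgroup.centralizer (Q : Set G) := by
        rw [Subgroup.le_centralizer_iff]
        exact inf_le_right
      have hAB : pPrimeClosure p Q ≤ Subgroup.centralizer (W : Set G) :=
        ab_lemma hQD k W hWp (hD₀K.trans hKW) (hQK.trans hKW) hDQ hk hfix
      have hkey : ∀ E : Subgroup G, E ≤ L → L ≤ Subgroup.normalizer (E : Set G) →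
          (∀ e ∈ E, ∃ j : ℕ, e ^ (p ^ j) ∈ Subgroup.centralizer (W₁ : Set G)) →
          E ≤ Subgroup.centralizer (W : Set G) := by
        intro E hEL hLE hEp
        apply hred E hEL hLE
        intro e he
        obtain ⟨j, m, hm, hxm⟩ := exists_pprime_pow p e
        refine ⟨j, ?_⟩
        have hxE : e ^ (p ^ j) ∈ E := E.pow_mem he _
        obtain ⟨i, hi⟩ := hEp _ hxE
        have hxC : e ^ (p ^ j) ∈ Subgroup.centralizer (W₁ : Set G) :=
          mem_of_pprime_of_pow_mem hm hxm hi
        exact hAB (mem_pPrimeClosure_of_pprime ⟨hEL hxE, hxC⟩ hm hxm)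
      have hred₁ : PRedInternal p W₁ L := by
        intro E hEL hLE hEp
        exact (hkey E hEL hLE hEp).trans (Subgroup.centralizer_le hW₁W)
      have hLC : L ⊓ Subgroup.centralizer (W₁ : Set G) ≤ Subgroup.centralizer (W : Set G) := by
        apply hkey Q hQL
        · exact (le_inf Subgroup.le_normalizer
            ((hLK.trans hKW₁).trans (normalizer_le_normalizer_centralizer W₁))).trans
            (normalizer_inf_le_normalizer_inf L _)
        · intro e he
          exact ⟨0, by simpa using he.2⟩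
      obtain ⟨W', hW'W₁, hKW', hred', hLW'⟩ :=
        ih W₁ hcard' (hW₁W.trans hWL) hKW₁ (hWp.to_le hW₁W) hred₁
      refine ⟨W', hW'W₁.trans hW₁W, hKW', hred', ?_⟩
      exact (le_inf inf_le_left hLW').trans hLC

theorem pRedInternal_map_conj {p : ℕ} {Y L : Subgroup G} (h : PRedInternal p Y L) (g : G) :
    PRedInternal p (Y.map (MulAut.conj g).toMonoidHom) (L.map (MulAut.conj g).toMonoidHom) := by
  intro D₀ hD₀L hLD₀ hD₀p
  set D₁ : Subgroup G := D₀.map (MulAut.conj g⁻¹).toMonoidHom with hD₁
  have h1 : D₁ ≤ L := by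
    rw [hD₁, map_conj_le_iff, inv_inv]
    exact hD₀L
  have h2 : L ≤ Subgroup.normalizer (D₁ : Set G) := by
    rw [hD₁, normalizer_map_conj]
    exact map_conj_le_iff.mp hLD₀
  have h3 : ∀ d ∈ D₁, ∃ k : ℕ, d ^ (p ^ k) ∈ Subgroup.centralizer (Y : Set G) := by
    intro d hd
    rw [hD₁, mem_map_conj] at hd
    obtain ⟨k, hk⟩ := hD₀p _ hd
    refine ⟨k, ?_⟩
    rw [centralizer_map_conj, mem_map_conj] at hk
    have e0 : g⁻¹⁻¹ * d * g⁻¹ = g * d * g⁻¹ := by group
    have e : g⁻¹ * (g⁻¹⁻¹ * d * g⁻¹) ^ (p ^ k) * g = d ^ (p ^ k) := by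
      rw [e0, conj_pow]; group
    rwa [e] at hk
  have h4 := h D₁ h1 h2 h3
  rw [centralizer_map_conj]
  have := Subgroup.map_mono (f := (MulAut.conj g).toMonoidHom) h4
  rwa [hD₁, map_conj_map_conj_inv] at this

theorem largestPReducedOf_comm (p : ℕ) (L : Subgroup G) :
    ∀ a ∈ largestPReducedOf p L, ∀ b ∈ largestPReducedOf p L, a * b = b * a := by
  have hY : IsPReducedNormal p (largestPReduced p ↥L) := largestPReduced_isPReducedNormal p ↥L
  have hc : IsMulCommutative ↥(largestPReduced p ↥L) := hY.2.1.1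
  rintro a ⟨a', ha', rfl⟩ b ⟨b', hb', rfl⟩
  have := hc.is_comm.comm (⟨a', ha'⟩ : ↥(largestPReduced p ↥L)) ⟨b', hb'⟩
  have h2 := congrArg (fun w : ↥(largestPReduced p ↥L) => ((w : ↥L) : G)) this
  simpa using h2

theorem largestPReducedOf_exp (p : ℕ) (L : Subgroup G) :
    ∀ a ∈ largestPReducedOf p L, a ^ p = 1 := by
  have hY : IsPReducedNormal p (largestPReduced p ↥L) := largestPReduced_isPReducedNormal p ↥L
  rintro a ⟨a', ha', rfl⟩
  have := hY.2.1.2 a' ha'
  have h2 := congrArg (fun w : ↥L => (w : G)) this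
  simpa using h2

theorem largestPReducedOf_pRedInternal (p : ℕ) (L : Subgroup G) :
    PRedInternal p (largestPReducedOf p L) L :=
  pRedInternal_of_isPReducedNormal L _ (largestPReduced_isPReducedNormal p ↥L)

/-- internal criterion for lying in `Y_L` -/
theorem le_largestPReducedOf {p : ℕ} {Y L : Subgroup G} (hYL : Y ≤ L)
    (hLY : L ≤ Subgroup.normalizer (Y : Set G))
    (hcomm : ∀ a ∈ Y, ∀ b ∈ Y, a * b = b * a) (hexp : ∀ a ∈ Y, a ^ p = 1)
    (h : PRedInternal p Y L) : Y ≤ largestPReducedOf p L := by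
  have h1 := isPReducedNormal_subgroupOf_of_pRedInternal hYL hLY hcomm hexp h
  have h2 : Y.subgroupOf L ≤ largestPReduced p ↥L := le_sSup h1
  have h3 := Subgroup.map_mono (f := L.subtype) h2
  rwa [Subgroup.map_subgroupOf_eq_of_le hYL] at h3

/-- `Y_L` is invariant under `N(L)` -/
theorem normalizer_le_normalizer_largestPReducedOf [Finite G] (p : ℕ) (L : Subgroup G) :
    Subgroup.normalizer (L : Set G) ≤
      Subgroup.normalizer ((largestPReducedOf p L : Subgroup G) : Set G) := by
  intro g hg
  apply mem_normalizer_of_map_conj_le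
  set Y : Subgroup G := largestPReducedOf p L with hYdef
  have hred : PRedInternal p Y L := largestPReducedOf_pRedInternal p L
  have hLg : L.map (MulAut.conj g).toMonoidHom = L := map_conj_eq_iff_mem_normalizer.mpr hg
  have hred' := pRedInternal_map_conj hred g
  rw [hLg] at hred'
  have hYL : Y ≤ L := largestPReducedOf_le p L
  have hYgL : Y.map (MulAut.conj g).toMonoidHom ≤ L := by
    rw [← hLg]; exact Subgroup.map_mono hYL
  have hLYg : L ≤ Subgroup.normalizer ((Y.map (MulAut.conj g).toMonoidHom : Subgroup G) : Set G) := by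
    rw [normalizer_map_conj]
    have := Subgroup.map_mono (f := (MulAut.conj g).toMonoidHom) (le_normalizer_largestPReducedOf p L)
    rwa [hLg] at this
  apply le_largestPReducedOf hYgL hLYg _ _ hred'
  · rintro a ⟨a', ha', rfl⟩ b ⟨b', hb', rfl⟩
    have := largestPReducedOf_comm p L a' ha' b' hb'
    simp only [MulEquiv.coe_toMonoidHom, MulAut.conj_apply]
    calc g * a' * g⁻¹ * (g * b' * g⁻¹) = g * (a' * b') * g⁻¹ := by group
      _ = g * (b' * a') * g⁻¹ := by rw [this]
      _ = g * b' * g⁻¹ * (g * a' * g⁻¹) := by group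
  · rintro a ⟨a', ha', rfl⟩
    have := largestPReducedOf_exp p L a' ha'
    simp only [MulEquiv.coe_toMonoidHom, MulAut.conj_apply]
    rw [conj_pow, this]; group

theorem isPReducedNormal_of_pRedInternal_top {p : ℕ} {Y : Subgroup G} (hYn : Y.Normal)
    (hcomm : ∀ a ∈ Y, ∀ b ∈ Y, a * b = b * a) (hexp : ∀ a ∈ Y, a ^ p = 1)
    (h : PRedInternal p Y ⊤) : IsPReducedNormal p Y := by
  refine ⟨hYn, ⟨?_, hexp⟩, ?_⟩
  · rw [isMulCommutative_iff]
    intro a b
    apply Subtype.ext
    exact hcomm a a.2 b b.2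
  · have hCn : (Subgroup.centralizer (Y : Set G)).Normal := Subgroup.normal_centralizer
    refine ⟨hCn, ?_⟩
    apply Cfsg.Agent.Lib.Helper46.pCore_quot_eq_bot_of
    intro D hD _ hDp
    exact h D le_top (by rw [Subgroup.normalizer_eq_top_iff.mpr hD]) hDp

theorem largestPReducedOf_top_le (p : ℕ) :
    largestPReducedOf p (⊤ : Subgroup G) ≤ largestPReduced p G := by
  apply le_sSup
  apply isPReducedNormal_of_pRedInternal_top
  · exact Subgroup.normalizer_eq_top_iff.mp
      (top_le_iff.mp (le_normalizer_largestPReducedOf p (⊤ : Subgroup G)))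
  · exact largestPReducedOf_comm p ⊤
  · exact largestPReducedOf_exp p ⊤
  · exact largestPReducedOf_pRedInternal p ⊤

/-- S2825(c), the hard inclusion: `C_L(Y_H) ≤ C_L(Y_L)` for `L` subnormal in `H` -/
theorem subnormal_inf_centralizer_largestPReduced_le [Finite G] {p : ℕ} [Fact p.Prime]
    {L : Subgroup G} (hL : L.IsSubnormal) :
    L ⊓ Subgroup.centralizer (largestPReduced p G : Set G) ≤
      Subgroup.centralizer ((largestPReducedOf p L : Subgroup G) : Set G) := by
  induction hL with
  | top => exact inf_le_right.trans (Subgroup.centralizer_le (largestPReducedOf_top_le p))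
  | step L K hle _ hN ih =>
    have hKL : K ≤ Subgroup.normalizer (L : Set G) :=
      (Subgroup.normal_subgroupOf_iff_le_normalizer hle).mp hN
    have hYL : largestPReducedOf p L ≤ L := largestPReducedOf_le p L
    have hYp : IsPGroup p ↥(largestPReducedOf p L) := by
      intro y
      refine ⟨1, ?_⟩
      apply Subtype.ext
      have := largestPReducedOf_exp p L (y : G) y.2
      simpa using this
    obtain ⟨W', hW'Y, hKW', hred', hLW'⟩ := exists_pRed_sub_of_normal hle hKL _
      (largestPReducedOf p L) le_rfl hYL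
      (hKL.trans (normalizer_le_normalizer_largestPReducedOf p L)) hYp
      (largestPReducedOf_pRedInternal p L)
    have hW'K : W' ≤ largestPReducedOf p K :=
      le_largestPReducedOf (hW'Y.trans (hYL.trans hle)) hKW'
        (fun a ha b hb => largestPReducedOf_comm p L a (hW'Y ha) b (hW'Y hb))
        (fun a ha => largestPReducedOf_exp p L a (hW'Y ha)) hred'
    intro x hx
    apply hLW'
    exact ⟨hx.1, Subgroup.centralizer_le hW'K (ih ⟨hle hx.1, hx.2⟩)⟩

end Cfsg.Agent.Lib.Helper47
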