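import Cfsg.Agent.Lib.Helper47.BG11c
import Cfsg.Agent.Lib.Helper48.MaschkeAmb
import Cfsg.Agent.Lib.Helper71.BG115P3
import Cfsg.Agent.Lib.Helper22.BGLemmaENA
import Cfsg.Agent.S1446

set_option autoImplicit false
set_option linter.style.haveILetI false
set_option linter.unusedSectionVars false

/-!
# Bender–Glauberman 11.7, step (a4) of helper60's proof

`A ≅ Z_p × Z_p` acts on `B ≅ Z_q × Z_q` normalizing the line `B₀`; `W` is a nilpotent `{p,q}'`-group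
normalized by `A B` on which every line of `B` other than `B₀` and two distinct lines of `A` act
fixed-point-freely.  Then `B = B₀ × B'` with `A` centralizing `B'`.
-/

namespace Cfsg.Agent.Lib.Helper47.BG117

open Subgroup Cfsg Cfsg.Agent.Lib.Helper33 Cfsg.Agent.Lib.Helper23 Cfsg.Agent.Lib.Helper47.BG11

universe u

variable {G : Type u} [Group G] [Finite G]

theorem a4 (hG : IsMinSimpleOddOrder G) {p q : ℕ} [hp : Fact p.Prime] [hq : Fact q.Prime]
    (hpq : p ≠ q) {M A B B₀ W A₁ A₂ : Subgroup G} (hM : M ≠ ⊤) (hAM : A ≤ M) (hBM : B ≤ M)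
    (_hA : IsElementaryAbelian p A) (hAcard : Nat.card A = p ^ 2)
    (hB : IsElementaryAbelian q B) (hBcard : Nat.card B = q ^ 2) (hB₀B : B₀ ≤ B)
    (hB₀ : Nat.card B₀ = q) (hAB : A ≤ normalizer (B : Set G))
    (hAB₀ : A ≤ normalizer (B₀ : Set G)) (hWn : Group.IsNilpotent ↥W) (hW1 : W ≠ ⊥)
    (hAW : A ≤ normalizer (W : Set G)) (hBW : B ≤ normalizer (W : Set G))
    (hpW : ¬ p ∣ Nat.card W) (hqW : ¬ q ∣ Nat.card W)
    (hfpfB : ∀ B₁ : Subgroup G, B₁ ≤ B → Nat.card B₁ = q → B₁ ≠ B₀ →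
      W ⊓ centralizer (B₁ : Set G) = ⊥)
    (hA₁ : A₁ ≤ A) (hA₂ : A₂ ≤ A) (hA₁c : Nat.card A₁ = p) (hA₂c : Nat.card A₂ = p)
    (hne : A₁ ≠ A₂) (hf₁ : W ⊓ centralizer (A₁ : Set G) = ⊥)
    (hf₂ : W ⊓ centralizer (A₂ : Set G) = ⊥) :
    ∃ B' : Subgroup G, B' ≤ B ∧ Nat.card B' = q ∧ B' ≠ B₀ ∧ B₀ ⊓ B' = ⊥ ∧ B₀ ⊔ B' = B ∧
      A ≤ centralizer (B' : Set G) := by
  have hpp : p.Prime := hp.out
  have hqp : q.Prime := hq.out
  have hBcomm : ∀ x ∈ B, ∀ y ∈ B, x * y = y * x := fun x hx y hy =>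
    congrArg Subtype.val (hB.1.is_comm.comm ⟨x, hx⟩ ⟨y, hy⟩)
  -- Maschke
  have hcomm : ⁅B, B⁆ ≤ (⊥ : Subgroup G) := by
    rw [le_bot_iff, Subgroup.commutator_eq_bot_iff_le_centralizer]
    intro x hx
    rw [mem_centralizer_iff]
    intro y hy
    exact hBcomm y hy x hx
  have hpow : ∀ x ∈ B, x ^ q ∈ (⊥ : Subgroup G) := fun x hx => by
    rw [mem_bot]; exact hB.2 x hx
  have hcop : (Nat.card A).Coprime q := by
    rw [hAcard]
    exact Nat.Coprime.pow_left 2 ((Nat.coprime_primes hpp hqp).mpr hpq)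
  obtain ⟨X, -, hXB, hAX, hinf, hsup⟩ :=
    Cfsg.Agent.Lib.Helper48.exists_invariant_complement_section q A B ⊥ B₀ bot_le hB₀B hAB hAB₀
      hcomm hpow hcop
  have hB₀ne : B₀ ≠ ⊥ := by
    intro h
    rw [h, Subgroup.card_bot] at hB₀
    exact hqp.one_lt.ne hB₀
  have hXcard : Nat.card X = q := by
    have hdvd : Nat.card X ∣ q ^ 2 := hBcard ▸ Subgroup.card_dvd_of_le hXB
    obtain ⟨i, hi, hci⟩ := (Nat.dvd_prime_pow hqp).mp hdvd
    interval_cases i
    · exfalso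
      have hX0 : X = ⊥ := Subgroup.card_eq_one.mp (by simpa using hci)
      rw [hX0, sup_bot_eq] at hsup
      rw [hsup, hBcard] at hB₀
      have h2 : q ^ 2 = q ^ 1 := by rw [pow_one]; exact hB₀
      exact absurd (Nat.pow_right_injective hqp.two_le h2) (by norm_num)
    · simpa using hci
    · exfalso
      have hXB' : X = B := eq_of_le_of_card_ge hXB (by rw [hci, hBcard])
      rw [hXB', inf_of_le_left hB₀B] at hinf
      exact hB₀ne hinf
  have hXne : X ≠ B₀ := by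
    intro h
    rw [h, inf_idem] at hinf
    exact hB₀ne hinf
  refine ⟨X, hXB, hXcard, hXne, hinf, hsup, ?_⟩
  by_contra hnc
  set X' := A ⊓ centralizer (X : Set G) with hX'
  have hX'lt : X' ≠ A := fun h => hnc (h ▸ inf_le_right)
  -- one of `A₁`, `A₂` meets `X'` trivially
  have hle : ∀ Y : Subgroup G, Nat.card Y = p → Y ⊓ X' ≠ ⊥ → Y ≤ X' := by
    intro Y hY hne'
    obtain ⟨y, hy1⟩ := (Subgroup.ne_bot_iff_exists_ne_one).mp hne'
    have hyY : (y : G) ∈ Y := y.2.1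
    have hyX' : (y : G) ∈ X' := y.2.2
    have hy1' : (y : G) ≠ 1 := fun h => hy1 (Subtype.ext h)
    rw [← zpowers_eq_of_card_prime hY hyY hy1']
    exact (zpowers_le).mpr hyX'
  obtain ⟨Y, hYA, hYc, hYX', hYf⟩ : ∃ Y : Subgroup G, Y ≤ A ∧ Nat.card Y = p ∧ Y ⊓ X' = ⊥ ∧
      W ⊓ centralizer (Y : Set G) = ⊥ := by
    by_cases h1 : A₁ ⊓ X' = ⊥
    · exact ⟨A₁, hA₁, hA₁c, h1, hf₁⟩
    · by_cases h2 : A₂ ⊓ X' = ⊥
      · exact ⟨A₂, hA₂, hA₂c, h2, hf₂⟩
      · exfalso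
        apply hX'lt
        exact Cfsg.Agent.Lib.Helper71.BG115.eq_of_two_lines hAcard inf_le_left (hle A₂ hA₂c h2)
          (hle A₁ hA₁c h1) hA₂c hA₁c hne
  have hYne : Y ≠ ⊥ := by
    intro h
    rw [h, Subgroup.card_bot] at hYc
    exact hpp.one_lt.ne hYc
  have hXne' : X ≠ ⊥ := by
    intro h
    rw [h, Subgroup.card_bot] at hXcard
    exact hqp.one_lt.ne hXcard
  have hcopXY : (Nat.card X).Coprime (Nat.card Y) := by
    rw [hXcard, hYc]
    exact (Nat.coprime_primes hqp hpp).mpr hpq.symm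
  have hXY : X ⊓ Y = ⊥ := disjoint_iff.mp (Subgroup.disjoint_of_coprime_natCard hcopXY)
  have hYX : Y ≤ normalizer (X : Set G) := hYA.trans hAX
  have hfrob : ∀ r ∈ Y, r ≠ 1 → X ⊓ centralizer ({r} : Set G) = ⊥ := by
    intro r hr hr1
    by_contra hne'
    obtain ⟨x, hx1⟩ := (Subgroup.ne_bot_iff_exists_ne_one).mp hne'
    have hxX : (x : G) ∈ X := x.2.1
    have hxr : (x : G) ∈ centralizer ({r} : Set G) := x.2.2
    have hx1' : (x : G) ≠ 1 := fun h => hx1 (Subtype.ext h)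
    have hcomm' : (x : G) * r = r * (x : G) := (mem_centralizer_iff.mp hxr r rfl).symm
    have hrX : r ∈ centralizer (X : Set G) :=
      Exc.le_centralizer_of_commute hXcard hxX hx1' hcomm'
    have hmem : r ∈ Y ⊓ X' := ⟨hr, hYA hr, hrX⟩
    rw [hYX', mem_bot] at hmem
    exact hr1 hmem
  have hXYM : X ⊔ Y ≤ M := sup_le (hXB.trans hBM) (hYA.trans hAM)
  have hXYtop : X ⊔ Y ≠ ⊤ := fun h => hM (top_le_iff.mp (h ▸ hXYM))
  have hsolv : Group.IsSolvable ↥(X ⊔ Y) := isSolvable_of_ne_top hG hXYtop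
  have hodd : Odd (Nat.card ↥(X ⊔ Y)) := odd_card_subgroup hG (X ⊔ Y)
  have hcard : Nat.card ↥(X ⊔ Y) = p * q := by
    rw [sup_comm, Cfsg.Agent.Lib.Helper22.BGLemmaENA.card_sup_eq_mul Y X hYX
      (by rw [inf_comm]; exact hXY), hYc, hXcard]
  have hcopW : (Nat.card ↥(X ⊔ Y)).Coprime (Nat.card W) := by
    rw [hcard]
    exact Nat.Coprime.mul_left ((Nat.Prime.coprime_iff_not_dvd hpp).mpr hpW)
      ((Nat.Prime.coprime_iff_not_dvd hqp).mpr hqW)
  have hCK : W ⊓ centralizer (X : Set G) = ⊥ := hfpfB X hXB hXcard hXne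
  have hpr : ∀ x ∈ Y, x ≠ 1 →
      W ⊓ centralizer ({x} : Set G) = W ⊓ centralizer (Y : Set G) := by
    intro x hx hx1
    apply le_antisymm
    · intro w hw
      refine ⟨hw.1, ?_⟩
      exact Exc.le_centralizer_of_commute hYc hx hx1 (mem_centralizer_iff.mp hw.2 x rfl)
    · intro w hw
      refine ⟨hw.1, ?_⟩
      apply mem_centralizer_iff.mpr
      intro h hh
      rw [Set.mem_singleton_iff] at hh
      subst hh
      exact mem_centralizer_iff.mp hw.2 h hx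
  obtain ⟨-, hcardW, -⟩ := Cfsg.Agent.S1446.result X Y W hXne' hYne hXY hYX hfrob hsolv hodd hW1
    hWn (hXB.trans hBW) (hYA.trans hAW) hcopW hCK hpr
  rw [hYf, Subgroup.card_bot, one_pow] at hcardW
  exact hW1 (Subgroup.card_eq_one.mp hcardW)

end Cfsg.Agent.Lib.Helper47.BG117
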