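import Cfsg.Agent.S1430
import Cfsg.Agent.S1431
import Cfsg.Agent.S1417
import Cfsg.Agent.S1359
import Cfsg.Agent.Lib.Helper32.BG142A
import Cfsg.Agent.Lib.Helper23.BadTau2A0
import Cfsg.Agent.Lib.Helper63.BG13b
import Cfsg.Agent.Lib.Helper68.BG1215b
import Cfsg.Agent.Lib.Helper47.BG1312
import Cfsg.Agent.Lib.Helper76.BGSigU2
import Cfsg.Agent.Lib.Helper47.BG147P

set_option autoImplicit false
set_option linter.style.haveILetI false
set_option linter.unusedSectionVars false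

/-!
# B&G Corollary 15.3(a): the centralizer in `M` of a Hall subgroup of `M_σ`

For a nontrivial Hall subgroup `H` of `M_σ`, `C_M(H) = C_{M_σ}(H) X` with `X` a cyclic
`τ₂(M)`-group.
-/

namespace Cfsg.Agent.Lib.Helper47.BG153

open Subgroup Cfsg Cfsg.Agent.Lib.Helper33

universe u

/-- a finite commutative group all of whose Sylow subgroups are cyclic is cyclic -/
theorem isCyclic_of_comm_of_sylow {X : Type*} [Group X] [Finite X]
    (hc : ∀ a b : X, a * b = b * a)
    (h : ∀ (p : ℕ) [Fact p.Prime] (P : Sylow p X), IsCyclic P) : IsCyclic X := by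
  letI : CommGroup X := { (inferInstance : Group X) with mul_comm := hc }
  apply IsCyclic.of_exponent_eq_card
  apply Nat.dvd_antisymm Group.exponent_dvd_nat_card
  have hexp0 : Monoid.exponent X ≠ 0 := Monoid.exponent_ne_zero_of_finite
  rw [← Nat.factorization_prime_le_iff_dvd Nat.card_pos.ne' hexp0]
  intro p hp
  haveI : Fact p.Prime := ⟨hp⟩
  obtain ⟨P⟩ : Nonempty (Sylow p X) := inferInstance
  rw [← hp.pow_dvd_iff_le_factorization hexp0, ← P.card_eq_multiplicity]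
  haveI := h p P
  obtain ⟨g, hg⟩ := IsCyclic.exists_ofOrder_eq_natCard (α := P)
  rw [← hg, ← Subgroup.orderOf_coe]
  exact Monoid.order_dvd_exponent _

variable {G : Type u} [Group G] [Finite G]

/-- a Sylow `p`-subgroup of a subgroup `C`, as a subgroup of `G` -/
theorem exists_sylow_in (p : ℕ) [Fact p.Prime] (C : Subgroup G) :
    ∃ P : Subgroup G, P ≤ C ∧ IsPGroup p P ∧ ¬ p ∣ P.relIndex C := by
  obtain ⟨S⟩ : Nonempty (Sylow p ↥C) := inferInstance
  refine ⟨(S : Subgroup ↥C).map C.subtype, Subgroup.map_subtype_le _, S.isPGroup'.map _, ?_⟩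
  have h1 : ((S : Subgroup ↥C).map C.subtype).relIndex C = (S : Subgroup ↥C).index := by
    rw [Subgroup.relIndex, Subgroup.subgroupOf,
      Subgroup.comap_map_eq_self_of_injective C.subtype_injective]
  rw [h1]
  exact S.not_dvd_index

/-- a subgroup of prime order `p` contains a non-identity element -/
theorem exists_ne_one_of_card_prime {X₀ : Subgroup G} {p : ℕ} (hp : p.Prime)
    (hX₀ : Nat.card X₀ = p) : ∃ k ∈ X₀, k ≠ 1 := by
  have h1 : X₀ ≠ ⊥ := by
    intro h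
    rw [h, Subgroup.card_bot] at hX₀
    exact hp.one_lt.ne hX₀
  obtain ⟨k, hk⟩ := (Subgroup.ne_bot_iff_exists_ne_one.mp h1)
  exact ⟨k.1, k.2, fun h => hk (Subtype.ext h)⟩

/-- `H ≤ C_G(x)` for `x ∈ C_G(H)` -/
theorem le_centralizer_singleton_of_mem {H : Subgroup G} {k : G}
    (hk : k ∈ centralizer (H : Set G)) : H ≤ centralizer ({k} : Set G) := by
  intro h hh
  rw [mem_centralizer_iff]
  intro y hy
  rw [Set.mem_singleton_iff] at hy
  subst hy
  exact ((mem_centralizer_iff.mp hk) h hh).symm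

/-- `H ≤ C_G(X)` for `X ≤ C_G(H)` -/
theorem le_centralizer_of_le_centralizer {H X : Subgroup G}
    (hX : X ≤ centralizer (H : Set G)) : H ≤ centralizer (X : Set G) := by
  intro h hh
  rw [mem_centralizer_iff]
  intro y hy
  exact ((mem_centralizer_iff.mp (hX hy)) h hh).symm

/-- **no `κ(M)`-element centralizes a nontrivial Hall subgroup of `M_σ`** -/
theorem not_kappa_of_centralizes_hall (hG : IsMinSimpleOddOrder G) {M H : Subgroup G}
    (hM : IsCoatom M) (hH : H ≤ sigmaCore M) (hH1 : H ≠ ⊥)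
    (hHall : (Nat.card H).Coprime (H.relIndex (sigmaCore M))) {p : ℕ} (hp : p ∈ kappa M)
    {X₀ : Subgroup G} (hX₀M : X₀ ≤ M) (hX₀C : X₀ ≤ centralizer (H : Set G))
    (hX₀ : Nat.card X₀ = p) : False := by
  have hpp : p.Prime := hp.1
  obtain ⟨K, hK, hX₀K⟩ := Cfsg.Agent.Lib.Helper47.BG1312.exists_isPiHallOf_ge hG (kappa M)
    hM.1 hX₀M (by
      intro r hr hrd
      rw [hX₀] at hrd
      rw [(Nat.prime_dvd_prime_iff_eq hr hpp).mp hrd]
      exact hp)
  obtain ⟨k, hkX, hk1⟩ := exists_ne_one_of_card_prime hpp hX₀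
  have hK1 : K ≠ ⊥ := by
    intro h
    have : k ∈ (⊥ : Subgroup G) := h ▸ hX₀K hkX
    exact hk1 (Subgroup.mem_bot.mp this)
  obtain ⟨h30a, -, -⟩ := Cfsg.Agent.S1430.result hG M hM K hK hK1
  obtain ⟨-, -, h31c, -⟩ := Cfsg.Agent.S1431.result hG M hM K hK hK1
  have hHKs : H ≤ sigmaCore M ⊓ centralizer (K : Set G) := by
    rw [← h30a k (hX₀K hkX) hk1]
    exact le_inf hH (le_centralizer_singleton_of_mem (hX₀C hkX))
  -- a prime of `H`
  obtain ⟨q, y, hq, hqH, -, -, -⟩ := Cfsg.Agent.Lib.Helper47.BG147P.exists_prime_orderOf hH1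
  haveI : Fact q.Prime := ⟨hq⟩
  obtain ⟨Q, hQH, hQq, hQi⟩ := exists_sylow_in q H
  have hQW : Q ≤ sigmaCore M := hQH.trans hH
  have hQiW : ¬ q ∣ Q.relIndex (sigmaCore M) := by
    rw [← Subgroup.relIndex_mul_relIndex Q H (sigmaCore M) hQH hH]
    intro hd
    rcases (Nat.Prime.dvd_mul hq).mp hd with h | h
    · exact hQi h
    · have h1 : q ∣ Nat.gcd (Nat.card H) (H.relIndex (sigmaCore M)) := Nat.dvd_gcd hqH h
      rw [hHall] at h1
      exact hq.one_lt.ne' (Nat.dvd_one.mp h1)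
  have hQp' : IsPGroup q (Q.subgroupOf (sigmaCore M)) := hQq.comap_subtype
  let S : Sylow q ↥(sigmaCore M) := hQp'.toSylow hQiW
  have hS : (S : Subgroup ↥(sigmaCore M)).map (sigmaCore M).subtype = Q := by
    have : (S : Subgroup ↥(sigmaCore M)) = Q.subgroupOf (sigmaCore M) := IsPGroup.toSylow_coe _ _
    rw [this, Subgroup.subgroupOf_map_subtype]
    exact inf_eq_left.mpr hQW
  have hqKs : q ∣ Nat.card ↥(sigmaCore M ⊓ centralizer (K : Set G)) :=
    hqH.trans (Subgroup.card_dvd_of_le hHKs)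
  have := (h31c q hq hqKs S).2.2
  rw [hS] at this
  exact this (hQH.trans hHKs)

/-- a prime dividing the order of a `σ(M)'`-subgroup of `C_M(H)` lies in `τ₂(M)` -/
theorem tau2_of_centralizes_hall (hG : IsMinSimpleOddOrder G) {M H : Subgroup G}
    (hM : IsCoatom M) (hH : H ≤ sigmaCore M) (hH1 : H ≠ ⊥)
    (hHall : (Nat.card H).Coprime (H.relIndex (sigmaCore M))) {X : Subgroup G} (hXM : X ≤ M)
    (hXC : X ≤ centralizer (H : Set G))
    (hcop : (Nat.card X).Coprime (Nat.card (sigmaCore M))) {p : ℕ} (hp : p.Prime)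
    (hpX : p ∣ Nat.card X) : p ∈ tau2 M := by
  haveI : Fact p.Prime := ⟨hp⟩
  have hσ := Cfsg.Agent.Lib.Helper47.BG11.sigmaHallIn_of_coatom hG hM
  obtain ⟨E, hE, hXE⟩ := Cfsg.Agent.Lib.Helper63.BG13.exists_compl_ge hG hM.1 hσ hXM hcop
  have hpE : p ∣ Nat.card E := hpX.trans (Subgroup.card_dvd_of_le hXE)
  rcases Cfsg.Agent.Lib.Helper23.Bad.mem_tau_of_dvd_card_compl hG hM hE hp hpE with h | h
  · exact h
  · exfalso
    obtain ⟨x, hx⟩ := exists_prime_orderOf_dvd_card' p hpX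
    set X₀ : Subgroup G := zpowers (x : G) with hX₀
    have hX₀X : X₀ ≤ X := by
      rw [hX₀, Subgroup.zpowers_le]
      exact x.2
    have hX₀c : Nat.card X₀ = p := by
      rw [hX₀, Nat.card_zpowers, Subgroup.orderOf_coe, hx]
    have hne : sigmaCore M ⊓ centralizer (X₀ : Set G) ≠ ⊥ := by
      intro h0
      apply hH1
      rw [eq_bot_iff, ← h0]
      exact le_inf hH (le_centralizer_of_le_centralizer (hX₀X.trans hXC))
    have hκ : p ∈ kappa M :=
      Cfsg.Agent.Lib.Helper32.BG142.mem_kappa_of_cent hG hM h (hX₀X.trans hXM) hX₀c hne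
    exact not_kappa_of_centralizes_hall hG hM hH hH1 hHall hκ (hX₀X.trans hXM)
      (hX₀X.trans hXC) hX₀c

/-- a `σ(M)'`-subgroup of `C_M(H)` has `p`-rank at most one for every prime `p` -/
theorem pRankLE_one_of_centralizes_hall (hG : IsMinSimpleOddOrder G) {M H : Subgroup G}
    (hM : IsCoatom M) (hH : H ≤ sigmaCore M) (hH1 : H ≠ ⊥)
    (hHall : (Nat.card H).Coprime (H.relIndex (sigmaCore M))) {X : Subgroup G} (hXM : X ≤ M)
    (hXC : X ≤ centralizer (H : Set G))
    (hcop : (Nat.card X).Coprime (Nat.card (sigmaCore M))) {p : ℕ} (hp : p.Prime) :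
    PRankLE p 1 ↥X := by
  haveI : Fact p.Prime := ⟨hp⟩
  by_contra hcon
  obtain ⟨A, hAX, hAe, hAc⟩ := Cfsg.Agent.Lib.Helper76.BGSigU.exists_elemAb_sq hcon
  have hpX : p ∣ Nat.card X := by
    have h1 : p ∣ Nat.card A := by rw [hAc]; exact dvd_pow_self p (by norm_num)
    exact h1.trans (Subgroup.card_dvd_of_le hAX)
  have hτ := tau2_of_centralizes_hall hG hM hH hH1 hHall hXM hXC hcop hp hpX
  have h17 := (Cfsg.Agent.S1417.result hG M hM p hτ A ⟨hAX.trans hXM, hAe, hAc⟩).2.2.2.1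
  apply hH1
  rw [eq_bot_iff, ← h17]
  exact le_inf hH (le_centralizer_of_le_centralizer (hAX.trans hXC))

/-- a `σ(M)'`-subgroup of `C_M(H)` is abelian -/
theorem comm_of_centralizes_hall (hG : IsMinSimpleOddOrder G) {M H : Subgroup G}
    (hM : IsCoatom M) (hH : H ≤ sigmaCore M) (hH1 : H ≠ ⊥)
    (hHall : (Nat.card H).Coprime (H.relIndex (sigmaCore M))) {X : Subgroup G} (hXM : X ≤ M)
    (hXC : X ≤ centralizer (H : Set G))
    (hcop : (Nat.card X).Coprime (Nat.card (sigmaCore M))) :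
    ∀ a ∈ X, ∀ b ∈ X, a * b = b * a := by
  haveI : Group.IsSolvable ↥M := hG.2.2.2 M hM.1
  have hσ := Cfsg.Agent.Lib.Helper47.BG11.sigmaHallIn_of_coatom hG hM
  obtain ⟨K, hK⟩ := Cfsg.Agent.Lib.Helper47.BG139.exists_isPiHallOf hG (kappa M) hM.1
  have hXπ : ∀ p : ℕ, p.Prime → p ∣ Nat.card X →
      p ∈ {q : ℕ | q.Prime ∧ q ∉ kappa M ∧ q ∉ sigma M} := by
    intro p hp hpX
    have hτ := tau2_of_centralizes_hall hG hM hH hH1 hHall hXM hXC hcop hp hpX
    refine ⟨hp, ?_, hτ.2.1⟩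
    intro hκ
    exact hτ.2.2.2
      (Cfsg.Agent.Lib.Helper32.BG142.pRankLE_one_of_sylow_cyclic hp (fun P => (hκ.2.2.2 P).1))
  by_cases hK1 : K = ⊥
  · subst hK1
    obtain ⟨E, hE, hXE⟩ := Cfsg.Agent.Lib.Helper63.BG13.exists_compl_ge hG hM.1 hσ hXM hcop
    have hdec : IsSigmaDecomposition M ⊥ E :=
      ⟨isCyclic_of_subsingleton, hK, by rw [bot_sup_eq]; exact hE, bot_le⟩
    have hab := Cfsg.Agent.S1359.result hG M hM ⊥ E hdec
    obtain ⟨y, hyH, hy1⟩ : ∃ y ∈ H, y ≠ 1 := by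
      obtain ⟨y, hy⟩ := (Subgroup.ne_bot_iff_exists_ne_one.mp hH1)
      exact ⟨y.1, y.2, fun h => hy (Subtype.ext h)⟩
    have hXle : X ≤ closure ((E : Set G) ∩ sigmaHat M) := by
      intro a ha
      apply Subgroup.subset_closure
      refine ⟨hXE ha, hXM ha, y, hH hyH, hy1, ?_⟩
      exact ((mem_centralizer_iff.mp (hXC ha)) y hyH).symm
    intro a ha b hb
    have := (isMulCommutative_iff.1 hab) ⟨a, hXle ha⟩ ⟨b, hXle hb⟩
    exact congrArg Subtype.val this
  · obtain ⟨-, ⟨U, hUab, hUhall, -, -⟩, -⟩ := Cfsg.Agent.S1430.result hG M hM K hK hK1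
    obtain ⟨g, -, hgX⟩ := Cfsg.Agent.Lib.Helper68.BG1215.hall_pi_conj_le (K := M)
      {q : ℕ | q.Prime ∧ q ∉ kappa M ∧ q ∉ sigma M} hUhall.1 hUhall.2.1 hUhall.2.2 hXM hXπ
    intro a ha b hb
    have h1 : g * a * g⁻¹ ∈ U := hgX (conj_mem_cj ha)
    have h2 : g * b * g⁻¹ ∈ U := hgX (conj_mem_cj hb)
    have h3 := (isMulCommutative_iff.1 hUab) ⟨_, h1⟩ ⟨_, h2⟩
    have h4 : (g * a * g⁻¹) * (g * b * g⁻¹) = (g * b * g⁻¹) * (g * a * g⁻¹) :=
      congrArg Subtype.val h3
    have h5 : g * (a * b) * g⁻¹ = g * (b * a) * g⁻¹ := by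
      have e1 : g * (a * b) * g⁻¹ = (g * a * g⁻¹) * (g * b * g⁻¹) := by group
      have e2 : g * (b * a) * g⁻¹ = (g * b * g⁻¹) * (g * a * g⁻¹) := by group
      rw [e1, e2, h4]
    exact mul_left_cancel (mul_right_cancel h5)

/-- **B&G Corollary 15.3(a)** (first clause of S1438). -/
theorem cent_hall (hG : IsMinSimpleOddOrder G) {M H : Subgroup G} (hM : IsCoatom M)
    (hH : H ≤ sigmaCore M) (hH1 : H ≠ ⊥)
    (hHall : (Nat.card H).Coprime (H.relIndex (sigmaCore M))) :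
    ∃ X : Subgroup G, IsCyclic X ∧ (∀ p : ℕ, p.Prime → p ∣ Nat.card X → p ∈ tau2 M) ∧
      M ⊓ centralizer (H : Set G) = (sigmaCore M ⊓ centralizer (H : Set G)) ⊔ X := by
  have hσ := Cfsg.Agent.Lib.Helper47.BG11.sigmaHallIn_of_coatom hG hM
  have hWM : sigmaCore M ≤ M := hσ.1
  set C := M ⊓ centralizer (H : Set G) with hC
  set Cσ := sigmaCore M ⊓ centralizer (H : Set G) with hCσ
  have hCσC : Cσ ≤ C := inf_le_inf_right _ hWM
  have hCn : C ≤ normalizer (Cσ : Set G) := by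
    apply Cfsg.Agent.Lib.Helper47.BG1312.le_normalizer_of_conj_mem
    intro c hc d hd
    refine ⟨Cfsg.Agent.Lib.Helper24.BG.sigmaCore_conj_mem M hc.1 hd.1, ?_⟩
    exact Subgroup.mul_mem _ (Subgroup.mul_mem _ hc.2 hd.2) (Subgroup.inv_mem _ hc.2)
  -- no prime of `σ(M)` divides `|C : Cσ|`
  have hnd : ∀ p : ℕ, p.Prime → p ∈ sigma M → ¬ p ∣ Cσ.relIndex C := by
    intro p hp hpσ hd
    haveI : Fact p.Prime := ⟨hp⟩
    obtain ⟨P, hPC, hPp, hPi⟩ := exists_sylow_in p C
    have hPW : P ≤ sigmaCore M :=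
      Cfsg.Agent.Lib.Helper76.BGSigU.le_sigmaCore_of_isPGroup hσ hpσ hPp (hPC.trans inf_le_left)
    have hPCσ : P ≤ Cσ := le_inf hPW (hPC.trans inf_le_right)
    exact hPi (hd.trans (Subgroup.relIndex_dvd_of_le_left C hPCσ))
  have hcop1 : (Nat.card Cσ).Coprime (Cσ.relIndex C) := by
    apply Nat.coprime_of_dvd
    intro k hk hk1 hk2
    have h1 : k ∣ Nat.card (sigmaCore M) := hk1.trans (Subgroup.card_dvd_of_le inf_le_left)
    exact hnd k hk (hσ.2.1 k hk h1) hk2
  obtain ⟨X, hXC, hXc, hXCσ, hXsup⟩ :=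
    Cfsg.Agent.Lib.Helper24.rel_sz_exists Cσ C hCσC hCn hcop1
  have hXM : X ≤ M := hXC.trans inf_le_left
  have hXcent : X ≤ centralizer (H : Set G) := hXC.trans inf_le_right
  have hcop : (Nat.card X).Coprime (Nat.card (sigmaCore M)) := by
    apply Nat.coprime_of_dvd
    intro k hk hk1 hk2
    rw [hXc] at hk1
    exact hnd k hk (hσ.2.1 k hk hk2) hk1
  have hcomm := comm_of_centralizes_hall hG hM hH hH1 hHall hXM hXcent hcop
  refine ⟨X, ?_, ?_, ?_⟩
  · apply isCyclic_of_comm_of_sylow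
    · rintro ⟨a, ha⟩ ⟨b, hb⟩
      exact Subtype.ext (hcomm a ha b hb)
    · intro p hpF P
      have hp : p.Prime := hpF.out
      by_cases hpX : p ∣ Nat.card X
      · have hp2 : p ≠ 2 := by
          rintro rfl
          have hodd : Odd (Nat.card G) := hG.1
          exact (Nat.not_even_iff_odd.mpr hodd)
            (even_iff_two_dvd.mpr (hpX.trans (Subgroup.card_subgroup_dvd_card X)))
        have hr : PRankLE p 1 ↥X :=
          pRankLE_one_of_centralizes_hall hG hM hH hH1 hHall hXM hXcent hcop hp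
        refine Cfsg.Agent.Lib.Helper49.isCyclic_of_isPGroup_rankLEOne hp2 P.isPGroup' ?_
        intro A hA hAe
        have h1 : Nat.card (A.map (P : Subgroup ↥X).subtype) = Nat.card A :=
          Subgroup.card_map_of_injective (Subgroup.subtype_injective _)
        rw [← h1]
        have h2 := hr (A.map (P : Subgroup ↥X).subtype) ?_ ?_
        · rwa [pow_one] at h2
        · refine isMulCommutative_iff.2 ?_
          rintro ⟨_, ⟨a, ha, rfl⟩⟩ ⟨_, ⟨b, hb, rfl⟩⟩
          apply Subtype.ext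
          have h3 := (isMulCommutative_iff.1 hA) ⟨a, ha⟩ ⟨b, hb⟩
          have h4 : a * b = b * a := congrArg Subtype.val h3
          change (P : Subgroup ↥X).subtype a * (P : Subgroup ↥X).subtype b =
            (P : Subgroup ↥X).subtype b * (P : Subgroup ↥X).subtype a
          rw [← map_mul, ← map_mul, h4]
        · rintro _ ⟨a, ha, rfl⟩
          rw [← map_pow, hAe a ha, map_one]
      · have h1 : Nat.card P = 1 := by
          rw [P.card_eq_multiplicity, Nat.factorization_eq_zero_of_not_dvd hpX, pow_zero]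
        haveI : Subsingleton ↥(P : Subgroup ↥X) := (Nat.card_eq_one_iff_unique.mp h1).1
        exact isCyclic_of_subsingleton
  · intro p hp hpX
    exact tau2_of_centralizes_hall hG hM hH hH1 hHall hXM hXcent hcop hp hpX
  · rw [sup_comm, hXsup]

end Cfsg.Agent.Lib.Helper47.BG153
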