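import Mathlib
import Cfsg.Prelude.Def_Solvable

/-!
# G42 hive (S2553): definitions

`RadFree G`: `G` has no nontrivial solvable normal subgroup.
`Concl G`: the conclusion of S2553 for an abstract group `G`.
-/

set_option autoImplicit false

namespace Cfsg.Agent.Lib.Helper47.G42

/-- `G` has no nontrivial solvable normal subgroup. -/
def RadFree (G : Type*) [Group G] : Prop :=
  ∀ N : Subgroup G, N.Normal → Group.IsSolvable N → N = ⊥

/-- The conclusion of S2553 for an abstract group. -/
def Concl (G : Type*) [Group G] : Prop :=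
  (∃ n : ℕ, 5 ≤ n ∧ n ≤ 8 ∧ Nonempty (G ≃* alternatingGroup (Fin n))) ∨
    Nonempty (G ≃* Equiv.Perm (Fin 5)) ∨ Nonempty (G ≃* Equiv.Perm (Fin 6)) ∨
    Nonempty (G ≃* GL (Fin 3) (ZMod 2))

theorem RadFree.of_mulEquiv {G K : Type*} [Group G] [Group K] (e : G ≃* K) (h : RadFree G) :
    RadFree K := by
  intro N hN hsol
  have hN' : (N.comap e.toMonoidHom).Normal := hN.comap _
  have hsol' : Group.IsSolvable (N.comap e.toMonoidHom) := by
    let f : (N.comap e.toMonoidHom) →* N :=
      { toFun := fun x => ⟨e x.1, x.2⟩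
        map_one' := by ext; simp
        map_mul' := by
          intro x y
          apply Subtype.ext
          show e ((x * y : Subgroup.comap e.toMonoidHom N) : G) = e x.1 * e y.1
          rw [Subgroup.coe_mul, map_mul] }
    have hf : Function.Injective f := by
      intro x y hxy
      have : e x.1 = e y.1 := congrArg Subtype.val hxy
      exact Subtype.ext (e.injective this)
    exact Group.isSolvable_of_isSolvable_injective hf
  have hbot := h _ hN' hsol'
  rw [Subgroup.eq_bot_iff_forall] at hbot ⊢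
  intro x hx
  have h1 : e.symm x = 1 := hbot (e.symm x) (by simpa using hx)
  simpa using congrArg e h1

theorem Concl.of_mulEquiv {G K : Type*} [Group G] [Group K] (e : G ≃* K) (h : Concl K) :
    Concl G := by
  rcases h with ⟨n, h5, h8, ⟨f⟩⟩ | ⟨⟨f⟩⟩ | ⟨⟨f⟩⟩ | ⟨⟨f⟩⟩
  · exact Or.inl ⟨n, h5, h8, ⟨e.trans f⟩⟩
  · exact Or.inr (Or.inl ⟨e.trans f⟩)
  · exact Or.inr (Or.inr (Or.inl ⟨e.trans f⟩))
  · exact Or.inr (Or.inr (Or.inr ⟨e.trans f⟩))

end Cfsg.Agent.Lib.Helper47.G42
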