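import Mathlib

set_option autoImplicit false
set_option linter.style.haveILetI false

/-! # S5165 leaf [Apc]: the alternating group is generated by its `p`-cycles (`p` odd) -/

namespace Cfsg.Agent.Lib.Helper87.AltF

open Equiv Subgroup

/-- [Apc] for `p` odd, `p ≤ |J|`, the alternating group of `J` is generated by the `p`-cycles. -/
theorem alternatingGroup_le_closure_pcycles (J : Type) [Fintype J] [DecidableEq J] (p : ℕ)
    [Fact p.Prime] (hp : p ≠ 2) (hJ : p ≤ Fintype.card J) :
    alternatingGroup J ≤ Subgroup.closure {ρ : Perm J | ρ.IsCycle ∧ ρ.support.card = p} := by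
  have hpp : p.Prime := Fact.out
  set S : Set (Perm J) := {ρ : Perm J | ρ.IsCycle ∧ ρ.support.card = p} with hS
  by_cases h3 : p = 3
  · subst h3
    rw [← Equiv.Perm.closure_three_cycles_eq_alternating]
    apply Subgroup.closure_mono
    intro σ hσ
    exact ⟨hσ.isCycle, hσ.card_support⟩
  · have hp5 : 5 ≤ p := by
      have h2 := hpp.two_le
      rcases Nat.lt_or_ge p 5 with h | h
      · exfalso
        interval_cases p
        · exact hp rfl
        · exact h3 rfl
        · exact absurd hpp (by decide)
      · exact h
    -- the closure is normal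
    have hconj : Group.conjugatesOfSet S ⊆ S := by
      intro x hx
      rw [Group.mem_conjugatesOfSet_iff] at hx
      obtain ⟨a, ha, hax⟩ := hx
      obtain ⟨c, rfl⟩ := isConj_iff.mp hax
      exact ⟨ha.1.conj, by rw [Equiv.Perm.card_support_conj]; exact ha.2⟩
    have hN : (closure S).Normal := by
      have h1 : closure S = normalClosure S :=
        le_antisymm closure_le_normalClosure (Subgroup.closure_mono hconj)
      rw [h1]
      exact normalClosure_normal
    -- it consists of even permutations
    have hodd : Odd p := hpp.odd_of_ne_two hp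
    have hNA : closure S ≤ alternatingGroup J := by
      rw [closure_le]
      rintro σ ⟨hc, hs⟩
      rw [SetLike.mem_coe, Equiv.Perm.mem_alternatingGroup, hc.sign, hs, hodd.neg_one_pow]
      simp
    -- it is not trivial
    obtain ⟨g, hg⟩ := (Equiv.Perm.exists_with_cycleType_iff (α := J) (m := {p})).mpr
      ⟨by simpa using hJ, by
        intro a ha
        rw [Multiset.mem_singleton] at ha
        rw [ha]
        exact hpp.two_le⟩
    have hgc : g.IsCycle := Equiv.Perm.card_cycleType_eq_one.mp (by rw [hg]; simp)
    have hgS : g ∈ S := ⟨hgc, by rw [← Equiv.Perm.sum_cycleType, hg]; simp⟩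
    haveI : IsSimpleGroup ↥(alternatingGroup J) :=
      alternatingGroup.isSimpleGroup (by rw [Nat.card_eq_fintype_card]; omega)
    haveI := hN
    have hn' : ((closure S).subgroupOf (alternatingGroup J)).Normal := inferInstance
    rcases hn'.eq_bot_or_eq_top with h | h
    · exfalso
      have hgN : g ∈ closure S := subset_closure hgS
      have h1 : (⟨g, hNA hgN⟩ : ↥(alternatingGroup J)) ∈
          (closure S).subgroupOf (alternatingGroup J) := Subgroup.mem_subgroupOf.mpr hgN
      rw [h, Subgroup.mem_bot] at h1
      exact hgc.ne_one (congrArg Subtype.val h1)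
    · intro a ha
      have h1 : (⟨a, ha⟩ : ↥(alternatingGroup J)) ∈
          (closure S).subgroupOf (alternatingGroup J) := by rw [h]; exact Subgroup.mem_top _
      exact Subgroup.mem_subgroupOf.mp h1

end Cfsg.Agent.Lib.Helper87.AltF
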