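import Mathlib

/-! OPBN-EXC-W (S2548 hive of helper40, leaf by helper47).

A group of order 72 containing two commuting copies of `S₃` with trivial intersection and
product of index 2 (such as `S₃ ≀ C₂ = O⁺₄(2)`) has a commutator subgroup of order dividing 18. -/

namespace Cfsg.Agent.Lib.Helper40.OpBN

/-- a group of order 8 has a commutator subgroup of order dividing 2 -/
theorem excw_card_comm_eight {Q : Type*} [Group Q] [Finite Q] (hQ : Nat.card Q = 8) :
    Nat.card ↥(commutator Q) ∣ 2 := by
  have hfact : Fact (Nat.Prime 2) := ⟨Nat.prime_two⟩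
  have hp : IsPGroup 2 Q := IsPGroup.of_card (n := 3) (by rw [hQ]; norm_num)
  by_cases hZ : Subgroup.center Q = ⊤
  · rw [(commutator_eq_bot_iff_center_eq_top Q).mpr hZ]
    simp
  · have hnt : Nontrivial Q := by
      rw [← Finite.one_lt_card_iff_nontrivial]
      omega
    have hZnt : Nontrivial (Subgroup.center Q) := hp.center_nontrivial
    have hdvd : Nat.card (Subgroup.center Q) ∣ 8 := hQ ▸ Subgroup.card_subgroup_dvd_card _
    have hne1 : Nat.card (Subgroup.center Q) ≠ 1 := by
      intro h
      have := Finite.one_lt_card_iff_nontrivial.mpr hZnt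
      omega
    have hne8 : Nat.card (Subgroup.center Q) ≠ 8 := by
      intro h
      exact hZ (Subgroup.eq_top_of_card_eq _ (h.trans hQ.symm))
    have hmul : Nat.card (Q ⧸ Subgroup.center Q) * Nat.card (Subgroup.center Q) = 8 := by
      rw [← hQ]
      exact (Subgroup.card_eq_card_quotient_mul_card_subgroup _).symm
    have h24 : Nat.card (Subgroup.center Q) = 2 ∨ Nat.card (Subgroup.center Q) = 4 := by
      have hmem : Nat.card (Subgroup.center Q) ∈ Nat.divisors 8 := by
        simp [hdvd]
      have h8 : Nat.divisors 8 = {1, 2, 4, 8} := by decide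
      rw [h8] at hmem
      simp only [Finset.mem_insert, Finset.mem_singleton] at hmem
      omega
    rcases h24 with h2 | h4
    · have hq4 : Nat.card (Q ⧸ Subgroup.center Q) = 2 ^ 2 := by
        rw [h2] at hmul
        omega
      have hcomm : IsMulCommutative (Q ⧸ Subgroup.center Q) :=
        IsPGroup.isMulCommutative_of_card_eq_prime_sq hq4
      let _ : CommGroup (Q ⧸ Subgroup.center Q) :=
        { (inferInstance : Group (Q ⧸ Subgroup.center Q)) with
          mul_comm := fun a b => hcomm.is_comm.comm a b }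
      have hle : commutator Q ≤ Subgroup.center Q := by
        have h := Abelianization.commutator_subset_ker (QuotientGroup.mk' (Subgroup.center Q))
        rwa [QuotientGroup.ker_mk'] at h
      rw [← h2]
      exact Subgroup.card_dvd_of_le hle
    · have hq2 : Nat.card (Q ⧸ Subgroup.center Q) = 2 := by
        rw [h4] at hmul
        omega
      have hcyc : IsCyclic (Q ⧸ Subgroup.center Q) := isCyclic_of_prime_card hq2
      have hc : IsMulCommutative Q :=
        MonoidHom.isMulCommutative_of_isCyclic_of_ker_le_center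
          (QuotientGroup.mk' (Subgroup.center Q)) (by rw [QuotientGroup.ker_mk'])
      exfalso
      apply hZ
      rw [Subgroup.eq_top_iff']
      intro x
      rw [Subgroup.mem_center_iff]
      intro y
      exact hc.is_comm.comm y x

/-- in `S₃`, the elements of cube one are the even permutations -/
theorem excw_cube_iff : ∀ s : Equiv.Perm (Fin 3), s ^ 3 = 1 ↔ Equiv.Perm.sign s = 1 := by
  decide

/-- the elements of cube one of `S₃ × S₃`, as a subgroup -/
def excw_T : Subgroup (Equiv.Perm (Fin 3) × Equiv.Perm (Fin 3)) :=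
  ((Equiv.Perm.sign (α := Fin 3)).prodMap (Equiv.Perm.sign (α := Fin 3))).ker

theorem excw_mem_T (x : Equiv.Perm (Fin 3) × Equiv.Perm (Fin 3)) : x ∈ excw_T ↔ x ^ 3 = 1 := by
  unfold excw_T
  rw [MonoidHom.mem_ker, Prod.ext_iff, Prod.ext_iff]
  simp only [MonoidHom.prodMap_def, MonoidHom.prod_apply, MonoidHom.coe_comp, MonoidHom.coe_fst,
    MonoidHom.coe_snd, Function.comp_apply, Prod.fst_one, Prod.snd_one, Prod.pow_fst, Prod.pow_snd]
  rw [excw_cube_iff, excw_cube_iff]

theorem excw_card_T : Nat.card ↥excw_T = 9 := by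
  rw [Nat.card_congr (Equiv.subtypeEquivRight excw_mem_T), Nat.card_eq_fintype_card]
  decide

theorem exc_w {G : Type*} [Group G] [Finite G] (hG : Nat.card G = 72) (A B : Subgroup G)
    (hA : Nonempty (↥A ≃* Equiv.Perm (Fin 3))) (hB : Nonempty (↥B ≃* Equiv.Perm (Fin 3)))
    (hAB : A ⊓ B = ⊥) (hcomm : ∀ a ∈ A, ∀ b ∈ B, a * b = b * a) (hidx : (A ⊔ B).index = 2) :
    Nat.card ↥(commutator G) ∣ 18 := by
  obtain ⟨eA⟩ := hA
  obtain ⟨eB⟩ := hB
  let fA : Equiv.Perm (Fin 3) →* G := A.subtype.comp eA.symm.toMonoidHom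
  let fB : Equiv.Perm (Fin 3) →* G := B.subtype.comp eB.symm.toMonoidHom
  have hc : ∀ s t, Commute (fA s) (fB t) := fun s t =>
    hcomm _ (eA.symm s).2 _ (eB.symm t).2
  have hfA : Function.Injective fA := A.subtype_injective.comp eA.symm.injective
  have hfB : Function.Injective fB := B.subtype_injective.comp eB.symm.injective
  have hrA : fA.range = A := by
    ext x
    constructor
    · rintro ⟨s, rfl⟩
      exact (eA.symm s).2
    · intro hx
      exact ⟨eA ⟨x, hx⟩, by simp [fA]⟩
  have hrB : fB.range = B := by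
    ext x
    constructor
    · rintro ⟨s, rfl⟩
      exact (eB.symm s).2
    · intro hx
      exact ⟨eB ⟨x, hx⟩, by simp [fB]⟩
  let Φ : Equiv.Perm (Fin 3) × Equiv.Perm (Fin 3) →* G := fA.noncommCoprod fB hc
  have hΦinj : Function.Injective Φ :=
    (MonoidHom.noncommCoprod_injective fA fB hc).mpr
      ⟨hfA, hfB, by rw [hrA, hrB]; exact disjoint_iff.mpr hAB⟩
  have hΦrange : Φ.range = A ⊔ B := by
    rw [MonoidHom.noncommCoprod_range, hrA, hrB]
  have hHn : (A ⊔ B).Normal := Subgroup.normal_of_index_eq_two hidx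
  let N : Subgroup G := excw_T.map Φ
  have hNcard : Nat.card ↥N = 9 := by
    rw [Subgroup.card_map_of_injective hΦinj, excw_card_T]
  have hNn : N.Normal := by
    constructor
    intro n hn g
    obtain ⟨t, ht, rfl⟩ := hn
    have hmem : g * Φ t * g⁻¹ ∈ A ⊔ B :=
      hHn.conj_mem _ (by rw [← hΦrange]; exact ⟨t, rfl⟩) g
    rw [← hΦrange] at hmem
    obtain ⟨t', ht'⟩ := hmem
    refine ⟨t', ?_, ht'⟩
    have ht3 : t ^ 3 = 1 := (excw_mem_T t).mp ht
    have h1 : Φ (t' ^ 3) = Φ 1 := by
      rw [map_pow, ht', conj_pow, ← map_pow, ht3, map_one, mul_one, mul_inv_cancel]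
    exact (excw_mem_T t').mpr (hΦinj h1)
  have hQcard : Nat.card (G ⧸ N) = 8 := by
    have h := Subgroup.card_eq_card_quotient_mul_card_subgroup N
    rw [hG, hNcard] at h
    omega
  have hQ' : Nat.card ↥(commutator (G ⧸ N)) ∣ 2 := excw_card_comm_eight hQcard
  let K : Subgroup G := (commutator (G ⧸ N)).comap (QuotientGroup.mk' N)
  have hle : commutator G ≤ K := by
    rw [← Subgroup.map_le_iff_le_comap, commutator_def, Subgroup.map_commutator, commutator_def]
    exact Subgroup.commutator_mono le_top le_top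
  have hKidx : K.index = (commutator (G ⧸ N)).index :=
    Subgroup.index_comap_of_surjective _ (QuotientGroup.mk'_surjective N)
  have hK1 : Nat.card ↥K * K.index = 72 := by
    rw [Subgroup.card_mul_index, hG]
  have hQ1 : Nat.card ↥(commutator (G ⧸ N)) * (commutator (G ⧸ N)).index = 8 := by
    rw [Subgroup.card_mul_index, hQcard]
  have hKdvd : Nat.card ↥K ∣ 18 := by
    rw [hKidx] at hK1
    have hc2 : Nat.card ↥(commutator (G ⧸ N)) = 1 ∨ Nat.card ↥(commutator (G ⧸ N)) = 2 := by
      have := Nat.le_of_dvd (by norm_num) hQ'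
      have hpos : 0 < Nat.card ↥(commutator (G ⧸ N)) := Nat.card_pos
      rcases Nat.lt_or_ge (Nat.card ↥(commutator (G ⧸ N))) 2 with h | h
      · left; omega
      · right; omega
    rcases hc2 with h | h
    · rw [h] at hQ1
      have hi : (commutator (G ⧸ N)).index = 8 := by omega
      rw [hi] at hK1
      have : Nat.card ↥K = 9 := by omega
      rw [this]
      norm_num
    · rw [h] at hQ1
      have hi : (commutator (G ⧸ N)).index = 4 := by omega
      rw [hi] at hK1
      have : Nat.card ↥K = 18 := by omega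
      rw [this]
  exact (Subgroup.card_dvd_of_le hle).trans hKdvd

end Cfsg.Agent.Lib.Helper40.OpBN
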