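import Mathlib
import Cfsg.Agent.Lib.Helper3.CharOps
import Cfsg.Agent.Lib.Helper3.OddOrder
import Cfsg.Agent.Lib.Helper15.IrrCrit

/-! OmBN-IDX2 (S2549 hive of helper41, leaf by helper47): an irreducible character which does not
vanish identically off a subgroup `K` of index two restricts irreducibly to `K`. -/

set_option autoImplicit false

namespace Cfsg.Agent.Lib.Helper41.OmBN

open Cfsg Cfsg.Agent.Lib.Helper3
open scoped ComplexConjugate

theorem idx2_classInner_self {G : Type*} [Group G] [Fintype G] (χ : G → ℂ) :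
    classInner χ χ = (Nat.card G : ℂ)⁻¹ * ((∑ g : G, Complex.normSq (χ g) : ℝ) : ℂ) := by
  unfold classInner
  congr 1
  push_cast
  exact Finset.sum_congr rfl (fun g _ => Complex.mul_conj (χ g))

theorem idx2_sum_eq {G : Type*} [Group G] [Fintype G] (χ : G → ℂ) (c : ℂ) (r : ℝ)
    (hc : c = (r : ℂ)) (h : classInner χ χ = c) :
    (∑ g : G, Complex.normSq (χ g) : ℝ) = r * Nat.card G := by
  rw [idx2_classInner_self, hc] at h
  have hne : (Nat.card G : ℂ) ≠ 0 := by exact_mod_cast Nat.card_pos.ne'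
  have h2 : ((∑ g : G, Complex.normSq (χ g) : ℝ) : ℂ) = ((r * Nat.card G : ℝ) : ℂ) := by
    rw [Complex.ofReal_mul, ← h]
    push_cast
    field_simp
  exact_mod_cast h2

theorem irr_restrict_index_two {G : Type*} [Group G] [Fintype G] (K : Subgroup G) (hK : K.index = 2)
    {χ : G → ℂ} (hχ : Cfsg.IsIrrCharacter G χ) (g : G) (hg : g ∉ K) (hχg : χ g ≠ 0) :
    Cfsg.IsIrrCharacter K (fun k : K => χ (k : G)) := by
  classical
  have hfK : Fintype ↥K := Fintype.ofFinite _
  have hψ : IsCharacter K (fun k : K => χ (k : G)) := IsCharacter.restrict (IsIrrCharacter.isCharacter hχ) K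
  apply Cfsg.Agent.Lib.Helper15.isIrrCharacter_of_norm_one hψ
  obtain ⟨n, hn⟩ := Cfsg.Agent.Lib.Helper15.exists_nat_classInner hψ hψ
  have hcardG : (Nat.card G : ℝ) = 2 * (Nat.card K : ℝ) := by
    have h := Subgroup.card_mul_index K
    rw [hK] at h
    rw [← h]
    push_cast
    ring
  have hKpos : (0 : ℝ) < Nat.card K := by exact_mod_cast Nat.card_pos
  have h1 : classInner χ χ = 1 := by rw [classInner_irr hχ hχ, if_pos rfl]
  have hSG : (∑ x : G, Complex.normSq (χ x) : ℝ) = 1 * Nat.card G :=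
    idx2_sum_eq χ 1 1 (by norm_num) h1
  have hSK : (∑ k : K, Complex.normSq (χ (k : G)) : ℝ) = n * Nat.card K :=
    idx2_sum_eq (fun k : K => χ (k : G)) n n (by norm_num) hn
  have hSK' : (∑ k : K, Complex.normSq (χ (k : G)) : ℝ)
      = ∑ x ∈ Finset.univ.filter (fun x : G => x ∈ K), Complex.normSq (χ x) := by
    rw [← Finset.sum_subtype (Finset.univ.filter (fun x : G => x ∈ K)) (p := fun x => x ∈ K)
      (fun x => by simp) (fun x => Complex.normSq (χ x))]
  have hle : (∑ k : K, Complex.normSq (χ (k : G)) : ℝ) + Complex.normSq (χ g)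
      ≤ ∑ x : G, Complex.normSq (χ x) := by
    rw [hSK', ← Finset.sum_filter_add_sum_filter_not Finset.univ (fun x : G => x ∈ K)
      (fun x => Complex.normSq (χ x))]
    apply add_le_add_right
    exact Finset.single_le_sum (f := fun x => Complex.normSq (χ x))
      (fun _ _ => Complex.normSq_nonneg _) (by simp [hg])
  have hpos : 0 < Complex.normSq (χ g) := Complex.normSq_pos.mpr hχg
  have hn2 : n < 2 := by
    have h3 : (n : ℝ) * Nat.card K < 2 * Nat.card K := by linarith
    have h4 := lt_of_mul_lt_mul_right h3 hKpos.le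
    exact_mod_cast h4
  obtain ⟨d, hd1, -, hd0⟩ := IsIrrCharacter.apply_one_dvd_card hχ
  have hn0 : n ≠ 0 := by
    intro h0
    rw [h0] at hSK
    simp only [Nat.cast_zero, zero_mul] at hSK
    have h5 : Complex.normSq (χ ((1 : K) : G)) ≤ ∑ k : K, Complex.normSq (χ (k : G)) :=
      Finset.single_le_sum (f := fun k : K => Complex.normSq (χ (k : G)))
        (fun _ _ => Complex.normSq_nonneg _) (Finset.mem_univ 1)
    rw [hSK] at h5
    have h6 : Complex.normSq (χ 1) = 0 := le_antisymm (by simpa using h5) (Complex.normSq_nonneg _)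
    rw [Complex.normSq_eq_zero, hd1] at h6
    exact hd0 (by exact_mod_cast h6)
  have hn1 : n = 1 := by omega
  rw [hn, hn1]
  simp

end Cfsg.Agent.Lib.Helper41.OmBN
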