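import Mathlib
import Cfsg.Agent.Lib.Helper45.BalUDefs

set_option autoImplicit false
set_option linter.unusedVariables false
set_option linter.unusedSectionVars false
set_option linter.unusedSimpArgs false

/-!
# FU-DVD (S2687 hive, BALU-FIELD part): `p ∣ |Fix(PhiU σ)|` implies `p ∣ |L0U σ|` for odd `p`
-/

namespace Cfsg.Agent.Lib.Helper45.UBal

open Matrix Cfsg.Agent.Lib.Helper5.AutPSU Cfsg.Agent.Lib.Helper99 Cfsg.Agent.Lib.Helper99.SURoot

variable {F : Type*} [Field F] [Fintype F] {q n : ℕ}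

/-- the permutation matrix of an even permutation, as an element of `SL_n` -/
noncomputable def dvd_permSL (c : Equiv.Perm (Fin n)) (hc : Equiv.Perm.sign c = 1) :
    Matrix.SpecialLinearGroup (Fin n) F :=
  ⟨c.permMatrix F, by rw [Matrix.det_permutation, hc]; simp⟩

lemma dvd_permSL_coe (c : Equiv.Perm (Fin n)) (hc : Equiv.Perm.sign c = 1) :
    ((dvd_permSL (F := F) c hc : Matrix.SpecialLinearGroup (Fin n) F) :
      Matrix (Fin n) (Fin n) F) = c.permMatrix F := rfl

/-- the permutation matrix of an even permutation, as an element of `SU_n(q)` -/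
noncomputable def dvd_permSU (c : Equiv.Perm (Fin n)) (hc : Equiv.Perm.sign c = 1) :
    ↥(Cfsg.SU n F q) :=
  ⟨dvd_permSL c hc, by
    rw [mem_SU_iff']
    intro u v
    rw [dvd_permSL_coe, Matrix.permMatrix_mulVec, Matrix.permMatrix_mulVec]
    unfold Cfsg.hermForm
    exact Equiv.sum_comp c (fun i => u i * v i ^ q)⟩

lemma dvd_permSU_mulVec (c : Equiv.Perm (Fin n)) (hc : Equiv.Perm.sign c = 1) (v : Fin n → F) :
    mat n (dvd_permSU (F := F) (q := q) c hc) *ᵥ v = v ∘ c :=
  Matrix.permMatrix_mulVec c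

lemma dvd_permSU_pow_mulVec (c : Equiv.Perm (Fin n)) (hc : Equiv.Perm.sign c = 1) (k : ℕ)
    (v : Fin n → F) :
    mat n ((dvd_permSU (F := F) (q := q) c hc) ^ k) *ᵥ v = v ∘ (c ^ k : Equiv.Perm (Fin n)) := by
  induction k generalizing v with
  | zero =>
    rw [pow_zero, su_one_mulVec, pow_zero]
    rfl
  | succ k ih =>
    rw [pow_succ, su_mul_mulVec, ih, dvd_permSU_mulVec, pow_succ']
    rfl

lemma dvd_permSU_mem_FixSU (σ : F ≃+* F) (c : Equiv.Perm (Fin n))
    (hc : Equiv.Perm.sign c = 1) : dvd_permSU (F := F) (q := q) c hc ∈ FixSU σ := by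
  rw [mem_FixSU_iff_mat]
  ext i j
  show σ ((c.permMatrix F) i j) = (c.permMatrix F) i j
  simp only [Equiv.Perm.permMatrix, PEquiv.toMatrix_apply]
  split_ifs <;> simp

lemma dvd_permSU_not_mem_center (hF : Fintype.card F = q ^ 2) (hn : 3 ≤ n)
    (c : Equiv.Perm (Fin n)) (hc : Equiv.Perm.sign c = 1) (hne : c ≠ 1) :
    dvd_permSU (F := F) (q := q) c hc ∉ Subgroup.center ↥(Cfsg.SU n F q) := by
  intro hz
  obtain ⟨ν, -, hν⟩ := exists_scalar_of_mem_center hF hn hz
  obtain ⟨i, hi⟩ : ∃ i, c i ≠ i := by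
    by_contra h
    push Not at h
    exact hne (Equiv.ext h)
  have h1 := congrFun (hν (Pi.single (c i) 1)) i
  rw [dvd_permSU_mulVec] at h1
  have hi' : i ≠ c i := fun h => hi h.symm
  simp [Pi.single_apply, hi'] at h1

/-- central elements have `n`-th power one -/
lemma dvd_center_pow (hF : Fintype.card F = q ^ 2) (hn : 3 ≤ n) {z : ↥(Cfsg.SU n F q)}
    (hz : z ∈ Subgroup.center ↥(Cfsg.SU n F q)) : z ^ n = 1 := by
  obtain ⟨ν, -, hν⟩ := exists_scalar_of_mem_center hF hn hz
  have hmat : mat n z = ν • (1 : Matrix (Fin n) (Fin n) F) := by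
    apply Matrix.ext_iff_mulVec.mpr
    intro v
    rw [hν, Matrix.smul_mulVec, Matrix.one_mulVec]
  have hdet : (mat n z).det = 1 := z.1.2
  rw [hmat, Matrix.det_smul, Matrix.det_one, mul_one, Fintype.card_fin] at hdet
  have hpow : ∀ k : ℕ, ∀ v : Fin n → F, mat n (z ^ k) *ᵥ v = ν ^ k • v := by
    intro k
    induction k with
    | zero => intro v; rw [pow_zero, su_one_mulVec, pow_zero, one_smul]
    | succ k ih =>
      intro v
      rw [pow_succ, su_mul_mulVec, hν, Matrix.mulVec_smul, ih, smul_smul, pow_succ', mul_comm]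
  apply su_ext
  intro v
  rw [hpow, hdet, one_smul, su_one_mulVec]

theorem dvd_card_L0U (hF : Fintype.card F = q ^ 2) (hn : 3 ≤ n) (σ : F ≃+* F) {p : ℕ}
    [Fact p.Prime] (hp2 : p ≠ 2)
    (hdvd : p ∣ Nat.card ↥(MonoidHom.eqLocus (PhiU σ : MulAut (Cfsg.PSU n F q)).toMonoidHom
      (MonoidHom.id (Cfsg.PSU n F q)))) :
    p ∣ Nat.card ↥(L0U (n := n) (q := q) σ) := by
  have hp : p.Prime := Fact.out
  have hfinP : Finite (Cfsg.PSU n F q) := inferInstance
  by_cases hpn : p ∣ n
  · -- a permutation matrix of order `p`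
    have hple : p ≤ n := Nat.le_of_dvd (by omega) hpn
    have hdf : p ∣ Nat.card (Equiv.Perm (Fin n)) := by
      rw [Nat.card_eq_fintype_card, Fintype.card_perm, Fintype.card_fin]
      exact (Nat.Prime.dvd_factorial hp).2 hple
    obtain ⟨c, hc⟩ := exists_prime_orderOf_dvd_card' p hdf
    have hsign : Equiv.Perm.sign c = 1 := by
      have h1 : (Equiv.Perm.sign c) ^ p = 1 := by
        rw [← map_pow, ← hc, pow_orderOf_eq_one, map_one]
      rcases Int.units_eq_one_or (Equiv.Perm.sign c) with h | h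
      · exact h
      · rw [h] at h1
        have hodd : Odd p := hp.odd_of_ne_two hp2
        rw [hodd.neg_one_pow] at h1
        exact absurd h1 (by decide)
    have hcne : c ≠ 1 := by
      rintro rfl
      rw [orderOf_one] at hc
      exact hp.one_lt.ne hc
    set s : ↥(Cfsg.SU n F q) := dvd_permSU c hsign with hs
    have hsp : s ^ p = 1 := by
      apply su_ext
      intro v
      rw [hs, dvd_permSU_pow_mulVec, ← hc, pow_orderOf_eq_one, su_one_mulVec]
      rfl
    have hx1 : (pr s : Cfsg.PSU n F q) ^ p = 1 := by rw [← map_pow, hsp, map_one]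
    have hx2 : (pr s : Cfsg.PSU n F q) ≠ 1 := by
      intro h
      exact dvd_permSU_not_mem_center hF hn c hsign hcne (pr_eq_one_iff.1 h)
    have hord : orderOf (pr s : Cfsg.PSU n F q) = p := orderOf_eq_prime hx1 hx2
    have hmem : (pr s : Cfsg.PSU n F q) ∈ L0U (n := n) (q := q) σ :=
      ⟨s, dvd_permSU_mem_FixSU σ c hsign, rfl⟩
    rw [← hord]
    exact Subgroup.orderOf_dvd_natCard _ hmem
  · obtain ⟨k, hk⟩ := exists_prime_orderOf_dvd_card' p hdvd
    have hkfix : PhiU σ k.1 = k.1 := k.2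
    have hkord : orderOf k.1 = p := by rw [Subgroup.orderOf_coe, hk]
    obtain ⟨t, ht⟩ := pr_surjective k.1
    rw [← ht] at hkfix hkord
    obtain ⟨z, hz, htz⟩ := exists_central_of_fix σ t hkfix
    have hzn : z ^ n = 1 := dvd_center_pow hF hn hz
    have hcomm : Commute t z := Subgroup.mem_center_iff.1 hz t
    have hfix : fieldU σ (t ^ n) = t ^ n := by
      rw [map_pow, htz, hcomm.mul_pow, hzn, mul_one]
    have hmem : (pr t : Cfsg.PSU n F q) ^ n ∈ L0U (n := n) (q := q) σ :=
      ⟨t ^ n, hfix, by rw [map_pow]⟩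
    have hcop : (orderOf (pr t : Cfsg.PSU n F q)).Coprime n := by
      rw [hkord]
      exact (Nat.Prime.coprime_iff_not_dvd hp).2 hpn
    have hord : orderOf ((pr t : Cfsg.PSU n F q) ^ n) = p := by
      rw [hcop.orderOf_pow, hkord]
    rw [← hord]
    exact Subgroup.orderOf_dvd_natCard _ hmem

end Cfsg.Agent.Lib.Helper45.UBal
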