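import Cfsg.Agent.Lib.Helper47.BasicProp2

set_option autoImplicit false

namespace Cfsg.Agent.Lib.Helper47

open Cfsg
open scoped commutatorElement Pointwise

variable {G : Type*} [Group G] [Finite G] {p : ℕ} [Fact p.Prime]

/-- The basic property (existence of `M ∈ 𝔐_H` and `L*`), under the hypothesis that every
subgroup containing `T` with nontrivial `O_p` lies in `𝓛_H`. -/
theorem exists_frakM (T : Sylow p G)
    (hpar : ∀ R : Subgroup G, (T : Subgroup G) ≤ R → pCore p ↥R ≠ ⊥ → R ∈ charPSubgroups p G)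
    (L : Subgroup G) (hTL : (T : Subgroup G) ≤ L) (hL1 : pCore p ↥L ≠ ⊥) :
    ∃ M Ls : Subgroup G, (T : Subgroup G) ≤ M ∧ IsInFrakM p M ∧ (T : Subgroup G) ≤ Ls ∧ Ls ≤ M ∧
      Ls ∈ charPSubgroups p G ∧ largestPReducedOf p L = largestPReducedOf p Ls ∧
      largestPReducedOf p L ≤ largestPReducedOf p M ∧
      L ⊔ Subgroup.centralizer ((largestPReducedOf p L : Subgroup G) : Set G) =
        Ls ⊔ Subgroup.centralizer ((largestPReducedOf p L : Subgroup G) : Set G) := by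
  classical
  have charp : ∀ X : Subgroup G, (T : Subgroup G) ≤ X → pCore p ↥X ≠ ⊥ →
      Subgroup.centralizer (pCore p ↥X : Set ↥X) ≤ pCore p ↥X :=
    fun X h1 h2 => charp_of_mem_charPSubgroups (hpar X h1 h2)
  have hT1 : (T : Subgroup G) ≠ ⊥ := by
    intro h
    have h1 : pCoreOf p L ≤ (T : Subgroup G) := pCoreOf_le_sylow T hTL
    rw [h, le_bot_iff] at h1
    exact hL1 ((pCoreOf_eq_bot_iff p L).mp h1)
  set YL : Subgroup G := largestPReducedOf p L with hYL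
  set CL : Subgroup G := Subgroup.centralizer (YL : Set G) with hCL
  set Ld : Subgroup G := L ⊔ CL with hLd
  have hLc := charp L hTL hL1
  have hYLp : IsPGroup p ↥YL := largestPReducedOf_isPGroup p L
  have hYL1 : YL ≠ ⊥ := largestPReducedOf_ne_bot T hT1 hTL hLc
  have hYLT : YL ≤ (T : Subgroup G) := largestPReducedOf_le_sylow T hTL
  have hLYL : L ≤ Subgroup.normalizer (YL : Set G) := le_normalizer_largestPReducedOf p L
  have hCLN : CL ≤ Subgroup.normalizer (YL : Set G) := Subgroup.centralizer_le_normalizer _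
  have hLdN : Ld ≤ Subgroup.normalizer (YL : Set G) := sup_le hLYL hCLN
  have hLdNC : Ld ≤ Subgroup.normalizer (CL : Set G) :=
    hLdN.trans (normalizer_le_normalizer_centralizer YL)
  -- the family
  set 𝓖 : Set (Subgroup G) := {X | ((T : Subgroup G) ≤ X ∧ pCore p ↥X ≠ ⊥) ∧
    YL ≤ largestPReducedOf p X ∧ L ≤ (Ld ⊓ X) ⊔ CL} with h𝓖
  have hL𝓖 : L ∈ 𝓖 := ⟨⟨hTL, hL1⟩, le_rfl, (le_inf le_sup_left le_rfl).trans le_sup_left⟩
  have h𝓖up : ∀ X ∈ 𝓖, ∀ X' : Subgroup G, X ≤ X' → pCore p ↥X' ≠ ⊥ → X' ∈ 𝓖 := by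
    intro X hX X' hXX' hX'1
    have hTX' : (T : Subgroup G) ≤ X' := hX.1.1.trans hXX'
    exact ⟨⟨hTX', hX'1⟩,
      hX.2.1.trans (largestPReducedOf_mono_of_sylow T hX.1.1 hXX' (charp X' hTX' hX'1)),
      hX.2.2.trans (sup_le_sup_right (inf_le_inf_left Ld hXX') CL)⟩
  obtain ⟨M₀, hM₀𝓖, hM₀max⟩ := Set.exists_max_image 𝓖
    (fun X => Nat.card ↥(largestPReducedOf p X)) (Set.toFinite 𝓖) ⟨L, hL𝓖⟩
  obtain ⟨Mt, hM₀Mt, hMtmax⟩ := Finite.exists_le_maximal (p := fun X => X ∈ 𝓖) hM₀𝓖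
  have hMt𝓖 : Mt ∈ 𝓖 := hMtmax.prop
  have hTMt : (T : Subgroup G) ≤ Mt := hMt𝓖.1.1
  have hMt1 : pCore p ↥Mt ≠ ⊥ := hMt𝓖.1.2
  have hMtc := charp Mt hTMt hMt1
  set Y : Subgroup G := largestPReducedOf p Mt with hY
  have hYLY : YL ≤ Y := hMt𝓖.2.1
  have hcardmax : ∀ X ∈ 𝓖, Nat.card ↥(largestPReducedOf p X) ≤ Nat.card ↥Y := by
    intro X hX
    refine (hM₀max X hX).trans ?_
    exact Subgroup.card_le_of_le (largestPReducedOf_mono_of_sylow T hM₀𝓖.1.1 hM₀Mt hMtc)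
  have hMtmax' : ∀ X : Subgroup G, Mt ≤ X → pCore p ↥X ≠ ⊥ → X = Mt := by
    intro X hMX hX1
    have hX𝓖 := h𝓖up Mt hMt𝓖 X hMX hX1
    exact le_antisymm (hMtmax.le_of_ge hX𝓖 hMX) hMX
  have hYp : IsPGroup p ↥Y := largestPReducedOf_isPGroup p Mt
  have hY1 : Y ≠ ⊥ := largestPReducedOf_ne_bot T hT1 hTMt hMtc
  have hYT : Y ≤ (T : Subgroup G) := largestPReducedOf_le_sylow T hTMt
  have hMtY : Mt ≤ Subgroup.normalizer (Y : Set G) := le_normalizer_largestPReducedOf p Mt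
  set C : Subgroup G := Subgroup.centralizer (Y : Set G) with hC
  have hCMt : C ≤ Mt := by
    have h1 : Mt ⊔ C = Mt := hMtmax' (Mt ⊔ C) le_sup_left
      (pCore_ne_bot_of_le_normalizer hYp hY1 (hYT.trans (hTMt.trans le_sup_left))
        (sup_le hMtY (Subgroup.centralizer_le_normalizer _)))
    rw [← h1]
    exact le_sup_right
  have hNY : Subgroup.normalizer (Y : Set G) = Mt :=
    hMtmax' _ hMtY (pCore_ne_bot_of_le_normalizer hYp hY1 Subgroup.le_normalizer le_rfl)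
  have hMtL : Mt ∈ charPSubgroups p G := hpar Mt hTMt hMt1
  have hMtmaxL : Mt ∈ maxCharPSubgroups p G :=
    ⟨hMtL, fun X hX hMX => hMtmax' X hMX hX.1⟩
  -- the minimal supplement
  obtain ⟨M, _, hMmin⟩ := Finite.exists_le_minimal
    (p := fun X : Subgroup G => (T : Subgroup G) ≤ X ∧ X ≤ Mt ∧ X ⊔ C = Mt) (a := Mt)
    ⟨hTMt, le_rfl, sup_of_le_left hCMt⟩
  obtain ⟨hTM, hMMt, hMC⟩ := hMmin.prop
  have hMminimal : ∀ X : Subgroup G, (T : Subgroup G) ≤ X → X ≤ M → X ⊔ C = Mt → X = M := by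
    intro X h1 h2 h3
    exact le_antisymm h2 (hMmin.le_of_le ⟨h1, h2.trans hMMt, h3⟩ h2)
  have hMY : M ≤ Subgroup.normalizer (Y : Set G) := hMMt.trans hMtY
  have hYM : Y ≤ M := hYT.trans hTM
  have hM1 : pCore p ↥M ≠ ⊥ := pCore_ne_bot_of_le_normalizer hYp hY1 hYM hMY
  have hMc := charp M hTM hM1
  have hYMeq : largestPReducedOf p M = Y := by
    apply le_antisymm
    · exact largestPReducedOf_mono_of_sylow T hTM hMMt hMtc
    · apply le_largestPReducedOf hYM hMY (largestPReducedOf_comm p Mt) (largestPReducedOf_exp p Mt)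
      apply pRedInternal_of_sup_eq hMtY _ (largestPReducedOf_pRedInternal p Mt)
      rw [hMC, sup_of_le_left hCMt]
  have hMdag : M ⊔ Subgroup.centralizer ((largestPReducedOf p M : Subgroup G) : Set G) = Mt := by
    rw [hYMeq]; exact hMC
  -- p-closedness
  have hMtNC : Mt ≤ Subgroup.normalizer (C : Set G) :=
    hMtY.trans (normalizer_le_normalizer_centralizer Y)
  have hMNC : M ≤ Subgroup.normalizer (C : Set G) := hMMt.trans hMtNC
  have hTNC : (T : Subgroup G) ≤ Subgroup.normalizer (C : Set G) := hTM.trans hMNC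
  set T₀ : Subgroup G := (T : Subgroup G) ⊓ C with hT₀
  have hT₀p : IsPGroup p ↥T₀ := T.isPGroup'.to_le inf_le_left
  have hTT₀ : (T : Subgroup G) ≤ Subgroup.normalizer (T₀ : Set G) :=
    (le_inf Subgroup.le_normalizer hTNC).trans (normalizer_inf_le_normalizer_inf _ _)
  have hMnCM : M ≤ Subgroup.normalizer ((M ⊓ C : Subgroup G) : Set G) :=
    (le_inf Subgroup.le_normalizer hMNC).trans (normalizer_inf_le_normalizer_inf M C)
  obtain ⟨S, hS⟩ := exists_sylow_subgroupOf_of_le_normalizer T (M ⊓ C) (hTM.trans hMnCM)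
  have hS' : (S : Subgroup ↥(M ⊓ C)).map (M ⊓ C).subtype = T₀ := by
    rw [hS, Subgroup.subgroupOf_map_subtype, hT₀, ← inf_assoc, inf_of_le_left hTM]
  have hfrat := frattini_inf hMNC S hS'
  have hMT₀ : M ≤ Subgroup.normalizer (T₀ : Set G) := by
    have h1 : M ⊓ Subgroup.normalizer (T₀ : Set G) = M := by
      apply hMminimal _ (le_inf hTM hTT₀) inf_le_left
      apply le_antisymm
      · exact sup_le (inf_le_left.trans hMMt) hCMt
      · rw [← hMC]
        apply sup_le _ le_sup_right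
        intro m hm
        obtain ⟨n, hn, y, hy, rfl⟩ := hfrat m hm
        exact Subgroup.mul_mem _ (Subgroup.mem_sup_right hn.2) (Subgroup.mem_sup_left hy)
    rw [← h1]
    exact inf_le_right
  have hT₀MC : T₀ ≤ M ⊓ C := le_inf (inf_le_left.trans hTM) inf_le_right
  have hSeq : ((T : Subgroup G)).subgroupOf (M ⊓ C) = T₀.subgroupOf (M ⊓ C) := by
    ext x
    rw [Subgroup.mem_subgroupOf, Subgroup.mem_subgroupOf]
    constructor
    · intro hx
      exact ⟨hx, x.2.2⟩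
    · intro hx
      exact hx.1
  have hpclosed : IsPClosed p ↥(M ⊓ C : Subgroup G) := by
    rw [isPClosed_iff_sylow_normal S, hS, hSeq]
    exact Subgroup.normal_subgroupOf_of_le_normalizer (inf_le_left.trans hMT₀)
  -- Frattini
  have hidx : ¬ p ∣ T₀.relIndex (M ⊓ C) := by
    have h1 : ¬ p ∣ (S : Subgroup ↥(M ⊓ C)).index := S.not_dvd_index
    rw [hS, hSeq] at h1
    exact h1
  have hfrattini : ((M ⊓ C).subgroupOf M).map (QuotientGroup.mk' (pCore p ↥M)) ≤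
      frattini (↥M ⧸ pCore p ↥M) := by
    apply frattini_of_minimal_supplement T hTM inf_le_left hMnCM hT₀MC hMT₀ hT₀p hidx
    intro X hTX hXM hMX
    apply hMminimal X hTX hXM
    apply le_antisymm
    · exact sup_le (hXM.trans hMMt) hCMt
    · rw [← hMC]
      exact sup_le (hMX.trans (sup_le_sup_left inf_le_right X)) le_sup_right
  -- L ≤ (L† ∩ M) C(Y_L)
  have hCCL : C ≤ CL := Subgroup.centralizer_le hYLY
  have hLM : L ≤ (Ld ⊓ M) ⊔ CL := by
    intro l hl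
    have h1 : l ∈ (((Ld ⊓ Mt) ⊔ CL : Subgroup G) : Set G) := hMt𝓖.2.2 hl
    have hn : Ld ⊓ Mt ≤ Subgroup.normalizer (CL : Set G) := inf_le_left.trans hLdNC
    rw [Subgroup.coe_mul_of_left_le_normalizer_right _ _ hn] at h1
    obtain ⟨a, ha, c, hc, hac⟩ := h1
    have hac' : a * c = l := hac
    have ha' : a ∈ ((M ⊔ C : Subgroup G) : Set G) := by rw [hMC]; exact ha.2
    rw [Subgroup.coe_mul_of_left_le_normalizer_right M C hMNC] at ha'
    obtain ⟨m, hm, c', hc', hmc'⟩ := ha'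
    have hmc'' : m * c' = a := hmc'
    have hc'L : c' ∈ CL := hCCL hc'
    have hmLd : m ∈ Ld := by
      have e : m = a * c'⁻¹ := by rw [← hmc'']; group
      rw [e]
      exact Ld.mul_mem ha.1 (Ld.inv_mem (Subgroup.mem_sup_right hc'L))
    have e : l = m * (c' * c) := by rw [← hac', ← hmc'']; group
    rw [e]
    exact Subgroup.mul_mem _ (Subgroup.mem_sup_left ⟨hmLd, hm⟩)
      (Subgroup.mem_sup_right (CL.mul_mem hc'L hc))
  have hM𝓖 : M ∈ 𝓖 := ⟨⟨hTM, hM1⟩, by rw [hYMeq]; exact hYLY, hLM⟩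
  have huniq : ∀ X ∈ maxCharPSubgroups p G, M ≤ X → X = Mt := by
    intro X hX hMX
    have hX1 : pCore p ↥X ≠ ⊥ := hX.1.1
    have hX𝓖 : X ∈ 𝓖 := h𝓖up M hM𝓖 X hMX hX1
    have hTX : (T : Subgroup G) ≤ X := hTM.trans hMX
    have hYX : Y ≤ largestPReducedOf p X := by
      rw [← hYMeq]
      exact largestPReducedOf_mono_of_sylow T hTM hMX (charp X hTX hX1)
    have hYXeq : Y = largestPReducedOf p X :=
      Subgroup.eq_of_le_of_card_ge hYX (hcardmax X hX𝓖)
    have hXMt : X ≤ Mt := by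
      rw [← hNY, hYXeq]
      exact le_normalizer_largestPReducedOf p X
    exact (hX.2 Mt hMtL hXMt).symm
  -- L*
  have hTM₁ : (T : Subgroup G) ≤ Ld ⊓ M := le_inf (hTL.trans le_sup_left) hTM
  have hM₁1 : pCore p ↥(Ld ⊓ M : Subgroup G) ≠ ⊥ :=
    pCore_ne_bot_of_le_normalizer hYLp hYL1 (hYLT.trans hTM₁) (inf_le_left.trans hLdN)
  have hM₁c := charp (Ld ⊓ M) hTM₁ hM₁1
  have hfac : (Ld ⊓ M) ⊔ CL = L ⊔ CL :=
    le_antisymm (sup_le inf_le_left le_sup_right) (sup_le hLM le_sup_right)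
  obtain ⟨hY1eq, hsup⟩ := Cfsg.Agent.S2824.result T L (Ld ⊓ M) hTL hTM₁ hLc hM₁c _ rfl hfac _ rfl
  have hTT₀L : (T : Subgroup G) ≤ Subgroup.normalizer (((T : Subgroup G) ⊓ CL : Subgroup G) : Set G) :=
    (le_inf Subgroup.le_normalizer
      (hTL.trans (hLYL.trans (normalizer_le_normalizer_centralizer YL)))).trans
      (normalizer_inf_le_normalizer_inf _ _)
  have hTLs : (T : Subgroup G) ≤
      (Ld ⊓ M) ⊓ Subgroup.normalizer (((T : Subgroup G) ⊓ CL : Subgroup G) : Set G) :=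
    le_inf hTM₁ hTT₀L
  have hLs1 : pCore p ↥((Ld ⊓ M) ⊓
      Subgroup.normalizer (((T : Subgroup G) ⊓ CL : Subgroup G) : Set G) : Subgroup G) ≠ ⊥ :=
    pCore_ne_bot_of_le_normalizer hYLp hYL1 (hYLT.trans hTLs)
      ((inf_le_left.trans inf_le_left).trans hLdN)
  refine ⟨M, (Ld ⊓ M) ⊓ Subgroup.normalizer (((T : Subgroup G) ⊓ CL : Subgroup G) : Set G),
    hTM, ?_, hTLs, inf_le_left.trans inf_le_right, hpar _ hTLs hLs1, hY1eq.symm,
    by rw [hYMeq]; exact hYLY, hsup⟩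
  refine ⟨hpar M hTM hM1, ?_, ?_, ?_, ?_, ?_⟩
  · rw [hMdag]; exact hMtmaxL
  · intro X hX hMX
    rw [hMdag]
    exact huniq X hX hMX
  · rw [hMdag, hYMeq]
  · rw [hYMeq]; exact hpclosed
  · rw [hYMeq]; exact hfrattini

end Cfsg.Agent.Lib.Helper47
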