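import Cfsg.Agent.Lib.Helper47.PCoreOf2
import Cfsg.Agent.S2809

set_option autoImplicit false

namespace Cfsg.Agent.Lib.Helper47

open Cfsg

variable {G : Type*} [Group G] [Finite G] {p : ℕ} [Fact p.Prime]

/-- `Q` large, `Q ≤ L`, `O_p(L) ≠ 1`: then `C_G(O_p(L)) ≤ N_G(Q)`. -/
theorem large_centralizer_pCoreOf_le_normalizer {Q L : Subgroup G} (hQp : IsPGroup p ↥Q)
    (hL : IsLarge Q) (hQL : Q ≤ L) (hP1 : pCoreOf p L ≠ ⊥) :
    Subgroup.centralizer ((pCoreOf p L : Subgroup G) : Set G) ≤ Subgroup.normalizer (Q : Set G) := by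
  set P := pCoreOf p L with hP
  have hQP : Q ≤ Subgroup.normalizer (P : Set G) := hQL.trans (le_normalizer_pCoreOf p L)
  have hPp : IsPGroup p ↥P := pCoreOf_isPGroup p L
  have hU1 : P ⊓ Subgroup.centralizer (Q : Set G) ≠ ⊥ :=
    inf_centralizer_ne_bot_of_pgroup hQp hPp hQP hP1
  have hUN := hL.2 _ inf_le_right hU1
  have hDU : Subgroup.centralizer (P : Set G) ≤
      Subgroup.centralizer ((P ⊓ Subgroup.centralizer (Q : Set G) : Subgroup G) : Set G) :=
    Subgroup.centralizer_le inf_le_left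
  exact hDU.trans ((Subgroup.centralizer_le_normalizer _).trans hUN)

/-- `Q` large, `Q ≤ L`, `O_p(L) ≠ 1`: then `C_G(O_p(L))` is a `p`-group. -/
theorem large_centralizer_pCoreOf_isPGroup {Q L : Subgroup G} (hQp : IsPGroup p ↥Q)
    (hL : IsLarge Q) (hQL : Q ≤ L) (hP1 : pCoreOf p L ≠ ⊥) :
    IsPGroup p ↥(Subgroup.centralizer ((pCoreOf p L : Subgroup G) : Set G)) := by
  set P := pCoreOf p L with hP
  set D := Subgroup.centralizer (P : Set G) with hD
  have hDQ : D ≤ Subgroup.normalizer (Q : Set G) :=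
    large_centralizer_pCoreOf_le_normalizer hQp hL hQL hP1
  have hPp : IsPGroup p ↥P := pCoreOf_isPGroup p L
  have hLP : L ≤ Subgroup.normalizer (P : Set G) := le_normalizer_pCoreOf p L
  have hLD : L ≤ Subgroup.normalizer (D : Set G) :=
    hLP.trans (normalizer_le_normalizer_centralizer P)
  set D₀ := pCoreOf p D with hD₀
  have hLD₀ : L ≤ Subgroup.normalizer (D₀ : Set G) :=
    hLD.trans (normalizer_le_normalizer_pCoreOf p D)
  have hD₀p : IsPGroup p ↥D₀ := pCoreOf_isPGroup p D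
  have hD₀D : D₀ ≤ D := pCoreOf_le p D
  -- D₀ ⊔ P is a p-group normalized by L
  have hD₀P : IsPGroup p ↥(D₀ ⊔ P) :=
    hD₀p.to_sup_of_normal_right' hPp (hD₀D.trans (Subgroup.centralizer_le_normalizer _))
  have hLsup : L ≤ Subgroup.normalizer ((D₀ ⊔ P : Subgroup G) : Set G) :=
    (le_inf hLD₀ hLP).trans (normalizer_inf_le_normalizer_sup D₀ P)
  have hY : (D₀ ⊔ P) ⊓ L ≤ P := by
    apply le_pCoreOf inf_le_right
    · exact (le_inf hLsup Subgroup.le_normalizer).trans (normalizer_inf_le_normalizer_inf _ _)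
    · exact hD₀P.to_le inf_le_left
  -- D ⊓ Q ≤ D₀
  have hDQ₀ : D ⊓ Q ≤ D₀ := by
    apply le_pCoreOf inf_le_left
    · exact (le_inf Subgroup.le_normalizer hDQ).trans (normalizer_inf_le_normalizer_inf _ _)
    · exact hQp.to_le inf_le_right
  have hDQP : D ⊓ Q ≤ P :=
    (le_inf (hDQ₀.trans le_sup_left) (inf_le_right.trans hQL)).trans hY
  -- [Q, D] ≤ D ⊓ Q
  have hQD : Q ≤ Subgroup.normalizer (D : Set G) := hQL.trans hLD
  have hc1 : ⁅Q, D⁆ ≤ Q := Subgroup.le_normalizer_iff_commutator_le_left.mp hDQ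
  have hc2 : ⁅Q, D⁆ ≤ D := Subgroup.le_normalizer_iff_commutator_le_right.mp hQD
  have hc3 : ⁅Q, D⁆ ≤ P := (le_inf hc2 hc1).trans hDQP
  have hc4 : ⁅P, D⁆ = ⊥ := by
    rw [Subgroup.commutator_eq_bot_iff_le_centralizer]
    exact Subgroup.le_centralizer_iff.mp le_rfl
  have hnil : Cfsg.iterCommutator Q D 2 = ⊥ := by
    show ⁅⁅Q, D⁆, D⁆ = ⊥
    exact le_bot_iff.mp ((Subgroup.commutator_mono hc3 le_rfl).trans hc4.le)
  exact Cfsg.Agent.S2809.result Q hQp hL.1 D hDQ ⟨2, hnil⟩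

/-- `Q` large, `Q ≤ L`, `O_p(L) ≠ 1`: then `L` has characteristic `p`. -/
theorem large_charp {Q L : Subgroup G} (hQp : IsPGroup p ↥Q)
    (hL : IsLarge Q) (hQL : Q ≤ L) (hP1 : pCoreOf p L ≠ ⊥) :
    L ⊓ Subgroup.centralizer ((pCoreOf p L : Subgroup G) : Set G) ≤ pCoreOf p L := by
  have h1 := large_centralizer_pCoreOf_isPGroup hQp hL hQL hP1
  apply le_pCoreOf inf_le_left
  · have hLP : L ≤ Subgroup.normalizer ((pCoreOf p L : Subgroup G) : Set G) :=
      le_normalizer_pCoreOf p L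
    exact (le_inf Subgroup.le_normalizer
      (hLP.trans (normalizer_le_normalizer_centralizer _))).trans
      (normalizer_inf_le_normalizer_inf _ _)
  · exact h1.to_le inf_le_right

end Cfsg.Agent.Lib.Helper47
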