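import Cfsg.Agent.Lib.Helper47.Asym
import Cfsg.Agent.Lib.Helper47.BasicProp3
import Cfsg.Agent.S2845

set_option autoImplicit false

namespace Cfsg.Agent.Lib.Helper47

open Cfsg
open scoped commutatorElement Pointwise

variable {G : Type*} [Group G] [Finite G] {p : ℕ} [Fact p.Prime]

/-- every subgroup `X ≥ M` with `O_p(X) ≠ 1` lies in `M†` -/
theorem frakM_overgroup_le (S : Sylow p G) {Q : Subgroup G} (hQp : IsPGroup p ↥Q) (hQ1 : Q ≠ ⊥)
    (hQ : IsLarge Q) {M : Subgroup G} (hSM : (S : Subgroup G) ≤ M) (hM : IsInFrakM p M)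
    {X : Subgroup G} (hMX : M ≤ X) (hX1 : pCore p ↥X ≠ ⊥) :
    X ≤ M ⊔ Subgroup.centralizer ((largestPReducedOf p M : Subgroup G) : Set G) := by
  obtain ⟨_, hpar2, _⟩ := Cfsg.Agent.S2845.result Q hQp hQ1 hQ
  have hX : X ∈ charPSubgroups p G := ⟨hX1, hpar2 X ⟨S, hSM.trans hMX⟩ hX1⟩
  obtain ⟨Xs, hXXs, hXsmax⟩ :=
    Finite.exists_le_maximal (p := fun X : Subgroup G => X ∈ charPSubgroups p G) hX
  have hXs : Xs ∈ maxCharPSubgroups p G :=
    ⟨hXsmax.prop, fun L hL hle => le_antisymm (hXsmax.le_of_ge hL hle) hle⟩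
  have h := hM.2.2.1 Xs hXs (hMX.trans hXXs)
  rw [← h]; exact hXXs

/-- the normaliser of a nontrivial `p`-subgroup normalised by `M` lies in `M†` -/
theorem frakM_normalizer_le (S : Sylow p G) {Q : Subgroup G} (hQp : IsPGroup p ↥Q) (hQ1 : Q ≠ ⊥)
    (hQ : IsLarge Q) {M : Subgroup G} (hSM : (S : Subgroup G) ≤ M) (hM : IsInFrakM p M)
    {R : Subgroup G} (hRp : IsPGroup p ↥R) (hR1 : R ≠ ⊥)
    (hMR : M ≤ Subgroup.normalizer (R : Set G)) :
    Subgroup.normalizer (R : Set G) ≤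
      M ⊔ Subgroup.centralizer ((largestPReducedOf p M : Subgroup G) : Set G) :=
  frakM_overgroup_le S hQp hQ1 hQ hSM hM hMR
    (pCore_ne_bot_of_le_normalizer hRp hR1 Subgroup.le_normalizer le_rfl)

/-- `C_S(Y_M) = O_p(M)` for `M ∈ 𝔐_G(S)` -/
theorem frakM_sylow_inf_centralizer (S : Sylow p G) {M : Subgroup G} (hSM : (S : Subgroup G) ≤ M)
    (hM : IsInFrakM p M) :
    (S : Subgroup G) ⊓ Subgroup.centralizer ((largestPReducedOf p M : Subgroup G) : Set G) =
      pCoreOf p M := by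
  set Y : Subgroup G := largestPReducedOf p M with hY
  set C : Subgroup G := Subgroup.centralizer ((Y : Subgroup G) : Set G) with hC
  set P : Subgroup G := pCoreOf p M with hP
  have hPC : P ≤ C := pCoreOf_le_centralizer_largestPReducedOf p M
  have hPS : P ≤ (S : Subgroup G) := pCoreOf_le_sylow S hSM
  have hMY : M ≤ Subgroup.normalizer (Y : Set G) := le_normalizer_largestPReducedOf p M
  have hMC : M ≤ Subgroup.normalizer (C : Set G) :=
    hMY.trans (normalizer_le_normalizer_centralizer Y)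
  have hcl : IsPClosed p ↥(M ⊓ C) := hM.2.2.2.2.1
  apply le_antisymm
  · apply le_pCoreOf_of_isPClosed hcl inf_le_left
      ((le_inf Subgroup.le_normalizer hMC).trans (normalizer_inf_le_normalizer_inf M C))
      (S.isPGroup'.to_le inf_le_left)
    exact le_inf (inf_le_left.trans hSM) inf_le_right
  · exact le_inf hPS hPC

/-- `O_p(M)` is a Sylow `p`-subgroup of `C_G(Y_M)`: every `p`-subgroup `R ≥ O_p(M)` meets `C_G(Y_M)`
in `O_p(M)` -/
theorem frakM_pgroup_inf_centralizer (S : Sylow p G) {M : Subgroup G}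
    (hSM : (S : Subgroup G) ≤ M) (hM : IsInFrakM p M) (R : Subgroup G) (hR : IsPGroup p ↥R)
    (hPR : pCoreOf p M ≤ R) :
    R ⊓ Subgroup.centralizer ((largestPReducedOf p M : Subgroup G) : Set G) ≤ pCoreOf p M := by
  set Y : Subgroup G := largestPReducedOf p M with hY
  set C : Subgroup G := Subgroup.centralizer ((Y : Subgroup G) : Set G) with hC
  set P : Subgroup G := pCoreOf p M with hP
  have hPC : P ≤ C := pCoreOf_le_centralizer_largestPReducedOf p M
  have hMc := charp_of_mem_charPSubgroups hM.1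
  obtain ⟨⟨Psyl, hPsyl⟩, _⟩ := Cfsg.Agent.S2821.result S M hSM hMc ((S : Subgroup G) ⊓ C) rfl
  rw [frakM_sylow_inf_centralizer S hSM hM] at hPsyl
  have h1 : IsPGroup p ↥((R ⊓ C).subgroupOf C) := by
    have : IsPGroup p ↥(R ⊓ C) := hR.to_le inf_le_left
    exact this.comap_subtype
  have h2 : (Psyl : Subgroup ↥C) ≤ (R ⊓ C).subgroupOf C := by
    rw [hPsyl]
    intro x hx
    rw [Subgroup.mem_subgroupOf] at hx ⊢
    exact Subgroup.mem_inf.mpr ⟨hPR hx, x.2⟩
  have h3 := Psyl.is_maximal' h1 h2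
  intro x hx
  have hxC : x ∈ C := (Subgroup.mem_inf.mp hx).2
  have h4 : (⟨x, hxC⟩ : ↥C) ∈ (R ⊓ C).subgroupOf C := Subgroup.mem_subgroupOf.mpr hx
  rw [h3, hPsyl, Subgroup.mem_subgroupOf] at h4
  exact h4

/-- `Y_M ≠ 1` -/
theorem frakM_largestPReducedOf_ne_bot (S : Sylow p G) {Q : Subgroup G} (hQ1 : Q ≠ ⊥)
    (hQS : Q ≤ (S : Subgroup G)) {M : Subgroup G} (hSM : (S : Subgroup G) ≤ M)
    (hM : IsInFrakM p M) : largestPReducedOf p M ≠ ⊥ := by
  have hS1 : (S : Subgroup G) ≠ ⊥ := by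
    intro h
    rw [h, le_bot_iff] at hQS
    exact hQ1 hQS
  exact largestPReducedOf_ne_bot S hS1 hSM (charp_of_mem_charPSubgroups hM.1)

/-- `M† ≤ N_G(Y_M)` -/
theorem frakM_dagger_le_normalizer (p : ℕ) (M : Subgroup G) :
    M ⊔ Subgroup.centralizer ((largestPReducedOf p M : Subgroup G) : Set G) ≤
      Subgroup.normalizer ((largestPReducedOf p M : Subgroup G) : Set G) :=
  sup_le (le_normalizer_largestPReducedOf p M) (Subgroup.centralizer_le_normalizer _)

/-- key step: if `Y_M` is asymmetric and `O_p(M)`, `O_p(M)^g` normalise each other, they are equal -/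
theorem frakM_asym_key (S : Sylow p G) {Q : Subgroup G} (hQp : IsPGroup p ↥Q) (hQ1 : Q ≠ ⊥)
    (hQS : Q ≤ (S : Subgroup G)) (hQ : IsLarge Q) {M : Subgroup G} (hSM : (S : Subgroup G) ≤ M)
    (hM : IsInFrakM p M) (hasym : ¬ IsSymmetricIn (largestPReducedOf p M)) (g : G)
    (hg : AdjP (pCoreOf p M) 1 g) :
    (pCoreOf p M).map (MulAut.conj g).toMonoidHom = pCoreOf p M := by
  set Y : Subgroup G := largestPReducedOf p M with hY
  set C : Subgroup G := Subgroup.centralizer ((Y : Subgroup G) : Set G) with hC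
  set P : Subgroup G := pCoreOf p M with hP
  have hPp : IsPGroup p ↥P := pCoreOf_isPGroup p M
  have hYP : Y ≤ P := Subgroup.map_mono largestPReduced_le_pCore
  have hY1 : Y ≠ ⊥ := frakM_largestPReducedOf_ne_bot S hQ1 hQS hSM hM
  have hP1 : P ≠ ⊥ := fun h => hY1 (le_bot_iff.mp (h ▸ hYP))
  have hMP : M ≤ Subgroup.normalizer (P : Set G) := le_normalizer_pCoreOf p M
  have hdag := frakM_dagger_le_normalizer (G := G) p M
  have hNPY : Subgroup.normalizer (P : Set G) ≤ Subgroup.normalizer (Y : Set G) :=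
    (frakM_normalizer_le S hQp hQ1 hQ hSM hM hPp hP1 hMP).trans hdag
  have hsyl := frakM_pgroup_inf_centralizer S hSM hM
  obtain ⟨N, hYN, hNP, hNinv⟩ := exists_asym_invariant hPp hYP hNPY hsyl hasym
  have hN1 : N ≠ ⊥ := fun h => hY1 (le_bot_iff.mp (h ▸ hYN))
  have hNp : IsPGroup p ↥N := hPp.to_le hNP
  have hMN : M ≤ Subgroup.normalizer (N : Set G) := by
    intro m hm
    apply hNinv m
    have hm' : P.map (MulAut.conj m).toMonoidHom = P := map_conj_eq_iff_mem_normalizer.mpr (hMP hm)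
    constructor
    · rw [hm', map_conj_one]; exact Subgroup.le_normalizer
    · rw [hm', map_conj_one]; exact Subgroup.le_normalizer
  have hgY : g ∈ Subgroup.normalizer (Y : Set G) :=
    hdag (frakM_normalizer_le S hQp hQ1 hQ hSM hM hNp hN1 hMN (hNinv g hg))
  have hYg : Y.map (MulAut.conj g).toMonoidHom = Y := map_conj_eq_iff_mem_normalizer.mpr hgY
  have hg1 : P ≤ Subgroup.normalizer ((P.map (MulAut.conj g).toMonoidHom : Subgroup G) : Set G) := by
    have := hg.1
    rwa [map_conj_one] at this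
  have hR : IsPGroup p ↥(P ⊔ P.map (MulAut.conj g).toMonoidHom) :=
    hPp.to_sup_of_normal_right' (isPGroup_map_conj hPp g) hg1
  have h1 := centralizer_conj_le_of_sylow hsyl g _ hR le_sup_right
  rw [hYg] at h1
  have h2 : P ≤ P.map (MulAut.conj g).toMonoidHom :=
    (le_inf le_sup_left (pCoreOf_le_centralizer_largestPReducedOf p M)).trans h1
  exact (Subgroup.eq_of_le_of_card_ge h2 (card_map_conj P g).le).symm

/-- if `Y_M` is asymmetric then `O_p(M)` is a weakly closed subgroup of `G` -/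
theorem frakM_asym_wc (S : Sylow p G) {Q : Subgroup G} (hQp : IsPGroup p ↥Q) (hQ1 : Q ≠ ⊥)
    (hQS : Q ≤ (S : Subgroup G)) (hQ : IsLarge Q) {M : Subgroup G} (hSM : (S : Subgroup G) ≤ M)
    (hM : IsInFrakM p M) (hasym : ¬ IsSymmetricIn (largestPReducedOf p M)) :
    IsWeaklyClosedSubgroup p (pCoreOf p M) := by
  apply wc_of_commutator_criterion (pCoreOf_isPGroup p M)
  intro g h
  apply frakM_asym_key S hQp hQ1 hQS hQ hSM hM hasym g
  constructor
  · rw [map_conj_one]
    exact Subgroup.le_normalizer_iff_commutator_le_right.mpr (h.trans inf_le_right)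
  · rw [map_conj_one]
    exact Subgroup.le_normalizer_iff_commutator_le_left.mpr (h.trans inf_le_left)

omit [Finite G] in
/-- elements of `A ⊔ C` are products when `A` normalises `C` -/
theorem exists_mul_of_mem_sup_normalizer {A C : Subgroup G}
    (hAC : A ≤ Subgroup.normalizer (C : Set G)) {x : G} (hx : x ∈ A ⊔ C) :
    ∃ a ∈ A, ∃ c ∈ C, x = a * c := by
  rw [Subgroup.sup_eq_closure] at hx
  induction hx using Subgroup.closure_induction with
  | mem x hx =>
    rcases hx with hx | hx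
    · exact ⟨x, hx, 1, C.one_mem, by simp⟩
    · exact ⟨1, A.one_mem, x, hx, by simp⟩
  | one => exact ⟨1, A.one_mem, 1, C.one_mem, by simp⟩
  | mul x y _ _ hx hy =>
    obtain ⟨a, ha, c, hc, rfl⟩ := hx
    obtain ⟨a', ha', c', hc', rfl⟩ := hy
    refine ⟨a * a', A.mul_mem ha ha', (a'⁻¹ * c * a') * c', C.mul_mem ?_ hc', by group⟩
    have h1 := (Subgroup.mem_normalizer_iff.mp (hAC (A.inv_mem ha')) c).mp hc
    simpa using h1
  | inv x _ hx =>
    obtain ⟨a, ha, c, hc, rfl⟩ := hx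
    refine ⟨a⁻¹, A.inv_mem ha, a * c⁻¹ * a⁻¹, ?_, by group⟩
    exact (Subgroup.mem_normalizer_iff.mp (hAC ha) c⁻¹).mp (C.inv_mem hc)

end Cfsg.Agent.Lib.Helper47
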