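import Cfsg.Agent.Lib.Helper47.PIrr

set_option autoImplicit false

namespace Cfsg.Agent.Lib.Helper47

open Cfsg
open scoped commutatorElement Pointwise

variable {G : Type*} [Group G]

theorem map_conj_map_conj (Q : Subgroup G) (g h : G) :
    (Q.map (MulAut.conj g).toMonoidHom).map (MulAut.conj h).toMonoidHom =
      Q.map (MulAut.conj (h * g)).toMonoidHom := by
  rw [Subgroup.map_map]
  congr 1
  ext x
  simp [MulAut.conj_apply, mul_assoc]

theorem map_conj_one (Q : Subgroup G) : Q.map (MulAut.conj (1 : G)).toMonoidHom = Q := by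
  ext x
  constructor
  · rintro ⟨y, hy, rfl⟩
    simpa using hy
  · intro hx
    exact ⟨x, hx, by simp⟩

theorem mem_map_conj {Q : Subgroup G} {x g : G} :
    x ∈ Q.map (MulAut.conj g).toMonoidHom ↔ g⁻¹ * x * g ∈ Q := by
  constructor
  · rintro ⟨y, hy, rfl⟩
    have : g⁻¹ * (MulAut.conj g).toMonoidHom y * g = y := by
      simp [MulAut.conj_apply, mul_assoc]
    rw [this]; exact hy
  · intro h
    exact ⟨g⁻¹ * x * g, h, by simp [MulAut.conj_apply, mul_assoc]⟩

theorem conj_mem_map_conj {Q : Subgroup G} {x : G} (g : G) (hx : x ∈ Q) :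
    g * x * g⁻¹ ∈ Q.map (MulAut.conj g).toMonoidHom :=
  ⟨x, hx, by simp [MulAut.conj_apply]⟩

theorem map_conj_inv_map_conj (Q : Subgroup G) (g : G) :
    (Q.map (MulAut.conj g).toMonoidHom).map (MulAut.conj g⁻¹).toMonoidHom = Q := by
  rw [map_conj_map_conj, inv_mul_cancel, map_conj_one]

theorem map_conj_map_conj_inv (Q : Subgroup G) (g : G) :
    (Q.map (MulAut.conj g⁻¹).toMonoidHom).map (MulAut.conj g).toMonoidHom = Q := by
  rw [map_conj_map_conj, mul_inv_cancel, map_conj_one]

theorem map_conj_le_iff {Q R : Subgroup G} {g : G} :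
    Q.map (MulAut.conj g).toMonoidHom ≤ R ↔ Q ≤ R.map (MulAut.conj g⁻¹).toMonoidHom := by
  constructor
  · intro h
    have := Subgroup.map_mono (f := (MulAut.conj g⁻¹).toMonoidHom) h
    rwa [map_conj_inv_map_conj] at this
  · intro h
    have := Subgroup.map_mono (f := (MulAut.conj g).toMonoidHom) h
    rwa [map_conj_map_conj_inv] at this

theorem map_conj_eq_iff_mem_normalizer {Q : Subgroup G} {g : G} :
    Q.map (MulAut.conj g).toMonoidHom = Q ↔ g ∈ Subgroup.normalizer (Q : Set G) :=
  Subgroup.mem_normalizer_iff_map_conj_eq.symm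

theorem isPGroup_map_conj {p : ℕ} {Q : Subgroup G} (hQ : IsPGroup p ↥Q) (g : G) :
    IsPGroup p ↥(Q.map (MulAut.conj g).toMonoidHom) := hQ.map _

theorem normalizer_map_conj (Q : Subgroup G) (g : G) :
    Subgroup.normalizer ((Q.map (MulAut.conj g).toMonoidHom : Subgroup G) : Set G) =
      (Subgroup.normalizer (Q : Set G)).map (MulAut.conj g).toMonoidHom :=
  (Subgroup.map_equiv_normalizer_eq Q (MulAut.conj g)).symm

theorem centralizer_map_conj (Q : Subgroup G) (g : G) :
    Subgroup.centralizer ((Q.map (MulAut.conj g).toMonoidHom : Subgroup G) : Set G) =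
      (Subgroup.centralizer (Q : Set G)).map (MulAut.conj g).toMonoidHom := by
  ext x
  rw [mem_map_conj, Subgroup.mem_centralizer_iff, Subgroup.mem_centralizer_iff]
  constructor
  · intro h y hy
    have h1 := h (g * y * g⁻¹) (conj_mem_map_conj g hy)
    calc y * (g⁻¹ * x * g) = g⁻¹ * ((g * y * g⁻¹) * x) * g := by group
      _ = g⁻¹ * (x * (g * y * g⁻¹)) * g := by rw [h1]
      _ = g⁻¹ * x * g * y := by group
  · intro h y hy
    have h1 := h (g⁻¹ * y * g) (mem_map_conj.mp hy)
    calc y * x = g * ((g⁻¹ * y * g) * (g⁻¹ * x * g)) * g⁻¹ := by group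
      _ = g * ((g⁻¹ * x * g) * (g⁻¹ * y * g)) * g⁻¹ := by rw [h1]
      _ = x * y := by group

section Sylow

variable [Finite G] {p : ℕ} [Fact p.Prime]

theorem exists_conj_le_sylow {R : Subgroup G} (hR : IsPGroup p ↥R) (T : Sylow p G) :
    ∃ h : G, R.map (MulAut.conj h).toMonoidHom ≤ (T : Subgroup G) := by
  obtain ⟨T', hT'⟩ := hR.exists_le_sylow
  obtain ⟨g, hg⟩ := MulAction.exists_smul_eq G T' T
  refine ⟨g, ?_⟩
  have h1 : ((g • T' : Sylow p G) : Subgroup G) =
      (T' : Subgroup G).map (MulAut.conj g).toMonoidHom := rfl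
  rw [← hg, h1]
  exact Subgroup.map_mono hT'

/-- two Sylow subgroups of `G` inside `N` are conjugate under `N` -/
theorem sylow_conj_in_subgroup (T₁ T₂ : Sylow p G) (N : Subgroup G)
    (h1 : (T₁ : Subgroup G) ≤ N) (h2 : (T₂ : Subgroup G) ≤ N) :
    ∃ n ∈ N, (T₂ : Subgroup G).map (MulAut.conj n).toMonoidHom = (T₁ : Subgroup G) := by
  obtain ⟨n, hn⟩ := MulAction.exists_smul_eq ↥N (T₂.subtype h2) (T₁.subtype h1)
  rw [Sylow.smul_subtype] at hn
  have h3 : n • T₂ = T₁ := Sylow.subtype_injective hn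
  refine ⟨(n : G), n.2, ?_⟩
  have h4 : ((n • T₂ : Sylow p G) : Subgroup G) =
      (T₂ : Subgroup G).map (MulAut.conj (n : G)).toMonoidHom := rfl
  rw [← h4, h3]

/-- a weakly closed subgroup of a Sylow subgroup is the unique conjugate of itself in any
`p`-subgroup containing it -/
theorem wc_unique_in_pgroup {Q : Subgroup G} {T : Sylow p G}
    (hwc : IsWeaklyClosed Q (T : Subgroup G)) {R : Subgroup G} (hR : IsPGroup p ↥R) (hQR : Q ≤ R)
    {g : G} (hg : Q.map (MulAut.conj g).toMonoidHom ≤ R) :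
    Q.map (MulAut.conj g).toMonoidHom = Q := by
  obtain ⟨h, hh⟩ := exists_conj_le_sylow hR T
  have e1 : Q.map (MulAut.conj h).toMonoidHom = Q :=
    hwc.2 h ((Subgroup.map_mono hQR).trans hh)
  have e2 : Q.map (MulAut.conj (h * g)).toMonoidHom = Q := by
    apply hwc.2 (h * g)
    rw [← map_conj_map_conj]
    exact (Subgroup.map_mono hg).trans hh
  rw [← map_conj_map_conj] at e2
  have e3 := congrArg (fun S => S.map (MulAut.conj h⁻¹).toMonoidHom) e2
  simp only [map_conj_inv_map_conj] at e3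
  rw [e3, ← e1, map_conj_inv_map_conj, e1]

theorem wc_normalizer_le {Q : Subgroup G} {T : Sylow p G}
    (hwc : IsWeaklyClosed Q (T : Subgroup G)) {R : Subgroup G} (hR : IsPGroup p ↥R) (hQR : Q ≤ R) :
    Subgroup.normalizer (R : Set G) ≤ Subgroup.normalizer (Q : Set G) := by
  intro n hn
  rw [← map_conj_eq_iff_mem_normalizer] at hn ⊢
  apply wc_unique_in_pgroup hwc hR hQR
  rw [← hn]
  exact Subgroup.map_mono hQR


theorem card_map_conj (Q : Subgroup G) (g : G) :
    Nat.card ↥(Q.map (MulAut.conj g).toMonoidHom) = Nat.card ↥Q :=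
  Subgroup.card_map_of_injective (MulAut.conj g).injective

/-- criterion (B): if `N(R) ≤ N(Q)` for all `p`-subgroups `R ≥ Q`, then `Q` is weakly closed -/
theorem wc_of_normalizer_le {Q : Subgroup G} (hQp : IsPGroup p ↥Q)
    (hB : ∀ R : Subgroup G, IsPGroup p ↥R → Q ≤ R →
      Subgroup.normalizer (R : Set G) ≤ Subgroup.normalizer (Q : Set G)) :
    IsWeaklyClosedSubgroup p Q := by
  obtain ⟨T, hQT⟩ := hQp.exists_le_sylow
  refine ⟨T, hQT, fun g hg => ?_⟩
  set Qg := Q.map (MulAut.conj g).toMonoidHom with hQg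
  have hB' : ∀ R : Subgroup G, IsPGroup p ↥R → Qg ≤ R →
      Subgroup.normalizer (R : Set G) ≤ Subgroup.normalizer (Qg : Set G) := by
    intro R hR hQR
    have h1 : Q ≤ R.map (MulAut.conj g⁻¹).toMonoidHom := map_conj_le_iff.mp hQR
    have h2 := hB _ (isPGroup_map_conj hR g⁻¹) h1
    have h3 := Subgroup.map_mono (f := (MulAut.conj g).toMonoidHom) h2
    rw [← normalizer_map_conj, ← normalizer_map_conj, map_conj_map_conj_inv] at h3
    exact h3
  have hTQ : (T : Subgroup G) ≤ Subgroup.normalizer (Q : Set G) :=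
    Subgroup.le_normalizer.trans (hB T T.isPGroup' hQT)
  have hTQg : (T : Subgroup G) ≤ Subgroup.normalizer (Qg : Set G) :=
    Subgroup.le_normalizer.trans (hB' T T.isPGroup' hg)
  have hTgQg : ((g • T : Sylow p G) : Subgroup G) ≤ Subgroup.normalizer (Qg : Set G) := by
    have h1 : ((g • T : Sylow p G) : Subgroup G) =
        (T : Subgroup G).map (MulAut.conj g).toMonoidHom := rfl
    rw [h1, hQg, normalizer_map_conj]
    exact Subgroup.map_mono hTQ
  obtain ⟨n, hn, hnT⟩ := sylow_conj_in_subgroup T (g • T) _ hTQg hTgQg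
  have h1 : ((g • T : Sylow p G) : Subgroup G) =
      (T : Subgroup G).map (MulAut.conj g).toMonoidHom := rfl
  rw [h1, map_conj_map_conj] at hnT
  have h2 : n * g ∈ Subgroup.normalizer (Q : Set G) :=
    hB T T.isPGroup' hQT (map_conj_eq_iff_mem_normalizer.mp hnT)
  have h3 : Q.map (MulAut.conj (n * g)).toMonoidHom = Q := map_conj_eq_iff_mem_normalizer.mpr h2
  rw [← map_conj_map_conj] at h3
  have h4 : Qg.map (MulAut.conj n).toMonoidHom = Qg := map_conj_eq_iff_mem_normalizer.mpr hn
  rw [← h4]; exact h3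

/-- key step for criterion (A): distinct conjugates in a common `p`-subgroup give a pair of
conjugates normalizing each other -/
theorem conj_eq_of_le_pgroup {Q : Subgroup G}
    (hA : ∀ g : G, ⁅Q, Q.map (MulAut.conj g).toMonoidHom⁆ ≤ Q ⊓ Q.map (MulAut.conj g).toMonoidHom →
      Q.map (MulAut.conj g).toMonoidHom = Q) :
    ∀ (n : ℕ) (R : Subgroup G), Nat.card ↥R = n → IsPGroup p ↥R → ∀ a b : G,
      Q.map (MulAut.conj a).toMonoidHom ≤ R → Q.map (MulAut.conj b).toMonoidHom ≤ R →
      Q.map (MulAut.conj a).toMonoidHom = Q.map (MulAut.conj b).toMonoidHom := by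
  intro n
  induction n using Nat.strong_induction_on with
  | _ n ih =>
    intro R hn hR a b ha hb
    set A := Q.map (MulAut.conj a).toMonoidHom with hAdef
    set B := Q.map (MulAut.conj b).toMonoidHom with hBdef
    have hcardAB : Nat.card ↥A = Nat.card ↥B := by
      rw [hAdef, hBdef, card_map_conj, card_map_conj]
    -- a conjugate `C ≤ R`, `C ≠ R` is normal in `R`
    have hnormal : ∀ c : G, Q.map (MulAut.conj c).toMonoidHom ≤ R →
        Q.map (MulAut.conj c).toMonoidHom ≠ R →
        R ≤ Subgroup.normalizer ((Q.map (MulAut.conj c).toMonoidHom : Subgroup G) : Set G) := by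
      intro c hc hcR
      set C := Q.map (MulAut.conj c).toMonoidHom with hCdef
      obtain ⟨M, hCM, hMmax⟩ := Finite.exists_le_maximal
        (p := fun M : Subgroup G => M ≤ R ∧ C ≤ M ∧ M ≠ R) (a := C) ⟨hc, le_rfl, hcR⟩
      obtain ⟨⟨hMR, _, hMne⟩, hMmax'⟩ := hMmax
      -- M is normal in R
      have hMn : R ≤ Subgroup.normalizer (M : Set G) := by
        haveI : Group.IsNilpotent ↥R := hR.isNilpotent
        have hNC : NormalizerCondition ↥R := Group.normalizerCondition_of_isNilpotent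
        have hlt : M.subgroupOf R < ⊤ := by
          rw [lt_top_iff_ne_top]
          intro h
          rw [Subgroup.subgroupOf_eq_top] at h
          exact hMne (le_antisymm hMR h)
        have h3 := hNC _ hlt
        rw [← Subgroup.subgroupOf_normalizer_eq hMR] at h3
        obtain ⟨x, hx1, hx2⟩ := SetLike.exists_of_lt h3
        rw [Subgroup.mem_subgroupOf] at hx1 hx2
        set M' := Subgroup.normalizer (M : Set G) ⊓ R with hM'
        by_contra hcon
        have hM'ne : M' ≠ R := by
          intro h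
          apply hcon
          rw [← h]; exact inf_le_left
        have hMM' : M ≤ M' := le_inf Subgroup.le_normalizer hMR
        have := hMmax' (y := M') ⟨inf_le_right, hCM.trans hMM', hM'ne⟩ hMM'
        exact hx2 (this ⟨hx1, x.2⟩)
      have hMcard : Nat.card ↥M < n := by
        rw [← hn]
        exact lt_of_le_of_ne (Subgroup.card_le_of_le hMR)
          (fun h => hMne (Subgroup.eq_of_le_of_card_ge hMR h.ge))
      intro x hx
      rw [← map_conj_eq_iff_mem_normalizer]
      have hMx : M.map (MulAut.conj x).toMonoidHom = M :=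
        map_conj_eq_iff_mem_normalizer.mpr (hMn hx)
      have h1 : C.map (MulAut.conj x).toMonoidHom ≤ M := by
        rw [← hMx]; exact Subgroup.map_mono hCM
      rw [hCdef, map_conj_map_conj] at h1 ⊢
      exact ih _ hMcard M rfl (hR.to_le hMR) (x * c) c h1 hCM
    by_cases hAR : A = R
    · have : B ≤ A := hAR ▸ hb
      exact (Subgroup.eq_of_le_of_card_ge this hcardAB.le).symm
    by_cases hBR : B = R
    · have : A ≤ B := hBR ▸ ha
      exact Subgroup.eq_of_le_of_card_ge this hcardAB.ge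
    have hAn := hnormal a ha hAR
    have hBn := hnormal b hb hBR
    have h1 : ⁅A, B⁆ ≤ A := Subgroup.le_normalizer_iff_commutator_le_left.mp (hb.trans hAn)
    have h2 : ⁅A, B⁆ ≤ B := Subgroup.le_normalizer_iff_commutator_le_right.mp (ha.trans hBn)
    have h3 : ⁅A, B⁆ ≤ A ⊓ B := le_inf h1 h2
    have h4 := Subgroup.map_mono (f := (MulAut.conj a⁻¹).toMonoidHom) h3
    rw [Subgroup.map_commutator] at h4
    have h5 : (A ⊓ B).map (MulAut.conj a⁻¹).toMonoidHom ≤
        A.map (MulAut.conj a⁻¹).toMonoidHom ⊓ B.map (MulAut.conj a⁻¹).toMonoidHom :=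
      Subgroup.map_inf_le _ _ _
    have h6 := h4.trans h5
    rw [hAdef, hBdef, map_conj_inv_map_conj, map_conj_map_conj] at h6
    have h7 := hA (a⁻¹ * b) h6
    have h8 := congrArg (fun S => S.map (MulAut.conj a).toMonoidHom) h7
    simp only [map_conj_map_conj, mul_inv_cancel_left] at h8
    exact h8.symm

/-- criterion (A) -/
theorem wc_of_commutator_criterion {Q : Subgroup G} (hQp : IsPGroup p ↥Q)
    (hA : ∀ g : G, ⁅Q, Q.map (MulAut.conj g).toMonoidHom⁆ ≤ Q ⊓ Q.map (MulAut.conj g).toMonoidHom →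
      Q.map (MulAut.conj g).toMonoidHom = Q) :
    IsWeaklyClosedSubgroup p Q := by
  obtain ⟨T, hQT⟩ := hQp.exists_le_sylow
  refine ⟨T, hQT, fun g hg => ?_⟩
  have := conj_eq_of_le_pgroup (p := p) hA _ (T : Subgroup G) rfl T.isPGroup' g 1 hg
    (by rw [map_conj_one]; exact hQT)
  rw [this, map_conj_one]

theorem commutator_criterion_of_wc {Q : Subgroup G} (hQp : IsPGroup p ↥Q)
    (hwc : IsWeaklyClosedSubgroup p Q) (g : G)
    (h : ⁅Q, Q.map (MulAut.conj g).toMonoidHom⁆ ≤ Q ⊓ Q.map (MulAut.conj g).toMonoidHom) :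
    Q.map (MulAut.conj g).toMonoidHom = Q := by
  obtain ⟨T, hT⟩ := hwc
  have h1 : Q ≤ Subgroup.normalizer ((Q.map (MulAut.conj g).toMonoidHom : Subgroup G) : Set G) :=
    Subgroup.le_normalizer_iff_commutator_le_right.mpr (h.trans inf_le_right)
  have hR : IsPGroup p ↥(Q ⊔ Q.map (MulAut.conj g).toMonoidHom) :=
    hQp.to_sup_of_normal_right' (isPGroup_map_conj hQp g) h1
  exact wc_unique_in_pgroup hT hR le_sup_left le_sup_right

end Sylow

end Cfsg.Agent.Lib.Helper47
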