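import Cfsg.Agent.Lib.Helper47.Large3
import Cfsg.Agent.Lib.Helper46.PReduced

set_option autoImplicit false

namespace Cfsg.Agent.Lib.Helper47

open Cfsg
open scoped commutatorElement Pointwise

variable {G : Type*} [Group G]

theorem largestPReduced_isPReducedNormal (p : ℕ) (L : Type*) [Group L] :
    IsPReducedNormal p (largestPReduced p L) :=
  Cfsg.Agent.Lib.Helper46.pReduced_sSup _ (fun _ hV => hV)

instance largestPReduced_normal (p : ℕ) (L : Type*) [Group L] :
    (largestPReduced p L).Normal :=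
  (largestPReduced_isPReducedNormal p L).1

/-- `M` normalizes `Y_M` -/
theorem le_normalizer_largestPReducedOf (p : ℕ) (M : Subgroup G) :
    M ≤ Subgroup.normalizer ((largestPReducedOf p M : Subgroup G) : Set G) :=
  le_normalizer_map_subtype_of_normal M (largestPReduced p ↥M)

theorem largestPReducedOf_le (p : ℕ) (M : Subgroup G) : largestPReducedOf p M ≤ M :=
  Subgroup.map_subtype_le _

/-- `O_p(M)` centralizes `Y_M` -/
theorem pCoreOf_le_centralizer_largestPReducedOf (p : ℕ) [Fact p.Prime] [Finite G]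
    (M : Subgroup G) :
    pCoreOf p M ≤ Subgroup.centralizer ((largestPReducedOf p M : Subgroup G) : Set G) := by
  have h1 : pCore p ↥M ≤ Subgroup.centralizer ((largestPReduced p ↥M : Subgroup ↥M) : Set ↥M) :=
    Cfsg.Agent.Lib.Helper46.normal_pGroup_le_centralizer (largestPReduced_isPReducedNormal p ↥M)
      (pCore p ↥M) inferInstance (pCore_isPGroup p ↥M)
  rintro x ⟨x', hx', rfl⟩
  rw [Subgroup.mem_centralizer_iff]
  rintro y ⟨y', hy', rfl⟩
  have := (Subgroup.mem_centralizer_iff.mp (h1 hx')) y' hy'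
  have h2 := congrArg (fun z : ↥M => (z : G)) this
  simpa using h2

/-- `O_p(M) ≤ S` for a Sylow subgroup `S ≤ M` -/
theorem pCoreOf_le_sylow {p : ℕ} [Fact p.Prime] [Finite G] (S : Sylow p G) {M : Subgroup G}
    (hSM : (S : Subgroup G) ≤ M) : pCoreOf p M ≤ (S : Subgroup G) := by
  have h1 : pCore p ↥M ≤ ((S.subtype hSM : Sylow p ↥M) : Subgroup ↥M) := pCore_le_sylow _
  rw [Sylow.coe_subtype] at h1
  have h2 := Subgroup.map_mono (f := M.subtype) h1
  rw [Subgroup.map_subgroupOf_eq_of_le hSM] at h2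
  exact h2

/-- if `X` is `p`-closed and normalized by `M ≥ X`, then every `p`-subgroup of `X` lies in `O_p(M)` -/
theorem le_pCoreOf_of_isPClosed {p : ℕ} [Fact p.Prime] [Finite G] {X M A : Subgroup G}
    (hX : IsPClosed p ↥X) (hXM : X ≤ M) (hMX : M ≤ Subgroup.normalizer (X : Set G))
    (hA : IsPGroup p ↥A) (hAX : A ≤ X) : A ≤ pCoreOf p M := by
  have hA' : IsPGroup p ↥(A.subgroupOf X) := hA.comap_subtype
  obtain ⟨T, hT⟩ := hA'.exists_le_sylow
  have hTn : (T : Subgroup ↥X).Normal := hX T
  have hTc : (T : Subgroup ↥X).Characteristic := Sylow.characteristic_of_normal T hTn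
  have h1 : Subgroup.normalizer (X : Set G) ≤
      Subgroup.normalizer (((T : Subgroup ↥X).map X.subtype : Subgroup G) : Set G) :=
    normalizer_le_normalizer_map_characteristic X (T : Subgroup ↥X)
  have h2 : (T : Subgroup ↥X).map X.subtype ≤ pCoreOf p M :=
    le_pCoreOf ((Subgroup.map_subtype_le _).trans hXM) (hMX.trans h1) (T.isPGroup'.map _)
  exact (le_map_subtype_of_subgroupOf_le hAX hT).trans h2

end Cfsg.Agent.Lib.Helper47
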