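import Cfsg.Agent.Lib.Helper47.Quot
import Cfsg.Agent.Lib.Helper47.FrakM

set_option autoImplicit false

namespace Cfsg.Agent.Lib.Helper47

open Cfsg
open scoped commutatorElement Pointwise

variable {G : Type*} [Group G]

/-- `p`-closedness is invariant under isomorphism -/
theorem isPClosed_of_mulEquiv {p : ℕ} [Fact p.Prime] {A B : Type*} [Group A] [Group B]
    (e : A ≃* B) (h : IsPClosed p A) : IsPClosed p B := by
  intro P
  have hinj : Function.Injective e.toMonoidHom := e.injective
  have hsurj : Function.Surjective e.toMonoidHom := e.surjective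
  have hr : (P : Subgroup B) ≤ e.toMonoidHom.range := by
    rw [MonoidHom.range_eq_top.mpr hsurj]; exact le_top
  have h1 : ((P.comapOfInjective e.toMonoidHom hinj hr : Sylow p A) : Subgroup A).Normal :=
    h _
  have h1' : ((P : Subgroup B).comap e.toMonoidHom).Normal := h1
  have h2 := Subgroup.Normal.map h1' e.toMonoidHom hsurj
  rwa [Subgroup.map_comap_eq_self_of_surjective hsurj] at h2

/-- `p`-closedness of `C.subgroupOf H` and of `H ⊓ C` -/
theorem isPClosed_inf_of_subgroupOf {p : ℕ} [Fact p.Prime] {H C : Subgroup G}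
    (h : IsPClosed p ↥(C.subgroupOf H)) : IsPClosed p ↥(H ⊓ C) := by
  have e1 : C.subgroupOf H = (H ⊓ C).subgroupOf H := by
    rw [Subgroup.inf_subgroupOf_left]
  rw [e1] at h
  exact isPClosed_of_mulEquiv (Subgroup.subgroupOfEquivOfLe (inf_le_left : H ⊓ C ≤ H)) h

/-- a `p`-subgroup of a `p`-closed normal subgroup lies in `O_p` -/
theorem le_pCore_of_isPClosed [Finite G] {p : ℕ} [Fact p.Prime] {X A : Subgroup G} [hXn : X.Normal]
    (hX : IsPClosed p ↥X) (hA : IsPGroup p ↥A) (hAX : A ≤ X) : A ≤ pCore p G := by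
  have hA' : IsPGroup p ↥(A.subgroupOf X) := hA.comap_subtype
  obtain ⟨T, hT⟩ := hA'.exists_le_sylow
  have hTn : (T : Subgroup ↥X).Normal := hX T
  have hTc : (T : Subgroup ↥X).Characteristic := Sylow.characteristic_of_normal T hTn
  have h1 : ((T : Subgroup ↥X).map X.subtype).Normal := ConjAct.normal_of_characteristic_of_normal
  have h2 : (T : Subgroup ↥X).map X.subtype ≤ pCore p G := le_pCore h1 (T.isPGroup'.map _)
  exact (le_map_subtype_of_subgroupOf_le hAX hT).trans h2

/-- if `d ^ m ∈ C` and `d ^ (p^k) ∈ C` with `m` prime to `p`, then `d ∈ C` -/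
theorem mem_of_pow_mem_of_coprime {p : ℕ} [Fact p.Prime] {C : Subgroup G} [C.Normal] {d : G}
    {m k : ℕ} (hm : Nat.Coprime m p) (h1 : d ^ m ∈ C) (h2 : d ^ (p ^ k) ∈ C) : d ∈ C := by
  have e1 : (QuotientGroup.mk d : G ⧸ C) ^ m = 1 := by
    rw [← QuotientGroup.mk_pow]; exact (QuotientGroup.eq_one_iff _).mpr h1
  have e2 : (QuotientGroup.mk d : G ⧸ C) ^ (p ^ k) = 1 := by
    rw [← QuotientGroup.mk_pow]; exact (QuotientGroup.eq_one_iff _).mpr h2
  exact (QuotientGroup.eq_one_iff _).mp (eq_one_of_pow_coprime hm e1 e2)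

end Cfsg.Agent.Lib.Helper47
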