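import Cfsg.Agent.Lib.Helper47.Asym5
import Cfsg.Agent.Lib.Helper47.PClosed

set_option autoImplicit false

namespace Cfsg.Agent.Lib.Helper47

open Cfsg
open scoped commutatorElement Pointwise

variable {G : Type*} [Group G]

/-- the elements of `H` centralising `N` modulo `D` (`D` normalised by `H`) -/
def centMod (H N D : Subgroup G) (hHD : H ≤ Subgroup.normalizer (D : Set G)) : Subgroup G where
  carrier := {x | x ∈ H ∧ ∀ n ∈ N, ⁅n, x⁆ ∈ D}
  one_mem' := ⟨H.one_mem, fun n _ => by simp [D.one_mem]⟩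
  mul_mem' := by
    rintro x y ⟨hx, hx'⟩ ⟨hy, hy'⟩
    refine ⟨H.mul_mem hx hy, fun n hn => ?_⟩
    rw [commutatorElement_mul_right_eq_mul_conj]
    have h1 : x * ⁅n, y⁆ * x⁻¹ ∈ D := (Subgroup.mem_normalizer_iff.mp (hHD hx) _).mp (hy' n hn)
    have h2 : ⁅n, x⁆ * x * ⁅n, y⁆ * x⁻¹ = ⁅n, x⁆ * (x * ⁅n, y⁆ * x⁻¹) := by group
    rw [h2]
    exact D.mul_mem (hx' n hn) h1
  inv_mem' := by
    rintro x ⟨hx, hx'⟩
    refine ⟨H.inv_mem hx, fun n hn => ?_⟩
    rw [commutatorElement_inv_right]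
    have h1 : ⁅x, n⁆ ∈ D := by
      rw [← commutatorElement_inv]; exact D.inv_mem (hx' n hn)
    have h2 := (Subgroup.mem_normalizer_iff.mp (hHD (H.inv_mem hx)) _).mp h1
    simpa using h2

theorem mem_centMod {H N D : Subgroup G} {hHD : H ≤ Subgroup.normalizer (D : Set G)} {x : G} :
    x ∈ centMod H N D hHD ↔ x ∈ H ∧ ∀ n ∈ N, ⁅n, x⁆ ∈ D := Iff.rfl

theorem centMod_le {H N D : Subgroup G} (hHD : H ≤ Subgroup.normalizer (D : Set G)) :
    centMod H N D hHD ≤ H := fun _ hx => hx.1

theorem le_normalizer_centMod [Finite G] {H N D : Subgroup G}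
    (hHD : H ≤ Subgroup.normalizer (D : Set G))
    (hHN : H ≤ Subgroup.normalizer (N : Set G)) :
    H ≤ Subgroup.normalizer ((centMod H N D hHD : Subgroup G) : Set G) := by
  intro h hh
  apply mem_normalizer_of_map_conj_le
  rintro _ ⟨x, ⟨hx, hx'⟩, rfl⟩
  refine ⟨H.mul_mem (H.mul_mem hh hx) (H.inv_mem hh), fun n hn => ?_⟩
  have h1 : h⁻¹ * n * h ∈ N := by
    have := (Subgroup.mem_normalizer_iff.mp (hHN (H.inv_mem hh)) n).mp hn
    simpa using this
  have h2 : ⁅n, (MulAut.conj h).toMonoidHom x⁆ = h * ⁅h⁻¹ * n * h, x⁆ * h⁻¹ := by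
    rw [conjugate_commutatorElement]
    simp [MulAut.conj_apply, mul_assoc]
  rw [h2]
  exact (Subgroup.mem_normalizer_iff.mp (hHD hh) _).mp (hx' _ h1)

/-- ambient form of `p`-irreducibility of a subgroup -/
def PIrrAmb (p : ℕ) (X : Subgroup G) : Prop :=
  ¬ IsPClosed p ↥X ∧ ∀ N : Subgroup G, N ≤ X → X ≤ Subgroup.normalizer (N : Set G) →
    ¬ IsPClosed p ↥N → pPrimeClosure p X ≤ N

theorem isPIrreducible_of_pIrrAmb {p : ℕ} [Fact p.Prime] {X : Subgroup G} (h : PIrrAmb p X) :
    IsPIrreducible p ↥X := by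
  refine ⟨h.1, fun N' hN' hcl => ?_⟩
  have h1 : pPrimeClosure p X ≤ N'.map X.subtype := by
    apply h.2 _ (Subgroup.map_subtype_le _) (le_normalizer_map_subtype_of_normal X N')
    intro hc
    apply hcl
    exact isPClosed_of_mulEquiv
      (N'.equivMapOfInjective X.subtype (Subgroup.subtype_injective X)).symm hc
  rw [← pResidual_map_subtype] at h1
  exact (Subgroup.map_le_map_iff_of_injective (Subgroup.subtype_injective X)).mp h1

section Fin

variable [Finite G] {p : ℕ} [Fact p.Prime]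

/-- a Sylow subgroup of `N` inside a `p`-subgroup normalised by `N` is normal in `N` -/
theorem sylow_normal_of_le_normal_pgroup {N E : Subgroup G} (T : Sylow p ↥N) (hE : IsPGroup p ↥E)
    (hNE : N ≤ Subgroup.normalizer (E : Set G))
    (hTE : (T : Subgroup ↥N).map N.subtype ≤ E) : (T : Subgroup ↥N).Normal := by
  have hKp : IsPGroup p ↥((E ⊓ N).subgroupOf N) := (hE.to_le inf_le_left).comap_subtype
  have hTK : (T : Subgroup ↥N) ≤ (E ⊓ N).subgroupOf N := by
    intro x hx
    rw [Subgroup.mem_subgroupOf]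
    exact Subgroup.mem_inf.mpr ⟨hTE ⟨x, hx, rfl⟩, x.2⟩
  have h1 := T.is_maximal' hKp hTK
  have h2 : ((E ⊓ N).subgroupOf N).Normal :=
    (Subgroup.normal_subgroupOf_iff_le_normalizer inf_le_right).mpr
      ((le_inf hNE Subgroup.le_normalizer).trans (normalizer_inf_le_normalizer_inf E N))
  rw [← h1]; exact h2

/-- `N` is `p`-closed if all its `p`-elements lie in a `p`-subgroup normalised by `N` -/
theorem isPClosed_of_forall_pElement_mem {N E : Subgroup G} (hE : IsPGroup p ↥E)
    (hNE : N ≤ Subgroup.normalizer (E : Set G))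
    (h : ∀ t ∈ N, (∃ k : ℕ, t ^ (p ^ k) = 1) → t ∈ E) : IsPClosed p ↥N := by
  intro T
  apply sylow_normal_of_le_normal_pgroup T hE hNE
  rintro _ ⟨x, hx, rfl⟩
  apply h _ x.2
  obtain ⟨k, hk⟩ := T.isPGroup' ⟨x, hx⟩
  refine ⟨k, ?_⟩
  have h1 := congrArg Subtype.val hk
  have h2 := congrArg Subtype.val h1
  simpa using h2

/-- a `p`-element of a `p`-closed normal subgroup of `H` lies in `O_p(H)` -/
theorem mem_pCoreOf_of_isPClosed {N H : Subgroup G} (hNH : N ≤ H)
    (hHN : H ≤ Subgroup.normalizer (N : Set G)) (hcl : IsPClosed p ↥N) {t : G} (ht : t ∈ N)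
    {k : ℕ} (hk : t ^ (p ^ k) = 1) : t ∈ pCoreOf p H := by
  haveI : (N.subgroupOf H).Normal := (Subgroup.normal_subgroupOf_iff_le_normalizer hNH).mpr hHN
  have hcl' : IsPClosed p ↥(N.subgroupOf H) :=
    isPClosed_of_mulEquiv (Subgroup.subgroupOfEquivOfLe hNH).symm hcl
  set t' : ↥H := ⟨t, hNH ht⟩ with ht'
  have hA : IsPGroup p ↥(Subgroup.zpowers t') := by
    rintro ⟨y, hy⟩
    obtain ⟨n, rfl⟩ := Subgroup.mem_zpowers_iff.mp hy
    refine ⟨k, ?_⟩
    apply Subtype.ext
    show (t' ^ n) ^ (p ^ k) = 1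
    rw [← zpow_natCast, ← zpow_mul, mul_comm, zpow_mul, zpow_natCast]
    have : t' ^ (p ^ k) = 1 := by
      apply Subtype.ext
      simpa using hk
    rw [this, one_zpow]
  have hAN : Subgroup.zpowers t' ≤ N.subgroupOf H := by
    rw [Subgroup.zpowers_le]
    exact Subgroup.mem_subgroupOf.mpr ht
  have h1 := le_pCore_of_isPClosed hcl' hA hAN (Subgroup.mem_zpowers t')
  exact ⟨t', h1, rfl⟩

/-- the subgroups in `ℌ` are `p`-irreducible -/
theorem frakH_pIrrAmb {H P Y : Subgroup G} (hPp : IsPGroup p ↥P) (hYP : Y ≤ P) (hPH : P ≤ H)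
    (hPY : P ≤ Subgroup.normalizer (Y : Set G))
    (hnorm : ∀ L : Subgroup G, IsPGroup p ↥L → P ≤ L →
      Subgroup.normalizer (L : Set G) ≤ Subgroup.normalizer (P : Set G))
    (hYH : ¬ Y ≤ pCoreOf p H)
    (hmin : ∀ X : Subgroup G, P ≤ X → X < H → Y ≤ pCoreOf p X) : PIrrAmb p H := by
  obtain ⟨h4, h3, h5, h6⟩ := frakH_structure hPp hYP hPH hPY hnorm hYH hmin
  set R := pPrimeClosure p H with hR
  have hYH' : Y ≤ H := hYP.trans hPH
  constructor
  · intro hcl
    obtain ⟨T₀, hT₀⟩ := exists_sylow_in_ge hPp hPH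
    haveI : (T₀ : Subgroup ↥H).Normal := hcl T₀
    have h1 : (T₀ : Subgroup ↥H).map H.subtype ≤ pCoreOf p H :=
      le_pCoreOf (Subgroup.map_subtype_le _) (le_normalizer_map_subtype_of_normal H _)
        (isPGroup_sylow_map_subtype T₀)
    exact hYH (hYP.trans (hT₀.trans h1))
  · intro N hNH hHN hNcl
    by_cases hNP : N ⊔ P = H
    · have h1 : pPrimeClosure p (P ⊔ N) ≤ N := pPrimeClosure_sup_le P N (hPH.trans hHN) hPp
      rwa [sup_comm, hNP] at h1
    · exfalso
      apply hNcl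
      have hlt : N ⊔ P < H := lt_of_le_of_ne (sup_le hNH hPH) hNP
      have hY1 : Y ≤ pCoreOf p (N ⊔ P) := hmin _ le_sup_right hlt
      set D₄ : Subgroup G := N ⊓ pCoreOf p H with hD₄
      have hHD₄ : H ≤ Subgroup.normalizer (D₄ : Set G) :=
        (le_inf hHN (le_normalizer_pCoreOf p H)).trans (normalizer_inf_le_normalizer_inf _ _)
      have hNY : ⁅N, Y⁆ ≤ D₄ := by
        apply le_inf
        · exact Subgroup.le_normalizer_iff_commutator_le_left.mp (hYH'.trans hHN)
        · have h1 : ⁅N, Y⁆ ≤ pCoreOf p (N ⊔ P) :=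
            (Subgroup.commutator_mono le_rfl hY1).trans
              (Subgroup.le_normalizer_iff_commutator_le_right.mp
                (le_sup_left.trans (le_normalizer_pCoreOf p (N ⊔ P))))
          have h2 : ⁅N, Y⁆ ≤ N :=
            Subgroup.le_normalizer_iff_commutator_le_left.mp (hYH'.trans hHN)
          have h3 : N ⊓ pCoreOf p (N ⊔ P) ≤ pCoreOf p N := by
            apply le_pCoreOf inf_le_left _ ((pCoreOf_isPGroup p (N ⊔ P)).to_le inf_le_right)
            exact (le_inf Subgroup.le_normalizer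
              (le_sup_left.trans (le_normalizer_pCoreOf p (N ⊔ P)))).trans
              (normalizer_inf_le_normalizer_inf _ _)
          exact (le_inf h2 h1).trans (h3.trans (pCoreOf_le_pCoreOf_of_le_normalizer hNH hHN))
      -- `R` centralises `N` modulo `D₄`
      have hYc : Y ≤ centMod H N D₄ hHD₄ := by
        intro y hy
        exact ⟨hYH' hy, fun n hn => hNY (Subgroup.commutator_mem_commutator hn hy)⟩
      have hRc : R ≤ centMod H N D₄ hHD₄ :=
        h5 _ hYc (centMod_le hHD₄) (le_normalizer_centMod hHD₄ hHN)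
      -- now `N` is `p`-closed
      intro T
      have hD₄p : IsPGroup p ↥D₄ := (pCoreOf_isPGroup p H).to_le inf_le_right
      have hD₄T : D₄.subgroupOf N ≤ (T : Subgroup ↥N) := by
        haveI : (D₄.subgroupOf N).Normal :=
          (Subgroup.normal_subgroupOf_iff_le_normalizer inf_le_left).mpr (hNH.trans hHD₄)
        have hD₄sp : IsPGroup p ↥(D₄.subgroupOf N) := hD₄p.comap_subtype
        exact hD₄sp.le_sylow_of_normal T
      rw [← Subgroup.normalizer_eq_top_iff]
      rw [eq_top_iff, ← pResidual_sup_sylow T]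
      apply sup_le _ Subgroup.le_normalizer
      unfold pResidual
      rw [Subgroup.closure_le]
      intro g hg
      have hgo : Nat.Coprime (orderOf g) p := hg
      have hgR : (g : G) ∈ R := by
        apply Subgroup.subset_closure
        refine ⟨hNH g.2, ?_⟩
        show Nat.Coprime (orderOf (g : G)) p
        rw [Subgroup.orderOf_coe]
        exact hgo
      have hgc := (hRc hgR).2
      show g ∈ Subgroup.normalizer ((T : Subgroup ↥N) : Set ↥N)
      apply mem_normalizer_of_map_conj_le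
      rintro _ ⟨x, hx, rfl⟩
      have h1 : (MulAut.conj g).toMonoidHom x = ⁅g, x⁆ * x := by
        simp [MulAut.conj_apply, commutatorElement_def]
      rw [h1]
      apply Subgroup.mul_mem _ _ hx
      apply hD₄T
      rw [Subgroup.mem_subgroupOf]
      have h2 : ((⁅g, x⁆ : ↥N) : G) = ⁅(x : G), (g : G)⁆⁻¹ := by
        rw [commutatorElement_inv]
        simp [commutatorElement_def]
      rw [h2]
      exact D₄.inv_mem (hgc _ x.2)

/-- `p`-irreducibility passes from `H` to `H D`, `D` a `p`-group normalising `H` and normalised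
by `H` -/
theorem pIrrAmb_sup_pgroup {H D : Subgroup G} (hH : PIrrAmb p H) (hD : IsPGroup p ↥D)
    (hHD : H ≤ Subgroup.normalizer (D : Set G)) (hDH : D ≤ Subgroup.normalizer (H : Set G)) :
    PIrrAmb p (H ⊔ D) ∧ pPrimeClosure p (H ⊔ D) = pPrimeClosure p H := by
  have hRX : pPrimeClosure p (H ⊔ D) = pPrimeClosure p H := by
    apply le_antisymm _ (pPrimeClosure_mono p le_sup_left)
    have h1 : pPrimeClosure p (D ⊔ H) ≤ H := pPrimeClosure_sup_le D H hDH hD
    rw [sup_comm] at h1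
    rw [← pPrimeClosure_idem]
    exact pPrimeClosure_mono p h1
  refine ⟨?_, hRX⟩
  set X := H ⊔ D with hX
  have hXH : X ≤ Subgroup.normalizer (H : Set G) := sup_le Subgroup.le_normalizer hDH
  have hXD : X ≤ Subgroup.normalizer (D : Set G) := sup_le hHD Subgroup.le_normalizer
  set DH := pCoreOf p H with hDHdef
  have hXDH : X ≤ Subgroup.normalizer (DH : Set G) :=
    hXH.trans (normalizer_le_normalizer_pCoreOf p H)
  have hEp : IsPGroup p ↥(D ⊔ DH) :=
    hD.to_sup_of_normal_right' (pCoreOf_isPGroup p H) (le_sup_right.trans hXDH)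
  have hXE : X ≤ Subgroup.normalizer ((D ⊔ DH : Subgroup G) : Set G) :=
    (le_inf hXD hXDH).trans (normalizer_inf_le_normalizer_sup D DH)
  constructor
  · intro hcl
    apply hH.1
    apply isPClosed_of_forall_pElement_mem (pCoreOf_isPGroup p X)
      (le_sup_left.trans (le_normalizer_pCoreOf p X))
    rintro t ht ⟨k, hk⟩
    exact mem_pCoreOf_of_isPClosed le_rfl Subgroup.le_normalizer hcl
      ((le_sup_left : H ≤ X) ht) hk
  · intro N hNX hXN hNcl
    set N₁ := (N ⊔ D) ⊓ H with hN₁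
    have hHN₁ : H ≤ Subgroup.normalizer (N₁ : Set G) := by
      have h1 : H ≤ Subgroup.normalizer ((N ⊔ D : Subgroup G) : Set G) :=
        (le_inf ((le_sup_left : H ≤ X).trans hXN) hHD).trans (normalizer_inf_le_normalizer_sup N D)
      exact (le_inf h1 Subgroup.le_normalizer).trans (normalizer_inf_le_normalizer_inf _ _)
    have hN₁cl : ¬ IsPClosed p ↥N₁ := by
      intro hcl₁
      apply hNcl
      apply isPClosed_of_forall_pElement_mem hEp (hNX.trans hXE)
      rintro t htN ⟨k, hk⟩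
      obtain ⟨h, hh, d, hd, rfl⟩ := exists_mul_of_mem_sup_normalizer hHD (hNX htN)
      have hhN₁ : h ∈ N₁ := by
        refine Subgroup.mem_inf.mpr ⟨?_, hh⟩
        have : h = (h * d) * d⁻¹ := by group
        rw [this]
        exact Subgroup.mul_mem _ (Subgroup.mem_sup_left htN)
          (Subgroup.mem_sup_right (D.inv_mem hd))
      obtain ⟨d', hd', hpow⟩ := mul_pow_eq_of_mem_normalizer (hHD hh) hd (p ^ k)
      rw [hk] at hpow
      have h1 : h ^ (p ^ k) = d'⁻¹ := by
        rw [eq_inv_iff_mul_eq_one]; exact hpow.symm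
      obtain ⟨j, hj⟩ := hD ⟨d'⁻¹, D.inv_mem hd'⟩
      have hj' : (d'⁻¹) ^ (p ^ j) = 1 := by
        have := congrArg Subtype.val hj
        simpa using this
      have h2 : h ^ (p ^ (k + j)) = 1 := by
        rw [pow_add, pow_mul, h1, hj']
      have h3 : h ∈ DH := mem_pCoreOf_of_isPClosed inf_le_right hHN₁ hcl₁ hhN₁ h2
      exact Subgroup.mul_mem _ (Subgroup.mem_sup_right h3) (Subgroup.mem_sup_left hd)
    have h1 : pPrimeClosure p H ≤ N ⊔ D := (hH.2 N₁ inf_le_right hHN₁ hN₁cl).trans inf_le_left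
    rw [hRX, ← pPrimeClosure_idem]
    have h2 : pPrimeClosure p (D ⊔ N) ≤ N :=
      pPrimeClosure_sup_le D N ((le_sup_right : D ≤ X).trans hXN) hD
    rw [sup_comm] at h2
    exact (pPrimeClosure_mono p h1).trans h2

end Fin

end Cfsg.Agent.Lib.Helper47
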