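import Cfsg.Prelude.Def_LocalStructure

set_option autoImplicit false

namespace Cfsg.Agent.Lib.Helper47

open Cfsg

variable {G : Type*} [Group G]

theorem pCore_isPGroup (p : ℕ) [Fact p.Prime] (G : Type*) [Group G] [Finite G] :
    IsPGroup p ↥(pCore p G) := by
  unfold pCore
  exact Sylow.sSup_of_normal _ (fun H hH => hH.2) (fun H hH => hH.1)

theorem le_pCore {p : ℕ} {N : Subgroup G} (hn : N.Normal) (h : IsPGroup p ↥N) :
    N ≤ pCore p G :=
  le_sSup ⟨hn, h⟩

theorem pCore_le_sylow {p : ℕ} [Fact p.Prime] [Finite G] (P : Sylow p G) :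
    pCore p G ≤ (P : Subgroup G) :=
  (pCore_isPGroup p G).le_sylow_of_normal P

end Cfsg.Agent.Lib.Helper47
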