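import Cfsg.Statements.S3278
import Cfsg.Agent.S3279
import Cfsg.Agent.S0948
import Cfsg.Agent.S4479
import Cfsg.Agent.Lib.Helper75.KleinCent
import Cfsg.Agent.Lib.Helper74.Osima5
import Cfsg.Agent.Lib.Helper76.RelDeg
import Cfsg.Agent.Lib.Helper79.Basic
import Cfsg.Agent.Lib.Helper5.Order60
import Cfsg.Agent.Lib.Helper32.A5cINV
import Cfsg.Agent.Lib.Helper32.A5cNNC
import Cfsg.Agent.Lib.Helper33.A5cSECT
import Cfsg.Agent.Lib.Helper55.A5cKER
import Cfsg.Agent.Lib.Helper70.A5cPOS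
import Cfsg.Agent.Lib.Helper79.A5cCENT
import Cfsg.Agent.Lib.Helper85.A5cCARD4
import Cfsg.Agent.Lib.Helper97.A5cFORM
import Cfsg.Agent.Lib.Helper97.A5cINV3
import Cfsg.Agent.Lib.Helper53.A5cKSUM
import Cfsg.Agent.Lib.Helper70.A5cNEG

/-!
# Hive A5c (S3278): a simple group with an involution whose centralizer has a normal Klein four
Sylow 2-subgroup is `A5`.  Architect helper47; leaves by helper32 (INV, NNC), helper33 (SECT),
helper55 (KER), helper70 (POS), helper79 (CENT), helper85 (CARD4), helper97 (FORM, INV3),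
helper53 (KSUM; NEG twin), helper70 (NEG imported).  Uses S3279 (helper30), S0948 and S4479 (helper75).
-/

set_option autoImplicit false
set_option linter.unusedVariables false
set_option linter.style.haveILetI false

universe u

namespace Cfsg.Agent.Lib.Helper47.A5c

open Cfsg Subgroup

/-- symmetric version of POS. -/
theorem pos_full (a b d : ℕ) (ha : a % 4 = 1) (hb : b % 4 = 1) (ha1 : a ≠ 1) (hb1 : b ≠ 1)
    (hd : Odd d)
    (h : d * (a + 1) * (b + 1) * (a + b) = 8 * a * b * (a + b + 1)) : False := by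
  rcases le_total a b with hab | hab
  · exact pos_core a b d ha hb ha1 hb1 hab hd h
  · refine pos_core b a d hb ha hb1 ha1 hab hd ?_
    rw [show b + a = a + b from add_comm b a]
    linear_combination h

/-- symmetric version of NEG. -/
theorem neg_full (b c d : ℕ) (hb : b % 4 = 3) (hc : c % 4 = 3)
    (h : (d : ℤ) * (b + c) * (b - 1) * (c - 1) = 8 * (b + c - 1) * b * c) :
    b = 3 ∧ c = 3 ∧ d = 15 := by
  rcases le_total b c with hbc | hbc
  · exact neg_core b c d hb hc hbc h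
  · obtain ⟨h1, h2, h3⟩ := neg_core c b d hc hb hbc (by linear_combination h)
    exact ⟨h2, h1, h3⟩

/-- the arithmetic conclusion. -/
theorem arith_main (x₂ x₃ x₄ d : ℕ) (ε : ℤ) (hε : ε = 1 ∨ ε = -1)
    (h2 : (4 : ℤ) ∣ (x₂ : ℤ) - 1) (h3 : (4 : ℤ) ∣ (x₃ : ℤ) - ε) (h4 : (4 : ℤ) ∣ (x₄ : ℤ) + 1)
    (hrel : (1 : ℤ) + x₂ + ε * x₃ - x₄ = 0) (hx2 : x₂ ≠ 1) (hx3 : ε = 1 → x₃ ≠ 1) (hd : Odd d)
    (hform : (d : ℤ) * (x₂ + 1) * (x₃ + ε) * (x₄ - 1) = 8 * x₂ * x₃ * x₄) :
    ε = -1 ∧ x₃ = 3 ∧ d = 15 := by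
  rcases hε with rfl | rfl
  · exfalso
    have ha : x₂ % 4 = 1 := by omega
    have hb : x₃ % 4 = 1 := by omega
    have h4' : x₄ = x₂ + x₃ + 1 := by omega
    subst h4'
    refine pos_full x₂ x₃ d ha hb hx2 (hx3 rfl) hd ?_
    have : ((d * (x₂ + 1) * (x₃ + 1) * (x₂ + x₃) : ℕ) : ℤ) =
        ((8 * x₂ * x₃ * (x₂ + x₃ + 1) : ℕ) : ℤ) := by
      push_cast
      push_cast at hform
      linear_combination hform
    exact_mod_cast this
  · have hb : x₃ % 4 = 3 := by omega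
    have hc : x₄ % 4 = 3 := by omega
    have h2' : (x₂ : ℤ) = x₃ + x₄ - 1 := by linarith
    obtain ⟨h1, -, h3'⟩ := neg_full x₃ x₄ d hb hc (by
      rw [h2'] at hform
      linear_combination hform)
    exact ⟨rfl, h1, h3'⟩

end Cfsg.Agent.Lib.Helper47.A5c

namespace Cfsg.Agent.Lib.Helper47.A5c

open Cfsg Subgroup

theorem exists_third {G : Type u} [Group G] (P : Subgroup G) (h4 : Nat.card P = 4) (x : G) :
    ∃ y ∈ P, y ≠ 1 ∧ y ≠ x := by
  classical
  haveI : Finite P := Nat.finite_of_card_ne_zero (by rw [h4]; norm_num)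
  haveI : Fintype P := Fintype.ofFinite P
  by_contra hcon
  push Not at hcon
  have hsub : (Finset.univ : Finset P) ⊆ (Finset.univ : Finset P).filter
      (fun y : P => (y : G) = 1 ∨ (y : G) = x) := by
    intro y _
    rw [Finset.mem_filter]
    refine ⟨Finset.mem_univ _, ?_⟩
    by_cases h1 : (y : G) = 1
    · exact Or.inl h1
    · exact Or.inr (hcon y y.2 h1)
  have hc : Fintype.card P = 4 := by rw [← Nat.card_eq_fintype_card, h4]
  have hle : ((Finset.univ : Finset P).filter (fun y : P => (y : G) = 1 ∨ (y : G) = x)).card ≤ 2 := by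
    rw [Finset.filter_or]
    refine le_trans (Finset.card_union_le _ _) ?_
    have e1 : ((Finset.univ : Finset P).filter (fun y : P => (y : G) = 1)).card ≤ 1 := by
      rw [Finset.card_le_one]
      intro a ha b hb
      rw [Finset.mem_filter] at ha hb
      exact Subtype.ext (ha.2.trans hb.2.symm)
    have e2 : ((Finset.univ : Finset P).filter (fun y : P => (y : G) = x)).card ≤ 1 := by
      rw [Finset.card_le_one]
      intro a ha b hb
      rw [Finset.mem_filter] at ha hb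
      exact Subtype.ext (ha.2.trans hb.2.symm)
    omega
  have := Finset.card_le_card hsub
  rw [Finset.card_univ, hc] at this
  omega

theorem main {G : Type u} [Group G] [Finite G] [IsSimpleGroup G] (x : G) (hx : orderOf x = 2)
    (S₀ : Subgroup G) (hle : S₀ ≤ Subgroup.centralizer ({x} : Set G)) (hK : IsKleinFour ↥S₀)
    (hodd : ¬ 2 ∣ S₀.relIndex (Subgroup.centralizer ({x} : Set G)))
    (hn : (S₀.subgroupOf (Subgroup.centralizer ({x} : Set G))).Normal) :
    Nonempty (G ≃* ↥(alternatingGroup (Fin 5))) := by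
  classical
  haveI : Fact (Nat.Prime 2) := ⟨Nat.prime_two⟩
  have hcard4 : Nat.card S₀ = 4 := hK.card_four
  have hxC : x ∈ centralizer ({x} : Set G) := mem_centralizer_singleton_iff.mpr rfl
  have hmem2 : ∀ u ∈ centralizer ({x} : Set G), (∃ k : ℕ, orderOf u = 2 ^ k) → u ∈ S₀ :=
    fun u hu hk => inv_mem _ S₀ hle hodd hn u hu hk
  have hxS : x ∈ S₀ := hmem2 x hxC ⟨1, by rw [hx, pow_one]⟩
  have h3 := inv3 _ S₀ hle hcard4 (fun u hu h2 => hmem2 u hu ⟨1, by rw [h2, pow_one]⟩)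
  obtain ⟨⟨S, hSC⟩, hconj⟩ := Cfsg.Agent.S3279.result x hx h3
  have hSS₀ : (S : Subgroup G) ≤ S₀ := by
    intro s hs
    refine hmem2 s (hSC hs) ?_
    obtain ⟨k, hk⟩ := (IsPGroup.iff_orderOf.mp S.isPGroup') ⟨s, hs⟩
    refine ⟨k, ?_⟩
    rw [← hk, Subgroup.orderOf_mk]
  have hpg : IsPGroup 2 S₀ := IsPGroup.of_card (n := 2) (by rw [hcard4]; norm_num)
  have hSeq : S₀ = (S : Subgroup G) := S.is_maximal' hpg hSS₀
  subst hSeq
  have hx1 : x ≠ 1 := by
    intro h
    rw [h, orderOf_one] at hx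
    norm_num at hx
  have hexp : ∀ u ∈ (S : Subgroup G), u * u = 1 := by
    intro u hu
    have h := Monoid.pow_exponent_eq_one (⟨u, hu⟩ : (S : Subgroup G))
    rw [hK.exponent_two, pow_two] at h
    exact congrArg Subtype.val h
  have hCeq := cent_eq S hcard4 hexp x hxS hx1 hn
  obtain ⟨M, hM⟩ := Cfsg.Agent.Lib.Helper74.exists_isPModular Nat.prime_two
  obtain ⟨ζ₂, ζ₃, ζ₄, ε, hε, h2ne, h3ne, h23, h24, h34, hB, hval, hm2, hm3, hm4, hrel⟩ :=
    Cfsg.Agent.S0948.result M hM S hK hconj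
  -- the order of G
  have hidx : ¬ 2 ∣ (S : Subgroup G).index := S.not_dvd_index
  have hG0 : Nat.card G = 4 * (S : Subgroup G).index := by
    rw [← hcard4, Subgroup.card_mul_index]
  have hg₀ : Odd (S : Subgroup G).index := by
    rcases Nat.even_or_odd (S : Subgroup G).index with h | h
    · exact absurd (even_iff_two_dvd.mp h) hidx
    · exact h
  have hnc := nnc (S : Subgroup G).index hG0
  have h4ne : (ζ₄ : G → ℂ) ≠ fun _ => 1 := by
    intro h
    have := (hval x hx).2.2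
    rw [h] at this
    norm_num at this
  have hform := Cfsg.Agent.S4479.result M hM _ hg₀ hG0 hnc S x hxS hx ζ₂ ζ₃ ζ₄ 1 ε (-1) hB
    ⟨h2ne, h3ne, h4ne, h23, h24, h34⟩ ⟨Or.inl rfl, hε, Or.inr rfl⟩
    ⟨by rw [(hval x hx).1]; norm_num, (hval x hx).2.1, by rw [(hval x hx).2.2]; norm_num⟩
  rw [← hCeq] at hform
  have hN : Nat.card G = (centralizer ({x} : Set G)).index * Nat.card (centralizer ({x} : Set G)) :=
    (Subgroup.index_mul_card _).symm
  have hN0 : Nat.card G ≠ 0 := Nat.card_pos.ne'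
  have hF := form_arith (Nat.card G) (Nat.card (centralizer ({x} : Set G)))
    (centralizer ({x} : Set G)).index (charDegree (ζ₂ : G → ℂ)) (charDegree (ζ₃ : G → ℂ))
    (charDegree (ζ₄ : G → ℂ)) ε hN hN0 hform
  have hd2 := Cfsg.Agent.Lib.Helper76.Rel.irr_one_eq_charDegree ζ₂.2
  have hd3 := Cfsg.Agent.Lib.Helper76.Rel.irr_one_eq_charDegree ζ₃.2
  have hd4 := Cfsg.Agent.Lib.Helper76.Rel.irr_one_eq_charDegree ζ₄.2
  have hrel1 := hrel 1 (by rw [orderOf_one]; exact odd_one)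
  rw [hd2, hd3, hd4] at hrel1
  have hrelZ : (1 : ℤ) + (charDegree (ζ₂ : G → ℂ) : ℤ) + ε * (charDegree (ζ₃ : G → ℂ) : ℤ)
      - (charDegree (ζ₄ : G → ℂ) : ℤ) = 0 := by exact_mod_cast hrel1
  have hx2 : charDegree (ζ₂ : G → ℂ) ≠ 1 := by
    intro h
    apply hx1
    apply ker_triv ζ₂ h2ne x
    rw [(hval x hx).1, hd2, h]
    norm_num
  have hx3 : ε = 1 → charDegree (ζ₃ : G → ℂ) ≠ 1 := by
    intro hε1 h
    apply hx1
    apply ker_triv ζ₃ h3ne x
    rw [(hval x hx).2.1, hd3, h, hε1]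
    norm_num
  have hdodd : Odd (centralizer ({x} : Set G)).index :=
    Odd.of_dvd_nat hg₀ (Subgroup.index_dvd_of_le hSC)
  obtain ⟨hεm, hx3eq, hd15⟩ := arith_main _ _ _ _ ε hε hm2 hm3 hm4 hrelZ hx2 hx3 hdodd hF
  subst hεm
  -- the three involutions
  obtain ⟨y, hyS, hy1, hyx⟩ := exists_third (S : Subgroup G) hcard4 x
  have hxx := hexp x hxS
  have hyy := hexp y hyS
  have hxyS : x * y ∈ (S : Subgroup G) := mul_mem hxS hyS
  have hxy1 : x * y ≠ 1 := by
    intro h
    apply hyx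
    calc y = x * x * y := by rw [hxx, one_mul]
      _ = x * (x * y) := mul_assoc _ _ _
      _ = x := by rw [h, mul_one]
  have hoy : orderOf y = 2 := orderOf_eq_prime (by rw [pow_two]; exact hyy) hy1
  have hoxy : orderOf (x * y) = 2 :=
    orderOf_eq_prime (by rw [pow_two]; exact hexp _ hxyS) hxy1
  have hcomm : x * y = y * x := Cfsg.Agent.Lib.Helper75.comm_of_exp_two hexp hxS hyS
  have h31 : (ζ₃ : G → ℂ) 1 = 3 := by rw [hd3, hx3eq]; norm_num
  have hvx : (ζ₃ : G → ℂ) x = -1 := by rw [(hval x hx).2.1]; norm_num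
  have hvy : (ζ₃ : G → ℂ) y = -1 := by rw [(hval y hoy).2.1]; norm_num
  have hvxy : (ζ₃ : G → ℂ) (x * y) = -1 := by rw [(hval _ hoxy).2.1]; norm_num
  have hζ₃B : ζ₃ ∈ principalBlock M G := by
    rw [hB]
    exact Or.inr (Or.inr (Or.inl rfl))
  have hKt : ∀ r ∈ centralizer ({x} : Set G), Odd (orderOf r) → r = 1 := by
    intro r hr hro
    have hrS : ∀ u ∈ (S : Subgroup G), r * u = u * r := by
      rw [hCeq] at hr
      intro u hu
      exact (mem_centralizer_iff.mp hr u hu).symm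
    have e1 := sect_val M hM S hcard4 hexp x hxS hx1 ζ₃ hζ₃B r (hrS x hxS) hro
    have e2 := sect_val M hM S hcard4 hexp y hyS hy1 ζ₃ hζ₃B r (hrS y hyS) hro
    have e3 := sect_val M hM S hcard4 hexp (x * y) hxyS hxy1 ζ₃ hζ₃B r (hrS _ hxyS) hro
    have hs := ksum (Cfsg.Agent.Lib.Helper79.isCharacter_of_isIrrCharacter ζ₃.2) x y hcomm hxx hyy
      (by rw [h31, hvx, hvy, hvxy]; norm_num) r
    rw [e1, e2, e3, hvx, hvy, hvxy] at hs
    apply ker_triv ζ₃ h3ne r
    rw [h31]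
    linear_combination hs
  have hc4 := card_four_of_no_odd _ (S : Subgroup G) hle hcard4 hodd hKt
  have hG60 : Nat.card G = 60 := by rw [hN, hd15, hc4]
  exact Cfsg.Agent.Lib.Helper5.mulEquiv_alternatingGroup_five_of_card_eq_sixty hG60

end Cfsg.Agent.Lib.Helper47.A5c
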