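import Cfsg.Agent.Lib.Helper47.SubnY
import Cfsg.Agent.Lib.Helper24.PxQ

set_option autoImplicit false

namespace Cfsg.Agent.Lib.Helper47

open Cfsg
open scoped commutatorElement Pointwise

variable {G : Type*} [Group G]

/-- if `D` is a `p`-group modulo `C` (normalized by `D`) then `D = T (D ∩ C)` for a Sylow `T` -/
theorem exists_mul_of_pgroup_mod [Finite G] {p : ℕ} [Fact p.Prime] {D C : Subgroup G}
    (hDC : D ≤ Subgroup.normalizer (C : Set G))
    (hDp : ∀ d ∈ D, ∃ k : ℕ, d ^ (p ^ k) ∈ C) (S : Sylow p ↥D) :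
    ∀ d ∈ D, ∃ t ∈ (S : Subgroup ↥D).map D.subtype, ∃ c ∈ C, d = t * c := by
  have hCn : (C.subgroupOf D).Normal := Subgroup.normal_subgroupOf_of_le_normalizer hDC
  have hfs : Function.Surjective (QuotientGroup.mk' (C.subgroupOf D)) :=
    QuotientGroup.mk'_surjective _
  have hQp : IsPGroup p (↥D ⧸ C.subgroupOf D) := by
    intro q
    obtain ⟨d, rfl⟩ := QuotientGroup.mk_surjective q
    obtain ⟨k, hk⟩ := hDp (d : G) d.2
    refine ⟨k, ?_⟩
    rw [← QuotientGroup.mk_pow]
    apply (QuotientGroup.eq_one_iff _).mpr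
    rw [Subgroup.mem_subgroupOf]
    simpa using hk
  have htop : (⊤ : Subgroup (↥D ⧸ C.subgroupOf D)) =
      ((S.mapSurjective hfs : Sylow p (↥D ⧸ C.subgroupOf D)) : Subgroup (↥D ⧸ C.subgroupOf D)) :=
    (S.mapSurjective hfs).is_maximal' (hQp.to_subgroup ⊤) le_top
  intro d hd
  have h1 : (QuotientGroup.mk' (C.subgroupOf D)) ⟨d, hd⟩ ∈
      ((S.mapSurjective hfs : Sylow p (↥D ⧸ C.subgroupOf D)) : Subgroup (↥D ⧸ C.subgroupOf D)) := by
    rw [← htop]; trivial
  rw [Sylow.coe_mapSurjective] at h1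
  obtain ⟨s, hs, hs'⟩ := h1
  have h2 : s⁻¹ * ⟨d, hd⟩ ∈ C.subgroupOf D := by
    apply QuotientGroup.eq.mp
    exact hs'
  refine ⟨(s : G), ⟨s, hs, rfl⟩, (s : G)⁻¹ * d, ?_, by group⟩
  have := Subgroup.mem_subgroupOf.mp h2
  simpa using this

/-- a `p`-group acts nilpotently on a `p`-group -/
theorem exists_iterCommutator_eq_bot_of_pgroups [Finite G] {p : ℕ} [Fact p.Prime]
    (T : Subgroup G) (hT : IsPGroup p ↥T) :
    ∀ (n : ℕ) (U : Subgroup G), Nat.card ↥U ≤ n → IsPGroup p ↥U →
      T ≤ Subgroup.normalizer (U : Set G) → ∃ k : ℕ, iterCommutator U T k = ⊥ := by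
  intro n
  induction n with
  | zero =>
    intro U hcard
    have : 0 < Nat.card ↥U := Nat.card_pos
    omega
  | succ n ih =>
    intro U hcard hU hTU
    by_cases hU1 : U = ⊥
    · exact ⟨0, hU1⟩
    · have hlt : ⁅U, T⁆ < U := Cfsg.Agent.Lib.Helper24.commutator_lt_of_pGroups T U hT hU hTU hU1
      have hcard' : Nat.card ↥(⁅U, T⁆ : Subgroup G) ≤ n := by
        by_contra hcon
        push Not at hcon
        have h1 : Nat.card ↥U ≤ Nat.card ↥(⁅U, T⁆ : Subgroup G) := by omega
        exact hlt.ne (Subgroup.eq_of_le_of_card_ge hlt.le h1)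
      obtain ⟨k, hk⟩ := ih ⁅U, T⁆ hcard' (hU.to_le hlt.le)
        (Cfsg.Agent.Lib.Helper24.le_normalizer_commutator_right U T hTU)
      exact ⟨k + 1, by rw [iterCommutator_succ_left]; exact hk⟩

/-- a group acting as a `p`-group on a `p`-group acts nilpotently -/
theorem exists_iterCommutator_eq_bot_of_pgroup_mod [Finite G] {p : ℕ} [Fact p.Prime]
    {W D : Subgroup G} (hW : IsPGroup p ↥W) (hDW : D ≤ Subgroup.normalizer (W : Set G))
    (hDp : ∀ d ∈ D, ∃ k : ℕ, d ^ (p ^ k) ∈ Subgroup.centralizer (W : Set G)) :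
    ∃ n : ℕ, iterCommutator W D n = ⊥ := by
  classical
  obtain ⟨S⟩ : Nonempty (Sylow p ↥D) := inferInstance
  set T : Subgroup G := (S : Subgroup ↥D).map D.subtype with hT
  have hTp : IsPGroup p ↥T := isPGroup_sylow_map_subtype S
  have hTD : T ≤ D := Subgroup.map_subtype_le _
  have hTW : T ≤ Subgroup.normalizer (W : Set G) := hTD.trans hDW
  have hfac := exists_mul_of_pgroup_mod (hDW.trans (normalizer_le_normalizer_centralizer W)) hDp S
  have hcomm : ∀ U : Subgroup G, U ≤ W → ⁅U, D⁆ = ⁅U, T⁆ := by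
    intro U hUW
    apply le_antisymm
    · rw [Subgroup.commutator_le]
      intro u hu d hd
      obtain ⟨t, ht, c, hc, rfl⟩ := hfac d hd
      have hcu : u⁻¹ * c = c * u⁻¹ :=
        (Subgroup.mem_centralizer_iff.mp hc) u⁻¹ (W.inv_mem (hUW hu))
      have e : ⁅u, t * c⁆ = ⁅u, t⁆ := by
        rw [commutatorElement_def, commutatorElement_def]
        calc u * (t * c) * u⁻¹ * (t * c)⁻¹ = u * t * (c * u⁻¹) * c⁻¹ * t⁻¹ := by group
          _ = u * t * (u⁻¹ * c) * c⁻¹ * t⁻¹ := by rw [hcu]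
          _ = u * t * u⁻¹ * t⁻¹ := by group
      rw [e]
      exact Subgroup.commutator_mem_commutator hu ht
    · exact Subgroup.commutator_mono le_rfl hTD
  have heq : ∀ n : ℕ, iterCommutator W D n = iterCommutator W T n := by
    intro n
    induction n with
    | zero => rfl
    | succ n ih =>
      show ⁅iterCommutator W D n, D⁆ = ⁅iterCommutator W T n, T⁆
      rw [ih]
      exact hcomm _ (Cfsg.Agent.S2809.iterCommutator_le W T hTW n)
  obtain ⟨k, hk⟩ := exists_iterCommutator_eq_bot_of_pgroups T hTp _ W le_rfl hW hTW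
  exact ⟨k, by rw [heq]; exact hk⟩

/-- the `A × B` lemma, relative version: `D` acts nilpotently on the `p`-group `W`, `Q` commutes with
`D` modulo `C(W)` and centralizes `C_W(D)`. Then the `p'`-elements of `Q` centralize `W`. -/
theorem ab_lemma [Finite G] {p : ℕ} [Fact p.Prime] {D Q : Subgroup G}
    (hQD : Q ≤ Subgroup.normalizer (D : Set G)) :
    ∀ (n : ℕ) (W : Subgroup G), IsPGroup p ↥W → D ≤ Subgroup.normalizer (W : Set G) →
      Q ≤ Subgroup.normalizer (W : Set G) → ⁅D, Q⁆ ≤ Subgroup.centralizer (W : Set G) →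
      iterCommutator W D n = ⊥ →
      W ⊓ Subgroup.centralizer (D : Set G) ≤ Subgroup.centralizer (Q : Set G) →
      pPrimeClosure p Q ≤ Subgroup.centralizer (W : Set G) := by
  intro n
  induction n with
  | zero =>
    intro W _ _ _ _ hn _
    have : W = ⊥ := hn
    rw [this]
    intro x _
    rw [Subgroup.mem_centralizer_iff]
    intro w hw
    have : w = 1 := by simpa using hw
    rw [this]; simp
  | succ n ih =>
    intro W hW hDW hQW hDQ hn hfix
    set Q' : Subgroup G := pPrimeClosure p Q with hQ'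
    have hQ'Q : Q' ≤ Q := pPrimeClosure_le p Q
    set W' : Subgroup G := ⁅W, D⁆ with hW'
    have hW'W : W' ≤ W := Cfsg.Agent.Lib.Helper24.commutator_le_of_le_normalizer W D hDW
    have hW'p : IsPGroup p ↥W' := hW.to_le hW'W
    have hDW' : D ≤ Subgroup.normalizer (W' : Set G) :=
      Cfsg.Agent.Lib.Helper24.le_normalizer_commutator_right W D hDW
    have hQW' : Q ≤ Subgroup.normalizer (W' : Set G) :=
      (le_inf hQW hQD).trans (normalizer_inf_normalizer_le_normalizer_commutator W D)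
    have hDQ' : ⁅D, Q⁆ ≤ Subgroup.centralizer (W' : Set G) :=
      hDQ.trans (Subgroup.centralizer_le hW'W)
    have hn' : iterCommutator W' D n = ⊥ := by
      rw [hW', ← iterCommutator_succ_left]; exact hn
    have hfix' : W' ⊓ Subgroup.centralizer (D : Set G) ≤ Subgroup.centralizer (Q : Set G) :=
      (inf_le_inf_right _ hW'W).trans hfix
    have h1 : Q' ≤ Subgroup.centralizer (W' : Set G) := ih W' hW'p hDW' hQW' hDQ' hn' hfix'
    -- three subgroups
    have t1 : ⁅⁅W, D⁆, Q'⁆ = ⊥ := by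
      rw [Subgroup.commutator_eq_bot_iff_le_centralizer, Subgroup.le_centralizer_iff]
      exact h1
    have t2 : ⁅⁅D, Q'⁆, W⁆ = ⊥ := by
      rw [Subgroup.commutator_eq_bot_iff_le_centralizer]
      exact (Subgroup.commutator_mono le_rfl hQ'Q).trans hDQ
    have t3 : ⁅⁅Q', W⁆, D⁆ = ⊥ := Subgroup.commutator_commutator_eq_bot_of_rotate t1 t2
    have hQ'W : Q' ≤ Subgroup.normalizer (W : Set G) := hQ'Q.trans hQW
    have h2 : ⁅W, Q'⁆ ≤ W ⊓ Subgroup.centralizer (D : Set G) := by
      apply le_inf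
      · exact Cfsg.Agent.Lib.Helper24.commutator_le_of_le_normalizer W Q' hQ'W
      · rw [Subgroup.commutator_comm]
        exact Subgroup.commutator_eq_bot_iff_le_centralizer.mp t3
    have h3 : iterCommutator W Q' 2 = ⊥ := by
      show ⁅⁅W, Q'⁆, Q'⁆ = ⊥
      rw [Subgroup.commutator_eq_bot_iff_le_centralizer]
      exact (h2.trans hfix).trans (Subgroup.centralizer_le hQ'Q)
    show Q' ≤ Subgroup.centralizer (W : Set G)
    rw [hQ']
    unfold pPrimeClosure
    rw [Subgroup.closure_le]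
    intro a ha
    have haQ' : a ∈ Q' := Subgroup.subset_closure ha
    have h4 := Cfsg.Agent.S2809.centralizes_of_coprime W hW Q' hQ'W 2 h3 a haQ' (orderOf a) ha.2
      (pow_orderOf_eq_one a) 2 le_rfl
    simp only [Nat.sub_self] at h4
    show a ∈ Subgroup.centralizer (W : Set G)
    rw [Subgroup.mem_centralizer_iff]
    intro w hw
    have := h4 w hw
    calc w * a = (a * w * a⁻¹) * a := by rw [this]
      _ = a * w := by group

theorem mem_pPrimeClosure_of_pprime {p : ℕ} {Q : Subgroup G} {x : G} (hx : x ∈ Q) {m : ℕ}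
    (hm : Nat.Coprime m p) (hxm : x ^ m = 1) : x ∈ pPrimeClosure p Q :=
  Subgroup.subset_closure
    ⟨hx, Nat.Coprime.coprime_dvd_left (orderOf_dvd_of_pow_eq_one hxm) hm⟩

end Cfsg.Agent.Lib.Helper47
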