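import Mathlib

set_option autoImplicit false

/-! # S5165 leaf [T2]: relabelling the points of an alternating group -/

namespace Cfsg.Agent.Lib.Helper87.AltF

open Equiv Subgroup

/-- [T2] relabelling the points. -/
theorem h47_exists_altCongr {Y Z : Type*} [Fintype Y] [DecidableEq Y] [Fintype Z] [DecidableEq Z]
    (e : Y ≃ Z) : Nonempty (↥(alternatingGroup Y) ≃* ↥(alternatingGroup Z)) := by
  have hmap : (alternatingGroup Y).map (e.permCongrHom : Perm Y ≃* Perm Z).toMonoidHom =
      alternatingGroup Z := by
    ext g
    constructor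
    · rintro ⟨f, hf, rfl⟩
      have hf' : Equiv.Perm.sign f = 1 := Equiv.Perm.mem_alternatingGroup.mp hf
      rw [Equiv.Perm.mem_alternatingGroup]
      change Equiv.Perm.sign (e.permCongr f) = 1
      rw [Equiv.Perm.sign_permCongr]
      exact hf'
    · intro hg
      refine ⟨e.symm.permCongr g, ?_, ?_⟩
      · rw [SetLike.mem_coe, Equiv.Perm.mem_alternatingGroup, Equiv.Perm.sign_permCongr]
        exact Equiv.Perm.mem_alternatingGroup.mp hg
      · change e.permCongr (e.symm.permCongr g) = g
        ext z
        simp [Equiv.permCongr_apply]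
  exact ⟨((e.permCongrHom : Perm Y ≃* Perm Z).subgroupMap (alternatingGroup Y)).trans
    (MulEquiv.subgroupCongr hmap)⟩

end Cfsg.Agent.Lib.Helper87.AltF
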