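import Mathlib

set_option autoImplicit false

/-! # S5165 leaf [T3]: maximal `p`-subgroups of a subgroup `A` containing a given `p`-subgroup -/

namespace Cfsg.Agent.Lib.Helper87.AltF

open Subgroup

/-- [T3] maximal `p`-subgroups of a subgroup `A` containing a given `p`-subgroup. -/
theorem h47_exists_maximal_pSubgroup {Ω : Type*} [Group Ω] [Finite Ω] {p : ℕ} [Fact p.Prime]
    (A Q : Subgroup Ω) (hQA : Q ≤ A) (hQ : IsPGroup p Q) :
    ∃ S0 : Subgroup Ω, Q ≤ S0 ∧ S0 ≤ A ∧ IsPGroup p S0 ∧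
      ∀ Q' : Subgroup Ω, IsPGroup p Q' → Q' ≤ A → S0 ≤ Q' → Q' = S0 := by
  have hQ' : IsPGroup p (Q.subgroupOf A) := hQ.comap_subtype
  obtain ⟨P, hP⟩ := hQ'.exists_le_sylow
  refine ⟨(P : Subgroup ↥A).map A.subtype, ?_, Subgroup.map_subtype_le _, P.isPGroup'.map _, ?_⟩
  · intro x hx
    exact ⟨⟨x, hQA hx⟩, hP (Subgroup.mem_subgroupOf.mpr hx), rfl⟩
  · intro Q' hQ'p hQ'A hle
    have h1 : IsPGroup p (Q'.subgroupOf A) := hQ'p.comap_subtype
    have h2 : (P : Subgroup ↥A) ≤ Q'.subgroupOf A := by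
      intro x hx
      rw [Subgroup.mem_subgroupOf]
      exact hle ⟨x, hx, rfl⟩
    have h3 : Q'.subgroupOf A = (P : Subgroup ↥A) := P.is_maximal' h1 h2
    rw [← h3, Subgroup.subgroupOf_map_subtype]
    exact (inf_eq_left.mpr hQ'A).symm

end Cfsg.Agent.Lib.Helper87.AltF
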