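import Cfsg.Agent.Lib.Helper47.WC

set_option autoImplicit false

namespace Cfsg.Agent.Lib.Helper47

open Cfsg
open scoped commutatorElement Pointwise

variable {G : Type*} [Group G]

/-- the conjugates `P^x`, `P^y` normalise each other -/
def AdjP (P : Subgroup G) (x y : G) : Prop :=
  P.map (MulAut.conj x).toMonoidHom ≤
      Subgroup.normalizer ((P.map (MulAut.conj y).toMonoidHom : Subgroup G) : Set G) ∧
    P.map (MulAut.conj y).toMonoidHom ≤
      Subgroup.normalizer ((P.map (MulAut.conj x).toMonoidHom : Subgroup G) : Set G)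

theorem AdjP.symm {P : Subgroup G} {x y : G} (h : AdjP P x y) : AdjP P y x := ⟨h.2, h.1⟩

theorem AdjP.refl (P : Subgroup G) (x : G) : AdjP P x x :=
  ⟨Subgroup.le_normalizer, Subgroup.le_normalizer⟩

theorem AdjP.mul_left {P : Subgroup G} {x y : G} (h : AdjP P x y) (g : G) :
    AdjP P (g * x) (g * y) := by
  constructor
  · rw [← map_conj_map_conj P x g, ← map_conj_map_conj P y g, normalizer_map_conj]
    exact Subgroup.map_mono h.1
  · rw [← map_conj_map_conj P x g, ← map_conj_map_conj P y g, normalizer_map_conj]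
    exact Subgroup.map_mono h.2

/-- paths of length `n` in the graph of conjugates of `P` normalising each other -/
def ConnP (P : Subgroup G) : ℕ → G → G → Prop
  | 0, x, y => x = y
  | n + 1, x, y => ∃ z, AdjP P x z ∧ ConnP P n z y

theorem ConnP.snoc {P : Subgroup G} :
    ∀ {n : ℕ} {x y z : G}, ConnP P n x y → AdjP P y z → ConnP P (n + 1) x z
  | 0, x, y, z, h, hz => by
      have h' : x = y := h
      subst h'
      exact ⟨z, hz, rfl⟩
  | n + 1, x, y, z, ⟨w, hw, hc⟩, hz => ⟨w, hw, ConnP.snoc hc hz⟩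

theorem ConnP.exists_last {P : Subgroup G} :
    ∀ {n : ℕ} {x y : G}, ConnP P (n + 1) x y → ∃ w, ConnP P n x w ∧ AdjP P w y
  | 0, x, y, ⟨z, hz, h⟩ => by
      have h' : z = y := h
      subst h'
      exact ⟨x, rfl, hz⟩
  | n + 1, x, y, ⟨z, hz, h⟩ => by
      obtain ⟨w, hw, hwy⟩ := ConnP.exists_last h
      exact ⟨w, ⟨z, hz, hw⟩, hwy⟩

theorem ConnP.mul_left {P : Subgroup G} (g : G) :
    ∀ {n : ℕ} {x y : G}, ConnP P n x y → ConnP P n (g * x) (g * y)
  | 0, x, y, h => by
      have h' : x = y := h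
      subst h'
      rfl
  | n + 1, x, y, ⟨z, hz, h⟩ => ⟨g * z, hz.mul_left g, ConnP.mul_left g h⟩

section Fin

variable [Finite G] {p : ℕ} [Fact p.Prime]

/-- an asymmetric subgroup: conjugates normalising each other commute -/
theorem asym_comm {Y : Subgroup G} (hasym : ¬ IsSymmetricIn Y) (a b : G)
    (h : ⁅Y.map (MulAut.conj a).toMonoidHom, Y.map (MulAut.conj b).toMonoidHom⁆ ≤
      Y.map (MulAut.conj a).toMonoidHom ⊓ Y.map (MulAut.conj b).toMonoidHom) :
    ⁅Y.map (MulAut.conj a).toMonoidHom, Y.map (MulAut.conj b).toMonoidHom⁆ = ⊥ := by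
  set A := Y.map (MulAut.conj a).toMonoidHom with hA
  set B := Y.map (MulAut.conj b).toMonoidHom with hB
  have h4 := Subgroup.map_mono (f := (MulAut.conj a⁻¹).toMonoidHom) h
  rw [Subgroup.map_commutator] at h4
  have h5 : (A ⊓ B).map (MulAut.conj a⁻¹).toMonoidHom ≤
      A.map (MulAut.conj a⁻¹).toMonoidHom ⊓ B.map (MulAut.conj a⁻¹).toMonoidHom :=
    Subgroup.map_inf_le _ _ _
  have h6 := h4.trans h5
  rw [hA, hB, map_conj_inv_map_conj, map_conj_map_conj] at h6
  have h7 : ⁅Y, Y.map (MulAut.conj (a⁻¹ * b)).toMonoidHom⁆ = ⊥ := by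
    by_contra hne
    exact hasym ⟨a⁻¹ * b, hne, h6⟩
  have h8 := congrArg (fun S => S.map (MulAut.conj a).toMonoidHom) h7
  simp only [Subgroup.map_commutator, map_conj_map_conj, mul_inv_cancel_left, Subgroup.map_bot] at h8
  exact h8

theorem centralizer_conj_le_of_sylow {P Y : Subgroup G}
    (hsyl : ∀ R : Subgroup G, IsPGroup p ↥R → P ≤ R →
      R ⊓ Subgroup.centralizer (Y : Set G) ≤ P) (a : G) (R : Subgroup G) (hR : IsPGroup p ↥R)
    (hPR : P.map (MulAut.conj a).toMonoidHom ≤ R) :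
    R ⊓ Subgroup.centralizer ((Y.map (MulAut.conj a).toMonoidHom : Subgroup G) : Set G) ≤
      P.map (MulAut.conj a).toMonoidHom := by
  intro x hx
  obtain ⟨hxR, hxC⟩ := Subgroup.mem_inf.mp hx
  rw [centralizer_map_conj, mem_map_conj] at hxC
  rw [mem_map_conj]
  have h1 : P ≤ R.map (MulAut.conj a⁻¹).toMonoidHom := map_conj_le_iff.mp hPR
  apply hsyl _ (isPGroup_map_conj hR a⁻¹) h1
  refine Subgroup.mem_inf.mpr ⟨?_, hxC⟩
  rw [mem_map_conj]
  simpa [mul_assoc] using hxR

theorem asym_conn_le {P Y : Subgroup G} (hPp : IsPGroup p ↥P) (hYP : Y ≤ P)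
    (hNPY : Subgroup.normalizer (P : Set G) ≤ Subgroup.normalizer (Y : Set G))
    (hsyl : ∀ R : Subgroup G, IsPGroup p ↥R → P ≤ R →
      R ⊓ Subgroup.centralizer (Y : Set G) ≤ P)
    (hasym : ¬ IsSymmetricIn Y) :
    ∀ (n : ℕ) (x y : G), ConnP P n x y →
      Y.map (MulAut.conj x).toMonoidHom ≤ P.map (MulAut.conj y).toMonoidHom ∧
      Y.map (MulAut.conj y).toMonoidHom ≤ P.map (MulAut.conj x).toMonoidHom := by
  have hN : ∀ a : G, Subgroup.normalizer ((P.map (MulAut.conj a).toMonoidHom : Subgroup G) : Set G) ≤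
      Subgroup.normalizer ((Y.map (MulAut.conj a).toMonoidHom : Subgroup G) : Set G) := by
    intro a
    rw [normalizer_map_conj, normalizer_map_conj]
    exact Subgroup.map_mono hNPY
  -- the basic step
  have step : ∀ x y z w : G, AdjP P x z → AdjP P w y →
      Y.map (MulAut.conj x).toMonoidHom ≤ P.map (MulAut.conj w).toMonoidHom →
      Y.map (MulAut.conj y).toMonoidHom ≤ P.map (MulAut.conj z).toMonoidHom →
      Y.map (MulAut.conj x).toMonoidHom ≤ P.map (MulAut.conj y).toMonoidHom ∧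
      Y.map (MulAut.conj y).toMonoidHom ≤ P.map (MulAut.conj x).toMonoidHom := by
    intro x y z w hxz hwy hxw hyz
    set A := Y.map (MulAut.conj x).toMonoidHom with hA
    set B := Y.map (MulAut.conj y).toMonoidHom with hB
    have hAB : A ≤ Subgroup.normalizer (B : Set G) := hxw.trans (hwy.1.trans (hN y))
    have hBA : B ≤ Subgroup.normalizer (A : Set G) := hyz.trans (hxz.2.trans (hN x))
    have h1 : ⁅A, B⁆ ≤ A := Subgroup.le_normalizer_iff_commutator_le_left.mp hBA
    have h2 : ⁅A, B⁆ ≤ B := Subgroup.le_normalizer_iff_commutator_le_right.mp hAB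
    have h3 : ⁅A, B⁆ = ⊥ := asym_comm hasym x y (le_inf h1 h2)
    have h4 : A ≤ Subgroup.centralizer (B : Set G) :=
      (Subgroup.commutator_eq_bot_iff_le_centralizer).mp h3
    have h5 : B ≤ Subgroup.centralizer (A : Set G) := by
      rw [Subgroup.commutator_comm] at h3
      exact (Subgroup.commutator_eq_bot_iff_le_centralizer).mp h3
    constructor
    · have hR : IsPGroup p ↥(P.map (MulAut.conj w).toMonoidHom ⊔ P.map (MulAut.conj y).toMonoidHom) :=
        (isPGroup_map_conj hPp w).to_sup_of_normal_right' (isPGroup_map_conj hPp y) hwy.1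
      exact (le_inf (hxw.trans le_sup_left) h4).trans
        (centralizer_conj_le_of_sylow hsyl y _ hR le_sup_right)
    · have hR : IsPGroup p ↥(P.map (MulAut.conj z).toMonoidHom ⊔ P.map (MulAut.conj x).toMonoidHom) :=
        (isPGroup_map_conj hPp z).to_sup_of_normal_right' (isPGroup_map_conj hPp x) hxz.2
      exact (le_inf (hyz.trans le_sup_left) h5).trans
        (centralizer_conj_le_of_sylow hsyl x _ hR le_sup_right)
  intro n
  induction n with
  | zero =>
    intro x y h
    have h' : x = y := h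
    subst h'
    exact ⟨Subgroup.map_mono hYP, Subgroup.map_mono hYP⟩
  | succ n ih =>
    intro x y h
    obtain ⟨w, hxw, hwy⟩ := ConnP.exists_last h
    obtain ⟨z, hxz, hzy⟩ := h
    exact step x y z w hxz hwy (ih x w hxw).1 (ih z y hzy).2

/-- the subgroup generated by the `Y^x`, `x` in the connected component of `1` -/
theorem exists_asym_invariant {P Y : Subgroup G} (hPp : IsPGroup p ↥P) (hYP : Y ≤ P)
    (hNPY : Subgroup.normalizer (P : Set G) ≤ Subgroup.normalizer (Y : Set G))
    (hsyl : ∀ R : Subgroup G, IsPGroup p ↥R → P ≤ R →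
      R ⊓ Subgroup.centralizer (Y : Set G) ≤ P)
    (hasym : ¬ IsSymmetricIn Y) :
    ∃ N : Subgroup G, Y ≤ N ∧ N ≤ P ∧
      ∀ g : G, AdjP P 1 g → g ∈ Subgroup.normalizer (N : Set G) := by
  set N : Subgroup G := ⨆ x : {x : G // ∃ n, ConnP P n 1 x},
    Y.map (MulAut.conj (x : G)).toMonoidHom with hNdef
  refine ⟨N, ?_, ?_, ?_⟩
  · have h1 : Y.map (MulAut.conj (1 : G)).toMonoidHom ≤ N :=
      le_iSup (fun x : {x : G // ∃ n, ConnP P n 1 x} => Y.map (MulAut.conj (x : G)).toMonoidHom)
        ⟨1, 0, rfl⟩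
    rwa [map_conj_one] at h1
  · apply iSup_le
    rintro ⟨x, n, hn⟩
    have := (asym_conn_le hPp hYP hNPY hsyl hasym n 1 x hn).2
    rwa [map_conj_one] at this
  · intro g hg
    rw [← map_conj_eq_iff_mem_normalizer]
    apply Subgroup.eq_of_le_of_card_ge
    · rw [hNdef, Subgroup.map_iSup]
      apply iSup_le
      rintro ⟨x, n, hn⟩
      rw [map_conj_map_conj]
      have hc : ConnP P (n + 1) 1 (g * x) := by
        refine ⟨g, hg, ?_⟩
        have := ConnP.mul_left (P := P) g hn
        rwa [mul_one] at this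
      exact le_iSup (fun x : {x : G // ∃ n, ConnP P n 1 x} =>
        Y.map (MulAut.conj (x : G)).toMonoidHom) ⟨g * x, n + 1, hc⟩
    · exact (card_map_conj N g).ge

end Fin

end Cfsg.Agent.Lib.Helper47
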