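import Cfsg.Agent.Lib.Helper47.Asym3
import Cfsg.Agent.Lib.Helper22.FStarP

set_option autoImplicit false

namespace Cfsg.Agent.Lib.Helper47

open Cfsg
open scoped commutatorElement Pointwise

variable {G : Type*} [Group G] [Finite G] {p : ℕ} [Fact p.Prime]

/-- S2802 in ambient form with a Sylow subgroup of `B`: a `p`-reduced normal subgroup of `A`,
`T ≤ A ≤ B`, `B` of characteristic `p`, lies in `Y_B` -/
theorem le_largestPReducedOf_of_le' {A B Ys : Subgroup G} (hAB : A ≤ B) (T : Sylow p ↥B)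
    (hTR : (T : Subgroup ↥B) ≤ A.subgroupOf B)
    (hB : Subgroup.centralizer (pCore p ↥B : Set ↥B) ≤ pCore p ↥B)
    (hYsA : Ys ≤ A) (hAYs : A ≤ Subgroup.normalizer (Ys : Set G))
    (hcomm : ∀ a ∈ Ys, ∀ b ∈ Ys, a * b = b * a) (hexp : ∀ a ∈ Ys, a ^ p = 1)
    (hred : PRedInternal p Ys A) : Ys ≤ largestPReducedOf p B := by
  have hYsB : Ys ≤ B := hYsA.trans hAB
  have hred' : PRedInternal p (Ys.subgroupOf B) (A.subgroupOf B) :=
    pRedInternal_subgroupOf hYsB hAB hred
  have hle' : Ys.subgroupOf B ≤ A.subgroupOf B := by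
    intro x hx
    exact Subgroup.mem_subgroupOf.mpr (hYsA (Subgroup.mem_subgroupOf.mp hx))
  have hX : IsPReducedNormal p ((Ys.subgroupOf B).subgroupOf (A.subgroupOf B)) := by
    apply isPReducedNormal_subgroupOf_of_pRedInternal hle' _ _ _ hred'
    · intro x hx
      rw [Subgroup.mem_normalizer_iff]
      intro y
      rw [Subgroup.mem_subgroupOf, Subgroup.mem_subgroupOf]
      have := Subgroup.mem_normalizer_iff.mp (hAYs (Subgroup.mem_subgroupOf.mp hx)) (y : G)
      simpa using this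
    · intro a ha b hb
      apply Subtype.ext
      have := hcomm (a : G) (Subgroup.mem_subgroupOf.mp ha) (b : G) (Subgroup.mem_subgroupOf.mp hb)
      simpa using this
    · intro a ha
      apply Subtype.ext
      have := hexp (a : G) (Subgroup.mem_subgroupOf.mp ha)
      simpa using this
  have hS2802 := Cfsg.Agent.Lib.Helper46.pReduced_normalClosure hB T
    (A.subgroupOf B) hTR _ hX
  rw [Subgroup.map_subgroupOf_eq_of_le hle'] at hS2802
  have h1 : Ys.subgroupOf B ≤ largestPReduced p ↥B :=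
    (Subgroup.le_normalClosure).trans (le_sSup hS2802)
  have := Subgroup.map_mono (f := B.subtype) h1
  rwa [Subgroup.map_subgroupOf_eq_of_le hYsB] at this

/-- the `p`-core of a normal subgroup lies in the `p`-core -/
theorem pCoreOf_le_pCore_of_normal {X : Type*} [Group X] [Finite X] (N : Subgroup X) [hN : N.Normal] :
    pCoreOf p N ≤ pCore p X := by
  apply le_pCore _ (pCoreOf_isPGroup p N)
  have h1 : Subgroup.normalizer (N : Set X) ≤ Subgroup.normalizer ((pCoreOf p N : Subgroup X) : Set X) :=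
    normalizer_le_normalizer_pCoreOf p N
  rw [Subgroup.normalizer_eq_top] at h1
  exact Subgroup.normalizer_eq_top_iff.mp (top_le_iff.mp h1)

/-- in a group `X` with `O_p(X) = 1`, a `p`-subgroup normalised by `F*(X)` is trivial -/
theorem eq_bot_of_isPGroup_of_fstar_le_normalizer {X : Type*} [Group X] [Finite X]
    (hO : pCore p X = ⊥) {D : Subgroup X} (hD : IsPGroup p ↥D)
    (hFD : generalizedFittingSubgroup X ≤ Subgroup.normalizer (D : Set X)) : D = ⊥ := by
  haveI hn : (generalizedFittingSubgroup X).Normal :=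
    Cfsg.Agent.Lib.Helper22.generalizedFittingSubgroup_normal X
  set Fs := generalizedFittingSubgroup X with hFs
  have h1 : ⁅D, Fs⁆ ≤ D := Subgroup.le_normalizer_iff_commutator_le_left.mp hFD
  have h2 : ⁅D, Fs⁆ ≤ Fs := Subgroup.commutator_le_right D Fs
  have h3 : D ⊓ Fs ≤ pCoreOf p Fs := by
    apply le_pCoreOf inf_le_right _ (hD.to_le inf_le_left)
    exact (le_inf hFD Subgroup.le_normalizer).trans (normalizer_inf_le_normalizer_inf D Fs)
  have h4 : D ⊓ Fs = ⊥ := by
    rw [eq_bot_iff, ← hO]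
    exact h3.trans (pCoreOf_le_pCore_of_normal Fs)
  have h5 : ⁅D, Fs⁆ = ⊥ := by
    rw [eq_bot_iff, ← h4]
    exact le_inf h1 h2
  exact Cfsg.Agent.Lib.Helper22.eq_bot_of_isPGroup_of_le_centralizer_generalizedFitting hO hD
    ((Subgroup.commutator_eq_bot_iff_le_centralizer).mp h5)

/-- `O_p(Md / C_{Md}(Y)) = 1` when `Y` is `p`-reduced in `Md` (internal form) -/
theorem pCore_quotient_eq_bot_of_pRedInternal {Y Md : Subgroup G}
    [hn : ((Subgroup.centralizer (Y : Set G)).subgroupOf Md).Normal]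
    (hred : PRedInternal p Y Md) :
    pCore p (↥Md ⧸ (Subgroup.centralizer (Y : Set G)).subgroupOf Md) = ⊥ := by
  set C : Subgroup G := Subgroup.centralizer (Y : Set G) with hC
  set π := QuotientGroup.mk' (C.subgroupOf Md) with hπ
  set D := pCore p (↥Md ⧸ C.subgroupOf Md) with hD
  have hDp : IsPGroup p ↥D := pCore_isPGroup p _
  haveI hDn : D.Normal := pCore_normal p _
  set D₀ : Subgroup G := (D.comap π).map Md.subtype with hD₀
  have h1 : D₀ ≤ C := by
    apply hred D₀ (Subgroup.map_subtype_le _) (le_normalizer_map_subtype_of_normal Md (D.comap π))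
    rintro _ ⟨d', hd', rfl⟩
    have hd'' : π d' ∈ D := hd'
    obtain ⟨k, hk⟩ := hDp ⟨π d', hd''⟩
    refine ⟨k, ?_⟩
    have h2 : (π d') ^ (p ^ k) = 1 := by
      have := congrArg Subtype.val hk
      simpa using this
    rw [← map_pow] at h2
    have h3 : d' ^ (p ^ k) ∈ C.subgroupOf Md := (QuotientGroup.eq_one_iff _).mp h2
    have h4 := Subgroup.mem_subgroupOf.mp h3
    simpa using h4
  rw [eq_bot_iff]
  intro x hx
  obtain ⟨d', rfl⟩ := QuotientGroup.mk'_surjective (C.subgroupOf Md) x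
  have h2 : (d' : G) ∈ D₀ := ⟨d', hx, rfl⟩
  have h3 : d' ∈ C.subgroupOf Md := Subgroup.mem_subgroupOf.mpr (h1 h2)
  rw [Subgroup.mem_bot]
  exact (QuotientGroup.eq_one_iff _).mpr h3

/-- Let `R ≤ Md` contain the preimage of `F*(Md/C)`, where `O_p(Md/C) = 1`. Then every normal
subgroup `D₀` of `R` with `D₀C/C` a `p`-group lies in `C`. -/
theorem le_of_pgroup_mod_of_fstar_le {Md C R D₀ : Subgroup G}
    [hn : (C.subgroupOf Md).Normal]
    (hO : pCore p (↥Md ⧸ C.subgroupOf Md) = ⊥) (hRMd : R ≤ Md)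
    (hFR : ((generalizedFittingSubgroup (↥Md ⧸ C.subgroupOf Md)).comap
      (QuotientGroup.mk' (C.subgroupOf Md))).map Md.subtype ≤ R)
    (hD₀R : D₀ ≤ R) (hRD₀ : R ≤ Subgroup.normalizer (D₀ : Set G))
    (hp : ∀ d ∈ D₀, ∃ k : ℕ, d ^ (p ^ k) ∈ C) : D₀ ≤ C := by
  set π := QuotientGroup.mk' (C.subgroupOf Md) with hπ
  set Db : Subgroup (↥Md ⧸ C.subgroupOf Md) := (D₀.subgroupOf Md).map π with hDb
  have hDbp : IsPGroup p ↥Db := by
    rintro ⟨x, d, hd, rfl⟩
    obtain ⟨k, hk⟩ := hp (d : G) (Subgroup.mem_subgroupOf.mp hd)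
    refine ⟨k, ?_⟩
    apply Subtype.ext
    show (π d) ^ (p ^ k) = 1
    rw [← map_pow]
    apply (QuotientGroup.eq_one_iff _).mpr
    rw [Subgroup.mem_subgroupOf]
    simpa using hk
  have hFDb : generalizedFittingSubgroup (↥Md ⧸ C.subgroupOf Md) ≤
      Subgroup.normalizer (Db : Set (↥Md ⧸ C.subgroupOf Md)) := by
    intro fb hfb
    obtain ⟨f, rfl⟩ := QuotientGroup.mk'_surjective (C.subgroupOf Md) fb
    have hfR : (f : G) ∈ R := hFR ⟨f, hfb, rfl⟩
    have hfN : f ∈ Subgroup.normalizer ((D₀.subgroupOf Md : Subgroup ↥Md) : Set ↥Md) := by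
      rw [Subgroup.mem_normalizer_iff]
      intro h
      rw [Subgroup.mem_subgroupOf, Subgroup.mem_subgroupOf]
      have := Subgroup.mem_normalizer_iff.mp (hRD₀ hfR) (h : G)
      simpa using this
    exact Subgroup.le_normalizer_map π ⟨f, hfN, rfl⟩
  have hDb1 : Db = ⊥ := eq_bot_of_isPGroup_of_fstar_le_normalizer hO hDbp hFDb
  intro d hd
  have hdMd : d ∈ Md := hRMd (hD₀R hd)
  have h1 : π ⟨d, hdMd⟩ ∈ Db := ⟨⟨d, hdMd⟩, Subgroup.mem_subgroupOf.mpr hd, rfl⟩
  rw [hDb1, Subgroup.mem_bot] at h1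
  have h2 : (⟨d, hdMd⟩ : ↥Md) ∈ C.subgroupOf Md := (QuotientGroup.eq_one_iff _).mp h1
  exact Subgroup.mem_subgroupOf.mp h2

omit [Finite G] [Fact p.Prime] in
/-- `C` lies in the preimage of any subgroup of `Md / C` -/
theorem le_map_comap_mk' {Md C : Subgroup G} [hn : (C.subgroupOf Md).Normal] (hCMd : C ≤ Md)
    (K : Subgroup (↥Md ⧸ C.subgroupOf Md)) :
    C ≤ (K.comap (QuotientGroup.mk' (C.subgroupOf Md))).map Md.subtype := by
  intro c hc
  refine ⟨⟨c, hCMd hc⟩, ?_, rfl⟩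
  show (QuotientGroup.mk' (C.subgroupOf Md)) ⟨c, hCMd hc⟩ ∈ K
  have h1 : (QuotientGroup.mk' (C.subgroupOf Md)) ⟨c, hCMd hc⟩ = 1 :=
    (QuotientGroup.eq_one_iff _).mpr (Subgroup.mem_subgroupOf.mpr hc)
  rw [h1]
  exact Subgroup.one_mem _

/-- core of S2851 -/
theorem le_largestPReducedOf_of_fstar_le {Y Md H : Subgroup G}
    [hn : ((Subgroup.centralizer (Y : Set G)).subgroupOf Md).Normal]
    (hYMd : Y ≤ Md) (hMdY : Md ≤ Subgroup.normalizer (Y : Set G))
    (hcomm : ∀ a ∈ Y, ∀ b ∈ Y, a * b = b * a) (hexp : ∀ a ∈ Y, a ^ p = 1)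
    (hredMd : PRedInternal p Y Md)
    (hFH : ((generalizedFittingSubgroup (↥Md ⧸ (Subgroup.centralizer (Y : Set G)).subgroupOf Md)).comap
      (QuotientGroup.mk' ((Subgroup.centralizer (Y : Set G)).subgroupOf Md))).map Md.subtype ≤ H)
    (hH : Subgroup.centralizer (pCore p ↥H : Set ↥H) ≤ pCore p ↥H)
    (hpar : IsParabolic p ((H ⊓ Md).subgroupOf H)) (hYH : Y ≤ H) :
    Y ≤ largestPReducedOf p H := by
  obtain ⟨T, hT⟩ := hpar
  have hO := pCore_quotient_eq_bot_of_pRedInternal hredMd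
  have hFR : ((generalizedFittingSubgroup (↥Md ⧸ (Subgroup.centralizer (Y : Set G)).subgroupOf Md)).comap
      (QuotientGroup.mk' ((Subgroup.centralizer (Y : Set G)).subgroupOf Md))).map Md.subtype ≤ H ⊓ Md :=
    le_inf hFH (Subgroup.map_subtype_le _)
  have hred : PRedInternal p Y (H ⊓ Md) := by
    intro D₀ hD₀R hRD₀ hD₀p
    exact le_of_pgroup_mod_of_fstar_le hO inf_le_right hFR hD₀R hRD₀ hD₀p
  exact le_largestPReducedOf_of_le' inf_le_left T hT hH (le_inf hYH hYMd) (inf_le_right.trans hMdY)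
    hcomm hexp hred

end Cfsg.Agent.Lib.Helper47
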