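import Cfsg.Agent.Lib.Helper47.WC3

set_option autoImplicit false

namespace Cfsg.Agent.Lib.Helper47

open Cfsg
open scoped commutatorElement Pointwise

variable {G : Type*} [Group G]

theorem normalizer_inf_normalizer_le_normalizer_commutator (A B : Subgroup G) :
    Subgroup.normalizer (A : Set G) ⊓ Subgroup.normalizer (B : Set G) ≤
      Subgroup.normalizer ((⁅A, B⁆ : Subgroup G) : Set G) := by
  intro a ha
  have h1 : a ∈ Subgroup.normalizer (A : Set G) := ha.1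
  have h2 : a ∈ Subgroup.normalizer (B : Set G) := ha.2
  rw [← map_conj_eq_iff_mem_normalizer] at h1 h2 ⊢
  rw [Subgroup.map_commutator, h1, h2]

theorem map_conj_mul_of_mem (Q : Subgroup G) (c : G) {q : G} (hq : q ∈ Q) :
    Q.map (MulAut.conj (c * q)).toMonoidHom = Q.map (MulAut.conj c).toMonoidHom := by
  rw [← map_conj_map_conj, map_conj_eq_iff_mem_normalizer.mpr (Subgroup.le_normalizer hq)]

theorem conj_mem_of_mem_normalizer {C : Subgroup G} {a c : G}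
    (ha : a ∈ Subgroup.normalizer (C : Set G)) (hc : c ∈ C) : a * c * a⁻¹ ∈ C :=
  (Subgroup.mem_normalizer_iff.mp ha c).mp hc

theorem conj_mem_of_mem_normalizer' {C : Subgroup G} {a c : G}
    (ha : a ∈ Subgroup.normalizer (C : Set G)) (hc : c ∈ C) : a⁻¹ * c * a ∈ C := by
  have := conj_mem_of_mem_normalizer (Subgroup.inv_mem _ ha) hc
  simpa using this

section Sylow

variable [Finite G] {p : ℕ} [Fact p.Prime]

/-- `N = N_N(Q) [N,Q]` for a weakly closed `Q` normalizing `N` -/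
theorem wc_normalizer_mul_commutator {Q : Subgroup G} (hQp : IsPGroup p ↥Q) (hQ1 : Q ≠ ⊥)
    (hwc : IsWeaklyClosedSubgroup p Q) {N : Subgroup G}
    (hQN : Q ≤ Subgroup.normalizer (N : Set G)) :
    ∀ n : G, n ∈ N → ∃ a ∈ N ⊓ Subgroup.normalizer (Q : Set G), ∃ b ∈ ⁅N, Q⁆, n = a * b := by
  intro n hn
  set C : Subgroup G := ⁅N, Q⁆ with hC
  have hCN : C ≤ N := Subgroup.le_normalizer_iff_commutator_le_left.mp hQN
  have hQC : Q ≤ Subgroup.normalizer (C : Set G) := Subgroup.normalizer_commutator_ge_right N Q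
  have hNC : N ≤ Subgroup.normalizer (C : Set G) := Subgroup.normalizer_commutator_ge_left N Q
  set X : Subgroup G := C ⊔ Q with hX
  have hQX : Q ≤ X := le_sup_right
  have hQnX : Q.map (MulAut.conj n).toMonoidHom ≤ X := by
    intro y hy
    rw [mem_map_conj] at hy
    have h1 : y = ⁅n, n⁻¹ * y * n⁆ * (n⁻¹ * y * n) := by
      rw [commutatorElement_def]; group
    rw [h1]
    exact Subgroup.mul_mem_sup (Subgroup.commutator_mem_commutator hn hy) hy
  obtain ⟨k, hk, hnk⟩ := wc_conj_in_overgroup hQp hQ1 hwc hQX n hQnX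
  have hk' : k ∈ ((C ⊔ Q : Subgroup G) : Set G) := hk
  rw [Subgroup.coe_mul_of_right_le_normalizer_left C Q hQC] at hk'
  obtain ⟨c, hc, q, hq, rfl⟩ := hk'
  have hc' : c ∈ C := hc
  have hq' : q ∈ Q := hq
  rw [map_conj_mul_of_mem Q c hq'] at hnk
  -- a := c⁻¹ * n
  have ha : c⁻¹ * n ∈ Subgroup.normalizer (Q : Set G) := by
    rw [← map_conj_eq_iff_mem_normalizer, ← map_conj_map_conj, hnk, map_conj_inv_map_conj]
  have haN : c⁻¹ * n ∈ N := N.mul_mem (N.inv_mem (hCN hc')) hn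
  refine ⟨c⁻¹ * n, ⟨haN, ha⟩, (c⁻¹ * n)⁻¹ * c * (c⁻¹ * n), ?_, by group⟩
  exact conj_mem_of_mem_normalizer' (hNC haN) hc'

/-- `[N,Q] = (Q ∩ [N,Q]) [N,Q,Q]` for a weakly closed `Q` normalizing `N` -/
theorem wc_commutator_eq {Q : Subgroup G} (hQp : IsPGroup p ↥Q) (hQ1 : Q ≠ ⊥)
    (hwc : IsWeaklyClosedSubgroup p Q) {N : Subgroup G}
    (hQN : Q ≤ Subgroup.normalizer (N : Set G)) :
    ∀ c : G, c ∈ ⁅N, Q⁆ → ∃ a ∈ Q ⊓ ⁅N, Q⁆, ∃ b ∈ ⁅⁅N, Q⁆, Q⁆, c = a * b := by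
  set N₁ : Subgroup G := ⁅N, Q⁆ with hN₁
  set D : Subgroup G := ⁅N₁, Q⁆ with hD
  have hQD : Q ≤ Subgroup.normalizer (D : Set G) := Subgroup.normalizer_commutator_ge_right N₁ Q
  have hNN₁ : N ≤ Subgroup.normalizer (N₁ : Set G) := Subgroup.normalizer_commutator_ge_left N Q
  have hle : N₁ ≤ (Q ⊓ N₁) ⊔ D := by
    rw [hN₁, Subgroup.commutator_le]
    intro n hn q hq
    obtain ⟨a, ha, b, hb, rfl⟩ := wc_normalizer_mul_commutator hQp hQ1 hwc hQN n hn
    have haN : a ∈ N := ha.1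
    have haQ : a ∈ Subgroup.normalizer (Q : Set G) := ha.2
    have h1 : ⁅a * b, q⁆ = (a * ⁅b, q⁆ * a⁻¹) * ⁅a, q⁆ := by
      simp only [commutatorElement_def]; group
    rw [h1]
    have haD : a ∈ Subgroup.normalizer (D : Set G) :=
      normalizer_inf_normalizer_le_normalizer_commutator N₁ Q ⟨hNN₁ haN, haQ⟩
    have h2 : a * ⁅b, q⁆ * a⁻¹ ∈ D :=
      conj_mem_of_mem_normalizer haD (Subgroup.commutator_mem_commutator hb hq)
    have h3 : ⁅a, q⁆ ∈ Q ⊓ N₁ := by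
      refine ⟨?_, Subgroup.commutator_mem_commutator haN hq⟩
      rw [commutatorElement_def]
      exact Q.mul_mem (conj_mem_of_mem_normalizer haQ hq) (Q.inv_mem hq)
    exact Subgroup.mul_mem _ (Subgroup.mem_sup_right h2) (Subgroup.mem_sup_left h3)
  intro c hc
  have hc' : c ∈ (((Q ⊓ N₁) ⊔ D : Subgroup G) : Set G) := hle hc
  rw [Subgroup.coe_mul_of_left_le_normalizer_right (Q ⊓ N₁) D (inf_le_left.trans hQD)] at hc'
  obtain ⟨a, ha, b, hb, rfl⟩ := hc'
  exact ⟨a, ha, b, hb, rfl⟩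

end Sylow

end Cfsg.Agent.Lib.Helper47
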