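import Cfsg.Agent.Lib.Helper47.Asym4
import Cfsg.Agent.Lib.Helper47.Subn
import Cfsg.Agent.Lib.Helper47.WC4

set_option autoImplicit false

namespace Cfsg.Agent.Lib.Helper47

open Cfsg
open scoped commutatorElement Pointwise

variable {G : Type*} [Group G] [Finite G] {p : ℕ} [Fact p.Prime]

/-- `O_p(X) ≤ O_p(H)` for `X ⊴ H` -/
theorem pCoreOf_le_pCoreOf_of_le_normalizer {X H : Subgroup G} (hXH : X ≤ H)
    (hHX : H ≤ Subgroup.normalizer (X : Set G)) : pCoreOf p X ≤ pCoreOf p H :=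
  le_pCoreOf ((pCoreOf_le p X).trans hXH) (hHX.trans (normalizer_le_normalizer_pCoreOf p X))
    (pCoreOf_isPGroup p X)

/-- `H = O^p(H) T` for a Sylow subgroup `T` of `H`, in the ambient group -/
theorem pPrimeClosure_sup_sylow (H : Subgroup G) (T : Sylow p ↥H) :
    pPrimeClosure p H ⊔ (T : Subgroup ↥H).map H.subtype = H := by
  have h1 := pResidual_sup_sylow T
  have h2 := congrArg (Subgroup.map H.subtype) h1
  rw [Subgroup.map_sup, pResidual_map_subtype] at h2
  rw [h2, ← MonoidHom.range_eq_map, Subgroup.range_subtype]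

/-- structure of a minimal subgroup `H ≥ P` with `Y ≰ O_p(H)`, where `P` is "weakly closed" -/
theorem frakH_structure {H P Y : Subgroup G} (hPp : IsPGroup p ↥P) (hYP : Y ≤ P) (hPH : P ≤ H)
    (hPY : P ≤ Subgroup.normalizer (Y : Set G))
    (hnorm : ∀ L : Subgroup G, IsPGroup p ↥L → P ≤ L →
      Subgroup.normalizer (L : Set G) ≤ Subgroup.normalizer (P : Set G))
    (hYH : ¬ Y ≤ pCoreOf p H)
    (hmin : ∀ X : Subgroup G, P ≤ X → X < H → Y ≤ pCoreOf p X) :
    pPrimeClosure p H ⊔ P = H ∧ ⁅pPrimeClosure p H, Y⁆ = pPrimeClosure p H ∧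
    (∀ N : Subgroup G, Y ≤ N → N ≤ H → H ≤ Subgroup.normalizer (N : Set G) →
      pPrimeClosure p H ≤ N) ∧
    H ≤ Subgroup.normalizer ((pPrimeClosure p H ⊔ Y : Subgroup G) : Set G) := by
  set R := pPrimeClosure p H with hR
  have hRH : R ≤ H := pPrimeClosure_le p H
  have hHR : H ≤ Subgroup.normalizer (R : Set G) :=
    Subgroup.le_normalizer.trans (normalizer_le_normalizer_pPrimeClosure p H)
  have hYH' : Y ≤ H := hYP.trans hPH
  -- a Sylow subgroup of `H` containing `P`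
  obtain ⟨T₀, hT₀⟩ := exists_sylow_in_ge hPp hPH
  set T' : Subgroup G := (T₀ : Subgroup ↥H).map H.subtype with hT'
  have hT'p : IsPGroup p ↥T' := isPGroup_sylow_map_subtype T₀
  have hT'P : T' ≤ Subgroup.normalizer (P : Set G) :=
    Subgroup.le_normalizer.trans (hnorm T' hT'p hT₀)
  have hT'H : T' ≤ H := Subgroup.map_subtype_le _
  have hRT : R ⊔ T' = H := pPrimeClosure_sup_sylow H T₀
  -- key: a normal subgroup `X ≥ P` of `H` equals `H`
  have key : ∀ X : Subgroup G, P ≤ X → X ≤ H → H ≤ Subgroup.normalizer (X : Set G) → X = H := by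
    intro X hPX hXH hHX
    by_contra hne
    have hlt : X < H := lt_of_le_of_ne hXH hne
    exact hYH ((hmin X hPX hlt).trans (pCoreOf_le_pCoreOf_of_le_normalizer hXH hHX))
  -- (4)
  have h4 : R ⊔ P = H := by
    apply key _ le_sup_right (sup_le hRH hPH)
    rw [← hRT]
    apply sup_le
    · exact (le_sup_left : R ≤ R ⊔ P).trans Subgroup.le_normalizer
    · exact (le_inf (hT'H.trans hHR) hT'P).trans (normalizer_inf_le_normalizer_sup R P)
  -- (3)
  set K := ⁅R, Y⁆ with hK
  have hKR : K ≤ R := Subgroup.le_normalizer_iff_commutator_le_left.mp (hYH'.trans hHR)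
  have hPK : P ≤ Subgroup.normalizer (K : Set G) :=
    (le_inf (hPH.trans hHR) hPY).trans (normalizer_inf_normalizer_le_normalizer_commutator R Y)
  have hRK : R ≤ Subgroup.normalizer (K : Set G) := Subgroup.normalizer_commutator_ge_left R Y
  have hHK : H ≤ Subgroup.normalizer (K : Set G) := by
    rw [← h4]; exact sup_le hRK hPK
  -- `K ⊔ Y` is normal in `H`
  have hRKY : R ≤ Subgroup.normalizer ((K ⊔ Y : Subgroup G) : Set G) := by
    intro r hr
    apply mem_normalizer_of_map_conj_le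
    rw [Subgroup.map_sup]
    apply sup_le
    · rw [map_conj_eq_iff_mem_normalizer.mpr (hRK hr)]; exact le_sup_left
    · rintro _ ⟨y, hy, rfl⟩
      have h1 : (MulAut.conj r).toMonoidHom y = ⁅r, y⁆ * y := by
        simp [MulAut.conj_apply, commutatorElement_def]
      rw [h1]
      exact Subgroup.mul_mem _ (Subgroup.mem_sup_left (Subgroup.commutator_mem_commutator hr hy))
        (Subgroup.mem_sup_right hy)
  have hPKY : P ≤ Subgroup.normalizer ((K ⊔ Y : Subgroup G) : Set G) :=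
    (le_inf hPK hPY).trans (normalizer_inf_le_normalizer_sup K Y)
  have hHKY : H ≤ Subgroup.normalizer ((K ⊔ Y : Subgroup G) : Set G) := by
    rw [← h4]; exact sup_le hRKY hPKY
  have hKYH : K ⊔ Y ≤ H := sup_le (hKR.trans hRH) hYH'
  have hKP : K ⊔ P = H := by
    by_contra hne
    have hKPH : K ⊔ P ≤ H := sup_le (hKR.trans hRH) hPH
    have hlt : K ⊔ P < H := lt_of_le_of_ne hKPH hne
    have h1 : Y ≤ pCoreOf p (K ⊔ P) := hmin _ le_sup_right hlt
    have hKYKP : K ⊔ Y ≤ K ⊔ P := sup_le le_sup_left (hYP.trans le_sup_right)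
    have h2 : pCoreOf p (K ⊔ P) ⊓ (K ⊔ Y) ≤ pCoreOf p (K ⊔ Y) := by
      apply le_pCoreOf inf_le_right _ ((pCoreOf_isPGroup p (K ⊔ P)).to_le inf_le_left)
      exact (le_inf (hKYKP.trans (le_normalizer_pCoreOf p (K ⊔ P))) Subgroup.le_normalizer).trans
        (normalizer_inf_le_normalizer_inf _ _)
    have h3 : Y ≤ pCoreOf p (K ⊔ Y) := (le_inf h1 le_sup_right).trans h2
    exact hYH (h3.trans (pCoreOf_le_pCoreOf_of_le_normalizer hKYH hHKY))
  have h3 : K = R := by
    apply le_antisymm hKR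
    have h1 : pPrimeClosure p (P ⊔ K) ≤ K := pPrimeClosure_sup_le P K hPK hPp
    rw [sup_comm, hKP] at h1
    exact h1
  refine ⟨h4, h3, ?_, ?_⟩
  · intro N hYN hNH hHN
    rw [← h3]
    have h1 : ⁅R, N⁆ ≤ N := Subgroup.le_normalizer_iff_commutator_le_right.mp (hRH.trans hHN)
    exact (Subgroup.commutator_mono le_rfl hYN).trans h1
  · rw [h3] at hHKY
    exact hHKY

/-- if `H ∩ K` contains a Sylow subgroup of `H`, every Sylow subgroup of `H ∩ K` is one of `H` -/
theorem sylow_of_sylow_inf {H K : Subgroup G} (hpar : IsParabolic p ((H ⊓ K).subgroupOf H))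
    (T : Sylow p ↥(H ⊓ K)) :
    ∃ P : Sylow p ↥H, (P : Subgroup ↥H).map H.subtype =
      (T : Subgroup ↥(H ⊓ K)).map (H ⊓ K).subtype := by
  set T' : Subgroup G := (T : Subgroup ↥(H ⊓ K)).map (H ⊓ K).subtype with hT'
  have hT'HK : T' ≤ H ⊓ K := Subgroup.map_subtype_le _
  have hT'H : T' ≤ H := hT'HK.trans inf_le_left
  have hT'p : IsPGroup p ↥T' := T.isPGroup'.map _
  obtain ⟨T₀, hT₀⟩ := hpar
  have h1 : T'.relIndex (H ⊓ K) * (H ⊓ K).relIndex H = T'.relIndex H :=
    Subgroup.relIndex_mul_relIndex _ _ _ hT'HK inf_le_left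
  have h2 : T'.relIndex (H ⊓ K) = (T : Subgroup ↥(H ⊓ K)).index := by
    unfold Subgroup.relIndex Subgroup.subgroupOf
    rw [hT', Subgroup.comap_map_eq_self_of_injective (Subgroup.subtype_injective _)]
  have h3 : (H ⊓ K).relIndex H ∣ (T₀ : Subgroup ↥H).index := Subgroup.index_dvd_of_le hT₀
  have h4 : ¬ p ∣ (T'.subgroupOf H).index := by
    show ¬ p ∣ T'.relIndex H
    rw [← h1, h2]
    apply Nat.Prime.not_dvd_mul Fact.out T.not_dvd_index
    intro h
    exact T₀.not_dvd_index (h.trans h3)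
  have hT'sp : IsPGroup p ↥(T'.subgroupOf H) := hT'p.comap_subtype
  refine ⟨hT'sp.toSylow h4, ?_⟩
  rw [IsPGroup.toSylow_coe, Subgroup.map_subgroupOf_eq_of_le hT'H]

end Cfsg.Agent.Lib.Helper47
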