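import Cfsg.Agent.Lib.Helper47.BG117A23
import Cfsg.Agent.Lib.Helper24.PLenOne
import Cfsg.Agent.Lib.Helper33.NormalFusion

set_option autoImplicit false
set_option linter.style.haveILetI false
set_option linter.unusedSectionVars false

/-!
# Bender–Glauberman 11.7, reduction (R2bc): from "`A` centralizes every `A`-invariant
`σ(M)'`-subgroup of `p'`-order" to `M ≤ N(M_σ A)`
-/

namespace Cfsg.Agent.Lib.Helper47.BG117

open Subgroup Cfsg Cfsg.Agent.Lib.Helper33 Cfsg.Agent.Lib.Helper23 Cfsg.Agent.Lib.Helper47.BG11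
open Cfsg.Agent.Lib.Helper31 Cfsg.Agent.Lib.Helper48

universe u

variable {G : Type u} [Group G] [Finite G]

/-- an element normalizing two subgroups normalizes their join -/
theorem mem_normalizer_sup_of_mem {H K : Subgroup G} {g : G} (hH : g ∈ normalizer (H : Set G))
    (hK : g ∈ normalizer (K : Set G)) : g ∈ normalizer ((H ⊔ K : Subgroup G) : Set G) := by
  rw [← cj_eq_self_iff] at hH hK ⊢
  rw [cj_sup, hH, hK]

/-- a subgroup `X ≤ K` containing, for every prime `r`, an `r`-subgroup of `r'`-index in `K`,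
is all of `K` -/
theorem le_of_forall_sylow_le {K X : Subgroup G}
    (h : ∀ r : ℕ, r.Prime → ∃ R : Subgroup G, R ≤ X ∧ R ≤ K ∧ ¬ r ∣ R.relIndex K) : K ≤ X := by
  have h1 : (X ⊓ K).relIndex K = 1 := by
    rw [Nat.eq_one_iff_not_exists_prime_dvd]
    intro r hr hdvd
    obtain ⟨R, hRX, hRK, hRi⟩ := h r hr
    apply hRi
    rw [← Subgroup.relIndex_mul_relIndex R (X ⊓ K) K (le_inf hRX hRK) inf_le_right]
    exact dvd_mul_of_dvd_right hdvd _
  have h2 : K ≤ X ⊓ K := Subgroup.relIndex_eq_one.mp h1
  exact h2.trans inf_le_left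

/-- **(R2bc)** of the reduction of B&G 11.7. -/
theorem r2_of_cent (hG : IsMinSimpleOddOrder G) {M A₀ A : Subgroup G} {p : ℕ} [hp : Fact p.Prime]
    (e : Exc M p A₀ A)
    (hcent : ∀ r : ℕ, r.Prime → r ∉ sigma M → r ≠ p → ∀ R : Subgroup G, R ≤ M → IsPGroup r R →
      A ≤ normalizer (R : Set G) → A ≤ centralizer (R : Set G)) :
    M ≤ normalizer ((sigmaCore M ⊔ A : Subgroup G) : Set G) := by
  have hpp : p.Prime := hp.out
  have hM := e.coatom
  have hσ := sigmaHallIn_of_coatom hG hM
  have hpl : PLengthLE p 1 ↥M := stmt1410 hG p M hM.1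
  have hMσn : M ≤ normalizer ((sigmaCore M : Subgroup G) : Set G) :=
    Cfsg.Agent.Lib.Helper24.BG.le_normalizer_sigmaCore M
  -- a Sylow `p`-subgroup of `M` containing `A`
  have hAp : IsPGroup p A := e.isPGroup
  have hAMp : IsPGroup p ↥(A.subgroupOf M) := by
    exact hAp.of_injective (Subgroup.subgroupOfEquivOfLe e.le).toMonoidHom
      (Subgroup.subgroupOfEquivOfLe e.le).injective
  obtain ⟨S, hS⟩ := hAMp.exists_le_sylow
  set P : Subgroup G := (S : Subgroup ↥M).map M.subtype with hP
  obtain ⟨hPM, hPp, hPi⟩ := Cfsg.Agent.Lib.Helper24.sylow_map_facts M S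
  have hAP : A ≤ P := by
    intro a ha
    exact ⟨⟨a, e.le ha⟩, hS (by simpa [mem_subgroupOf] using ha), rfl⟩
  obtain ⟨hPab, hΩ⟩ := e.bg_11_5 hG hPp hPM hPi hAP
  obtain ⟨-, hfr⟩ := Cfsg.Agent.Lib.Helper24.plen_one_struct hpl S
  set T : Subgroup G := sigmaCore M ⊔ A with hT
  -- reduce to the two factors
  have key : (⊤ : Subgroup ↥M) ≤ (normalizer (T : Set G)).subgroupOf M := by
    rw [← hfr]
    refine sup_le ?_ ?_
    · -- `O_{p'}(M)`
      haveI : (pPrimeCore p ↥M).Normal := Subgroup.sSup_normal _ (fun _ h => h.1)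
      set K : Subgroup G := (pPrimeCore p ↥M).map M.subtype with hK
      have hKM : K ≤ M := map_subtype_le _
      have hKn : M ≤ normalizer (K : Set G) :=
        Cfsg.Agent.Lib.Helper19.BG124.le_normalizer_map_of_normal M (pPrimeCore p ↥M)
      have hKcard : Nat.card K = Nat.card (pPrimeCore p ↥M) :=
        card_map_of_injective M.subtype_injective
      have hKp : (Nat.card K).Coprime p := by
        rw [hKcard]
        exact Cfsg.Agent.Lib.Helper63.pPrimeCore_card_coprime' p
      have hcop : (Nat.card A).Coprime (Nat.card K) := by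
        rw [e.card]
        exact Nat.Coprime.pow_left 2 hKp.symm
      have hAtop : A ≠ ⊤ := fun h => hM.1 (top_le_iff.mp (h ▸ e.le))
      have hsolv : Group.IsSolvable ↥A := isSolvable_of_ne_top hG hAtop
      have hKT : K ≤ normalizer (T : Set G) := by
        apply le_of_forall_sylow_le
        intro r hr
        haveI : Fact r.Prime := ⟨hr⟩
        obtain ⟨Q, hQ⟩ := Cfsg.Agent.Lib.Helper24.exists_invariant_sylow (p := r) A K
          (e.le.trans hKn) hcop (Or.inl hsolv)
        obtain ⟨h1, h2, h3⟩ := Cfsg.Agent.Lib.Helper24.sylow_map_facts K Q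
        refine ⟨_, ?_, h1, h3⟩
        set R : Subgroup G := (Q : Subgroup ↥K).map K.subtype with hR
        by_cases hrσ : r ∈ sigma M
        · exact ((le_sigmaCore_of_sigma hσ hrσ (h1.trans hKM) h2).trans le_sup_left).trans
            le_normalizer
        · by_cases hrp : r = p
          · subst hrp
            have hR1 : Nat.card R = 1 := by
              obtain ⟨k, hk⟩ := IsPGroup.iff_card.mp h2
              have hd : Nat.card R ∣ Nat.card K := Subgroup.card_dvd_of_le h1
              rw [hk] at hd ⊢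
              exact Nat.Coprime.eq_one_of_dvd (Nat.Coprime.pow_left k hKp.symm) hd
            rw [Subgroup.card_eq_one.mp hR1]
            exact bot_le
          · have hc := hcent r hr hrσ hrp R (h1.trans hKM) h2 hQ
            intro x hx
            apply mem_normalizer_sup_of_mem (hMσn (hKM (h1 hx)))
            apply centralizer_le_normalizer
            rw [mem_centralizer_iff]
            intro a ha
            exact (mem_centralizer_iff.mp (hc ha) x hx).symm
      intro x hx
      rw [mem_subgroupOf]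
      exact hKT ⟨x, hx, rfl⟩
    · -- `N_M(P)`
      intro x hx
      rw [mem_subgroupOf]
      have hxP : ∀ y ∈ P, (x : G) * y * (x : G)⁻¹ ∈ P := by
        rintro _ ⟨y, hy, rfl⟩
        have := (mem_normalizer_iff.mp hx y).mp hy
        exact ⟨_, this, by simp⟩
      have hcjA : cj (x : G) A ≤ A := by
        intro z hz
        obtain ⟨a, ha, rfl⟩ := mem_cj'.mp hz
        apply hΩ _ (hxP a (hAP ha))
        rw [conj_pow, e.elem.2 a ha]
        group
      apply mem_normalizer_sup_of_mem (hMσn x.2)
      exact cj_eq_self_iff.mp (cj_eq_of_le hcjA)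
  intro m hm
  have := key (mem_top (⟨m, hm⟩ : ↥M))
  rwa [mem_subgroupOf] at this

end Cfsg.Agent.Lib.Helper47.BG117
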