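import Cfsg.Agent.Lib.Helper47.BG11a
import Cfsg.Agent.Lib.Helper56.FrobApply
import Cfsg.Agent.Lib.Helper91.Baer
import Cfsg.Agent.S1395

set_option autoImplicit false
set_option linter.style.haveILetI false
set_option linter.unusedSectionVars false

/-!
# Bender–Glauberman §11, part B: Theorem 11.3, Corollary 11.4, Corollary 11.6 (b)
-/

namespace Cfsg.Agent.Lib.Helper47.BG11

open Subgroup Cfsg Cfsg.Agent.Lib.Helper33 Cfsg.Agent.Lib.Helper24 Cfsg.Agent.Lib.Helper32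
open Cfsg.Agent.Lib.Helper24.BG Cfsg.Agent.Lib.Helper23 Cfsg.Agent.Lib.Helper63

universe u

variable {G : Type u} [Group G] [Finite G]

namespace Exc

variable {M A₀ A : Subgroup G} {p : ℕ} [hp : Fact p.Prime]

theorem dvd_card (e : Exc M p A₀ A) : p ∣ Nat.card M := by
  have h1 : Nat.card A ∣ Nat.card M := Subgroup.card_dvd_of_le e.le
  rw [e.card] at h1
  exact dvd_trans (dvd_pow_self p (by norm_num)) h1

/-- a Sylow `p`-subgroup `P` of `M` containing `A`; its normalizer is not contained in `M` -/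
theorem exists_sylow (e : Exc M p A₀ A) :
    ∃ P : Subgroup G, IsPGroup p P ∧ P ≤ M ∧ ¬ p ∣ P.relIndex M ∧ A ≤ P ∧
      ¬ normalizer (P : Set G) ≤ M := by
  have hA' : IsPGroup p (A.subgroupOf M) := e.isPGroup.comap_subtype
  obtain ⟨P, hP⟩ := hA'.exists_le_sylow
  obtain ⟨h1, h2, h3⟩ := sylow_map_facts M P
  refine ⟨_, h2, h1, h3, ?_, ?_⟩
  · intro a ha
    exact ⟨⟨a, e.le ha⟩, hP (by rw [mem_subgroupOf]; exact ha), rfl⟩
  · intro h
    exact e.notSigma ⟨hp.out, e.dvd_card, P, h⟩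

/-- an element `g ∉ M` normalizing a Sylow `p`-subgroup `P ≥ A` of `M` -/
theorem exists_outer (e : Exc M p A₀ A) :
    ∃ (P : Subgroup G) (g : G), IsPGroup p P ∧ P ≤ M ∧ ¬ p ∣ P.relIndex M ∧ A ≤ P ∧
      g ∈ normalizer (P : Set G) ∧ g ∉ M := by
  obtain ⟨P, h1, h2, h3, h4, h5⟩ := e.exists_sylow
  obtain ⟨g, hg, hgM⟩ := Set.not_subset.mp h5
  exact ⟨P, g, h1, h2, h3, h4, hg, hgM⟩

/-- for `g ∈ N_G(P)`, `A ≤ P ≤ M`: `A ≤ M^g` -/
theorem le_cj_of_normalizer (_e : Exc M p A₀ A) {P : Subgroup G} (hPM : P ≤ M) (hAP : A ≤ P)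
    {g : G} (hg : g ∈ normalizer (P : Set G)) : A ≤ cj g M := by
  calc A ≤ P := hAP
    _ = cj g P := (cj_eq_self_iff.mpr hg).symm
    _ ≤ cj g M := cj_mono hPM

/-- a subgroup of prime order is generated by each of its non-identity elements -/
theorem le_centralizer_of_commute {E : Subgroup G} (hE : Nat.card E = p) {x u : G} (hx : x ∈ E)
    (hx1 : x ≠ 1) (hxu : x * u = u * x) : u ∈ centralizer (E : Set G) := by
  have hz : zpowers x = E := by
    apply eq_of_le_of_card_ge ((zpowers_le).mpr hx)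
    have h1 : Nat.card (zpowers x) ∣ p := hE ▸ Subgroup.card_dvd_of_le ((zpowers_le).mpr hx)
    rcases (Nat.dvd_prime hp.out).mp h1 with h | h
    · exfalso
      apply hx1
      have := Subgroup.card_eq_one.mp h
      rw [zpowers_eq_bot] at this
      exact this
    · rw [hE, h]
  rw [mem_centralizer_iff]
  intro y hy
  rw [← hz] at hy
  obtain ⟨k, rfl⟩ := mem_zpowers_iff.mp hy
  exact (Commute.zpow_left (show Commute x u from hxu) k)

/-- **B&G Theorem 11.3**: `M_σ` is nilpotent. -/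
theorem thm_11_3 (hG : IsMinSimpleOddOrder G) (h4 : Stmt1404 G) (h10 : Stmt1410 G)
    (hσ : SigmaHallIn M) (e : Exc M p A₀ A) : Group.IsNilpotent ↥(sigmaCore M) := by
  obtain ⟨P, g, hPp, hPM, hPi, hAP, hg, hgM⟩ := e.exists_outer
  have hAg : A ≤ cj g M := e.le_cj_of_normalizer hPM hAP hg
  have hfix := e.cor_11_2_b hG h4 h10 hσ hgM hAg
  have hEM : cj g A₀ ≤ M := by
    calc cj g A₀ ≤ cj g P := cj_mono (e.le₀.trans hAP)
      _ = P := cj_eq_self_iff.mpr hg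
      _ ≤ M := hPM
  have hEcard : Nat.card (cj g A₀) = p := by rw [card_cj, e.card₀]
  have hE1 : cj g A₀ ≠ ⊥ := by
    intro h
    rw [h, card_bot] at hEcard
    exact hp.out.one_lt.ne hEcard
  refine Cfsg.Agent.Lib.Helper56.FrobApply.nilpotent_kernel (sigmaCore M) (cj g A₀) hE1 ?_ ?_
  · intro x hx u hu
    exact BG.sigmaCore_conj_mem M (hEM hx) hu
  · intro x hx hx1 u hu hxu
    have h1 : u ∈ sigmaCore M ⊓ centralizer ((cj g A₀ : Subgroup G) : Set G) :=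
      ⟨hu, le_centralizer_of_commute hEcard hx hx1 hxu⟩
    rw [hfix] at h1
    exact h1

/-- **B&G Corollary 11.6 (b)**: `C_{M_σ}(A) = 1` (via Theorems 7.4 and 7.5). -/
theorem cor_11_6_b (hG : IsMinSimpleOddOrder G) (h10 : Stmt1410 G)
    (hσ : SigmaHallIn M) (e : Exc M p A₀ A) : sigmaCore M ⊓ centralizer (A : Set G) = ⊥ := by
  by_contra hne
  set D := sigmaCore M ⊓ centralizer (A : Set G) with hD
  have hcard : Nat.card D ≠ 1 := fun h => hne (Subgroup.card_eq_one.mp h)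
  obtain ⟨q, hq, hqD⟩ := Nat.exists_prime_and_dvd hcard
  haveI : Fact q.Prime := ⟨hq⟩
  have hqσ : q ∈ sigma M := mem_sigma_of_dvd_card_le (inf_le_left : D ≤ sigmaCore M) hq hqD
  have hqp : q ≠ p := fun h => e.notSigma (h ▸ hqσ)
  have hqA := e.not_dvd_card hq hqp
  have hqC : q ∣ Nat.card (centralizer (A : Set G)) :=
    dvd_trans hqD (Subgroup.card_dvd_of_le (inf_le_right : D ≤ centralizer (A : Set G)))
  have hTH := e.transHyp hG h10
  have hZ : ¬ RankLE 1 ↥(A ⊓ centralizer (A : Set G)) := by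
    rw [inf_of_le_left e.le_cent]
    refine BG10.not_rankLE_one_of_elemAb e.elem le_rfl ?_
    rw [e.card]
    have := hp.out.one_lt
    nlinarith
  have htr := transitivity_74 hG hTH hZ hq hqA hqC
  obtain ⟨P, hPp, hPM, hPi, hAP, hNP⟩ := e.exists_sylow
  have hPtop : P ≠ ⊤ := fun h => e.coatom.1 (top_le_iff.mp (h ▸ hPM))
  have hPπ : ∀ r : ℕ, r.Prime → r ∣ Nat.card P → r ∣ Nat.card A := by
    intro r hr hrd
    obtain ⟨n, hn⟩ := IsPGroup.iff_card.mp hPp
    rw [hn] at hrd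
    have : r = p := (Nat.prime_dvd_prime_iff_eq hr hp.out).mp (hr.dvd_of_dvd_pow hrd)
    rw [this, e.card]
    exact dvd_pow_self p (by norm_num)
  have hsn : (A.subgroupOf P).IsSubnormal :=
    Cfsg.Agent.Lib.Helper91.isSubnormal_of_isNilpotent hPp.isNilpotent _
  obtain ⟨-, -, -, h75⟩ := Cfsg.Agent.S1395.result hG A hTH q hq hqA P hPtop hPπ hAP hsn
    (fun Q₁ h₁ Q₂ h₂ => htr Q₁ h₁ Q₂ h₂)
  -- a `P`-invariant Sylow `q`-subgroup of `M_σ`
  have hPσ : P ≤ normalizer ((sigmaCore M : Subgroup G) : Set G) :=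
    hPM.trans (BG.le_normalizer_sigmaCore M)
  have hcop : (Nat.card P).Coprime (Nat.card (sigmaCore M)) := by
    obtain ⟨n, hn⟩ := IsPGroup.iff_card.mp hPp
    rw [hn]
    refine Nat.Coprime.pow_left n ((Nat.Prime.coprime_iff_not_dvd hp.out).mpr ?_)
    intro h
    exact e.notSigma (mem_sigma_of_dvd_card_le le_rfl hp.out h)
  haveI : Group.IsSolvable ↥P := isSolvable_of_ne_top hG hPtop
  obtain ⟨S, hS⟩ := exists_invariant_sylow (p := q) P (sigmaCore M) hPσ hcop (Or.inl inferInstance)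
  obtain ⟨hQp, hQσ, hQi⟩ := sylow_sigmaCore_facts hσ hqσ S
  set Q := (S : Subgroup ↥(sigmaCore M)).map (sigmaCore M).subtype with hQ
  have hQM : Q ≤ M := hQσ.trans (sigmaCore_le M)
  have hNQ : normalizer (Q : Set G) ≤ M :=
    normalizer_le_of_sigma hqσ hQM hQp
      (fun h => hQi (dvd_trans h (Subgroup.relIndex_dvd_index_of_le hQM)))
  have h := (h75 Q (mem_maxInv_of_sylow hQp hQi hS)).2
  apply hNP
  rw [h]
  refine sup_le ?_ (inf_le_right.trans hNQ)
  exact (piCoreOf_le _ _).trans ((Subgroup.centralizer_le hAP).trans e.cent_le)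

/-- For nilpotent `M_σ` and `q ∈ σ(M)`: the Sylow `q`-subgroup of `M_σ` is normal in `M`, is a Sylow
`q`-subgroup of `G`, and contains every `q`-subgroup of `M`. -/
theorem exists_normal_sylow {M : Subgroup G} (hσ : SigmaHallIn M)
    (hnil : Group.IsNilpotent ↥(sigmaCore M)) {q : ℕ} [Fact q.Prime] (hq : q ∈ sigma M) :
    ∃ Q : Subgroup G, IsPGroup q Q ∧ Q ≤ sigmaCore M ∧ ¬ q ∣ Q.index ∧
      M ≤ normalizer (Q : Set G) ∧ ∀ X : Subgroup G, X ≤ M → IsPGroup q X → X ≤ Q := by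
  obtain ⟨S⟩ : Nonempty (Sylow q ↥(sigmaCore M)) := inferInstance
  obtain ⟨hQp, hQσ, hQi⟩ := sylow_sigmaCore_facts hσ hq S
  have hall : ∀ X : Subgroup G, X ≤ M → IsPGroup q X →
      X ≤ (S : Subgroup ↥(sigmaCore M)).map (sigmaCore M).subtype := by
    intro X hXM hX x hx
    have hxσ : x ∈ sigmaCore M := le_sigmaCore_of_sigma hσ hq hXM hX hx
    have hxo : ∃ k : ℕ, orderOf (⟨x, hxσ⟩ : ↥(sigmaCore M)) = q ^ k := by
      obtain ⟨k, hk⟩ := (IsPGroup.iff_orderOf.mp hX) ⟨x, hx⟩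
      refine ⟨k, ?_⟩
      rw [← hk, ← Subgroup.orderOf_coe, ← Subgroup.orderOf_coe]
    have := mem_of_not_dvd_index (S : Subgroup ↥(sigmaCore M)) S.not_dvd_index hxo
    exact ⟨⟨x, hxσ⟩, this, rfl⟩
  refine ⟨_, hQp, hQσ, hQi, ?_, hall⟩
  intro m hm
  rw [← cj_eq_self_iff]
  apply eq_of_le_of_card_ge
  · exact hall _ (Cfsg.Agent.Lib.Helper56.BG10.cj_le_of_mem hm (hQσ.trans (sigmaCore_le M)))
      (isPGroup_cj hQp)
  · rw [card_cj]

/-- **B&G Corollary 11.4**: a maximal subgroup `H ≥ A` with `H_σ ∩ M_σ ≠ 1` equals `M`. -/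
theorem cor_11_4 (hG : IsMinSimpleOddOrder G) (h4 : Stmt1404 G) (h10 : Stmt1410 G)
    (hσ : SigmaHallIn M) (e : Exc M p A₀ A) {H : Subgroup G} (hH : IsCoatom H) (hAH : A ≤ H)
    (hne : sigmaCore H ⊓ sigmaCore M ≠ ⊥) : H = M := by
  have hnil := e.thm_11_3 hG h4 h10 hσ
  set D := sigmaCore H ⊓ sigmaCore M with hD
  have hcard : Nat.card D ≠ 1 := fun h => hne (Subgroup.card_eq_one.mp h)
  obtain ⟨q, hq, hqD⟩ := Nat.exists_prime_and_dvd hcard
  haveI : Fact q.Prime := ⟨hq⟩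
  have hqσ : q ∈ sigma M := mem_sigma_of_dvd_card_le (inf_le_right : D ≤ sigmaCore M) hq hqD
  have hqH : q ∈ sigma H := mem_sigma_of_dvd_card_le (inf_le_left : D ≤ sigmaCore H) hq hqD
  obtain ⟨x, hx⟩ := exists_prime_orderOf_dvd_card' (G := ↥D) q hqD
  set Dq : Subgroup G := zpowers (x : G) with hDq
  have hxD : (x : G) ∈ D := x.2
  have hDqD : Dq ≤ D := (zpowers_le).mpr hxD
  have hox : orderOf (x : G) = q := by rw [Subgroup.orderOf_coe]; exact hx
  have hDqp : IsPGroup q Dq := by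
    apply IsPGroup.of_card (n := 1)
    rw [hDq, Nat.card_zpowers, hox, pow_one]
  have hDqne : Dq ≠ ⊥ := by
    intro h
    rw [hDq, zpowers_eq_bot] at h
    rw [h, orderOf_one] at hox
    exact hq.one_lt.ne hox
  have hDqM : Dq ≤ M := hDqD.trans (inf_le_right.trans (sigmaCore_le M))
  have hDqH : Dq ≤ H := hDqD.trans (inf_le_left.trans (sigmaCore_le H))
  -- the normal Sylow `q`-subgroup `Q₁` of `M`
  obtain ⟨Q₁, hQ₁p, hQ₁σ, hQ₁i, hQ₁n, hQ₁all⟩ := exists_normal_sylow hσ hnil hqσ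
  -- a Sylow `q`-subgroup `T` of `H` containing `Dq`
  have hDq' : IsPGroup q (Dq.subgroupOf H) := hDqp.comap_subtype
  obtain ⟨T₀, hT₀⟩ := hDq'.exists_le_sylow
  obtain ⟨hTH, hTp, hTi⟩ := sylow_map_facts H T₀
  set T := (T₀ : Subgroup ↥H).map H.subtype with hT
  have hDqT : Dq ≤ T := by
    intro a ha
    exact ⟨⟨a, hDqH ha⟩, hT₀ (by rw [mem_subgroupOf]; exact ha), rfl⟩
  have hTiG : ¬ q ∣ T.index := not_dvd_index_of_sigma hqH hTH hTp hTi
  have hNT : normalizer (T : Set G) ≤ H := normalizer_le_of_sigma hqH hTH hTp hTi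
  -- `T` and `Q₁` are conjugate in `G`
  obtain ⟨y, hy⟩ : ∃ y : G, T = cj y Q₁ := by
    obtain ⟨y, hy⟩ := MulAction.exists_smul_eq G (hQ₁p.toSylow hQ₁i) (hTp.toSylow hTiG)
    refine ⟨y, ?_⟩
    have h1 := congrArg (fun S : Sylow q G => (S : Subgroup G)) hy
    simp only [IsPGroup.toSylow_coe] at h1
    rw [cj_eq_smul]
    exact h1.symm
  have hconj : Dq.map (MulAut.conj y⁻¹).toMonoidHom ≤ M := by
    have : cj y⁻¹ Dq ≤ M := by
      rw [cj_le_iff, inv_inv]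
      calc Dq ≤ T := hDqT
        _ = cj y Q₁ := hy
        _ ≤ cj y M := cj_mono (hQ₁σ.trans (sigmaCore_le M))
    exact this
  obtain ⟨m, hm, c, hc, hymc⟩ := (h4 M e.coatom q hqσ Dq hDqp hDqne hDqM).1 y⁻¹ hconj
  have hyeq : y = c⁻¹ * m⁻¹ := by
    have := congrArg (·⁻¹) hymc
    simpa using this
  have hT' : T = cj c⁻¹ Q₁ := by
    rw [hy, hyeq, cj_mul, cj_eq_self_iff.mpr (hQ₁n (M.inv_mem hm))]
  have hle : cj c⁻¹ M ≤ H := by
    refine le_trans ?_ hNT
    rw [hT', normalizer_cj]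
    exact cj_mono hQ₁n
  have hMeq : M = cj c H := by
    have h1 : M ≤ cj c H := by
      rw [le_cj_iff]; exact hle
    by_contra hne'
    have hlt : M < cj c H := lt_of_le_of_ne h1 hne'
    have htop := e.coatom.2 _ hlt
    apply hH.1
    rw [cj_eq_iff, cj_top] at htop
    exact htop
  have hHeq : H = cj c⁻¹ M := by rw [hMeq, cj_inv_cj]
  by_cases hcM : c⁻¹ ∈ M
  · rw [hHeq, cj_eq_self_of_mem hcM]
  · exfalso
    have h0 := e.cor_11_2_a hG h4 h10 hσ hcM (hHeq ▸ hAH)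
    apply hDqne
    rw [eq_bot_iff, ← h0]
    exact le_inf (hDqD.trans inf_le_right) (hHeq ▸ hDqH)

end Exc

end Cfsg.Agent.Lib.Helper47.BG11
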