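import Cfsg.Agent.Lib.Helper47.BG11b
import Cfsg.Agent.Lib.Helper31.GenRank

set_option autoImplicit false
set_option linter.style.haveILetI false
set_option linter.unusedSectionVars false

/-!
# Bender–Glauberman §11, part C: Theorem 11.5 (Sylow `p`-subgroups of `M` are abelian),
Corollary 11.6 (a), (c)

Armed style: the two purely `p`-group-theoretic inputs (`OrbitStmt`, `CentCommStmt`) and
`sigmaCore M ≠ ⊥` are hypotheses.
-/

namespace Cfsg.Agent.Lib.Helper47.BG11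

open Subgroup Cfsg Cfsg.Agent.Lib.Helper33 Cfsg.Agent.Lib.Helper24 Cfsg.Agent.Lib.Helper32
open Cfsg.Agent.Lib.Helper24.BG Cfsg.Agent.Lib.Helper23 Cfsg.Agent.Lib.Helper63
open Cfsg.Agent.Lib.Helper31 Cfsg.Agent.Lib.Helper48

universe u

variable {G : Type u} [Group G] [Finite G]

/-- The orbit lemma: a `p`-element `u` normalizing `A ≅ Z_p × Z_p`, centralizing the line `Z`
but not `A`, permutes the other lines transitively. -/
def OrbitStmt (G : Type u) [Group G] : Prop :=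
  ∀ {p : ℕ} [Fact p.Prime] {A Z A₀ : Subgroup G}, IsElementaryAbelian p A → Nat.card A = p ^ 2 →
    Z ≤ A → Nat.card Z = p → A₀ ≤ A → Nat.card A₀ = p → A₀ ≠ Z →
    ∀ {u : G}, u ∈ normalizer (A : Set G) → (∃ k : ℕ, u ^ p ^ k = 1) →
      u ∈ centralizer (Z : Set G) → u ∉ centralizer (A : Set G) →
      ∀ {X : Subgroup G}, X ≤ A → Nat.card X = p → X ≠ Z → ∃ k : ℕ, X = cj (u ^ k) A₀

/-- For a Sylow `p`-subgroup `S` of `G` and a maximal elementary abelian `A ≤ S` of order `p²`,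
`C_S(A)` is abelian. -/
def CentCommStmt (G : Type u) [Group G] : Prop :=
  ∀ {p : ℕ} [Fact p.Prime] (S : Sylow p G) {A : Subgroup G}, A ≤ (S : Subgroup G) →
    IsElementaryAbelian p A → Nat.card A = p ^ 2 →
    (∀ B : Subgroup G, IsElementaryAbelian p B → A ≤ B → B = A) →
    ∀ x ∈ (S : Subgroup G) ⊓ centralizer (A : Set G),
      ∀ y ∈ (S : Subgroup G) ⊓ centralizer (A : Set G), x * y = y * x

/-- a subgroup of prime order is generated by each of its non-identity elements -/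
theorem zpowers_eq_of_card_prime {p : ℕ} [hp : Fact p.Prime] {E : Subgroup G}
    (hE : Nat.card E = p) {x : G} (hx : x ∈ E) (hx1 : x ≠ 1) : zpowers x = E := by
  apply eq_of_le_of_card_ge ((zpowers_le).mpr hx)
  have h1 : Nat.card (zpowers x) ∣ p := hE ▸ Subgroup.card_dvd_of_le ((zpowers_le).mpr hx)
  rcases (Nat.dvd_prime hp.out).mp h1 with h | h
  · exfalso
    apply hx1
    have := Subgroup.card_eq_one.mp h
    rw [zpowers_eq_bot] at this
    exact this
  · rw [hE, h]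

/-- a nontrivial `p`-subgroup has a central element of order `p` -/
theorem exists_central_order_p {p : ℕ} [hp : Fact p.Prime] {P : Subgroup G} (hPp : IsPGroup p P)
    (hP1 : P ≠ ⊥) :
    ∃ w ∈ P, w ∈ centralizer (P : Set G) ∧ w ≠ 1 ∧ w ^ p = 1 := by
  haveI : Nontrivial ↥P := (Subgroup.nontrivial_iff_ne_bot P).mpr hP1
  haveI : Nontrivial ↥(center ↥P) := hPp.center_nontrivial
  have hcp : IsPGroup p ↥(center ↥P) := hPp.to_subgroup _
  obtain ⟨n, hn⟩ := IsPGroup.iff_card.mp hcp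
  have hn0 : n ≠ 0 := by
    rintro rfl
    rw [pow_zero] at hn
    have : Subsingleton ↥(center ↥P) := (Nat.card_eq_one_iff_unique.mp hn).1
    exact not_subsingleton _ this
  have hdvd : p ∣ Nat.card ↥(center ↥P) := by
    rw [hn]
    exact dvd_pow_self p hn0
  obtain ⟨x, hx⟩ := exists_prime_orderOf_dvd_card' (G := ↥(center ↥P)) p hdvd
  refine ⟨((x : ↥P) : G), (x : ↥P).2, ?_, ?_, ?_⟩
  · rw [mem_centralizer_iff]
    intro y hy
    have h1 := (Subgroup.mem_center_iff.mp x.2) ⟨y, hy⟩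
    exact congrArg Subtype.val h1
  · intro h
    have h1 : x = 1 := by
      apply Subtype.ext
      apply Subtype.ext
      exact h
    rw [h1, orderOf_one] at hx
    exact hp.out.one_lt.ne hx
  · have h1 : x ^ p = 1 := by rw [← hx]; exact pow_orderOf_eq_one x
    have h2 := congrArg (fun t : ↥(center ↥P) => ((t : ↥P) : G)) h1
    simpa using h2

namespace Exc

variable {M A₀ A : Subgroup G} {p : ℕ} [hp : Fact p.Prime]

/-- an element outside `M` normalizing a given Sylow `p`-subgroup of `M` -/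
theorem exists_outer_of (e : Exc M p A₀ A) {P : Subgroup G} (hPp : IsPGroup p P) (hPM : P ≤ M)
    (hPi : ¬ p ∣ P.relIndex M) : ∃ g ∈ normalizer (P : Set G), g ∉ M := by
  by_contra hcon
  push Not at hcon
  obtain ⟨P', hP'⟩ := exists_sylow_map_eq M P hPM hPp hPi
  apply e.notSigma
  refine ⟨hp.out, e.dvd_card, P', ?_⟩
  rw [hP']
  exact fun g hg => hcon g hg

/-- if `A ≤ Z(P)` then `A` contains all elements of order dividing `p` of `P` -/
theorem omega_le (e : Exc M p A₀ A) {P : Subgroup G}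
    (hc : A ≤ centralizer (P : Set G)) : ∀ x ∈ P, x ^ p = 1 → x ∈ A := by
  intro x hx hxp
  apply mem_of_maximal e.elem e.maxA _ hxp
  rw [mem_centralizer_iff]
  intro a ha
  exact (mem_centralizer_iff.mp (hc ha) x hx).symm

theorem card_Z (e : Exc M p A₀ A) {P : Subgroup G} (hPp : IsPGroup p P) (hAP : A ≤ P)
    (hnc : ¬ A ≤ centralizer (P : Set G)) :
    Nat.card ↥(A ⊓ centralizer (P : Set G)) = p := by
  have hP1 : P ≠ ⊥ := fun h => e.ne_bot (eq_bot_iff.mpr (h ▸ hAP))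
  obtain ⟨w, hwP, hwc, hw1, hwp⟩ := exists_central_order_p hPp hP1
  have hwA : w ∈ A := by
    apply mem_of_maximal e.elem e.maxA _ hwp
    rw [mem_centralizer_iff]
    intro a ha
    exact mem_centralizer_iff.mp hwc a (hAP ha)
  have hdvd : Nat.card ↥(A ⊓ centralizer (P : Set G)) ∣ p ^ 2 :=
    e.card ▸ Subgroup.card_dvd_of_le inf_le_left
  obtain ⟨i, hi, hci⟩ := (Nat.dvd_prime_pow hp.out).mp hdvd
  interval_cases i
  · exfalso
    have h0 : A ⊓ centralizer (P : Set G) = ⊥ := Subgroup.card_eq_one.mp (by simpa using hci)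
    have hw : w ∈ A ⊓ centralizer (P : Set G) := ⟨hwA, hwc⟩
    rw [h0, mem_bot] at hw
    exact hw1 hw
  · simpa using hci
  · exfalso
    apply hnc
    have h2 : A ⊓ centralizer (P : Set G) = A :=
      eq_of_le_of_card_ge inf_le_left (by rw [hci, e.card])
    rw [← h2]
    exact inf_le_right

theorem cj_Z (e : Exc M p A₀ A) {P : Subgroup G} (hAP : A ≤ P) {g : G}
    (hg : g ∈ normalizer (P : Set G)) :
    cj g (A ⊓ centralizer (P : Set G)) = A ⊓ centralizer (P : Set G) := by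
  apply eq_of_le_of_card_ge
  · intro x hx
    obtain ⟨z, hz, rfl⟩ := mem_cj'.mp hx
    have hzc : g * z * g⁻¹ ∈ centralizer (P : Set G) := by
      have h1 : g * z * g⁻¹ ∈ cj g (centralizer (P : Set G)) := conj_mem_cj hz.2
      rwa [← centralizer_cj, cj_eq_self_iff.mpr hg] at h1
    refine ⟨?_, hzc⟩
    apply mem_of_maximal e.elem e.maxA
    · rw [mem_centralizer_iff]
      intro a ha
      exact mem_centralizer_iff.mp hzc a (hAP ha)
    · rw [conj_pow, e.elem.2 z hz.1]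
      group
  · rw [card_cj]

theorem exists_u (e : Exc M p A₀ A) {P : Subgroup G} (hPp : IsPGroup p P) (hAP : A ≤ P)
    (hnc : ¬ A ≤ centralizer (P : Set G)) :
    ∃ u ∈ P, u ∈ normalizer (A : Set G) ∧ u ∉ centralizer (A : Set G) := by
  haveI : Group.IsNilpotent ↥P := hPp.isNilpotent
  set C : Subgroup G := P ⊓ centralizer (A : Set G) with hC
  have hlt : C.subgroupOf P < ⊤ := by
    rw [lt_top_iff_ne_top]
    intro h
    apply hnc
    have hPC : P ≤ C := subgroupOf_eq_top.mp h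
    intro a ha
    rw [mem_centralizer_iff]
    intro y hy
    exact (mem_centralizer_iff.mp (hPC hy).2 a ha).symm
  have hn := Group.normalizerCondition_of_isNilpotent (G := ↥P) _ hlt
  obtain ⟨u', hu'n, hu'C⟩ := SetLike.exists_of_lt hn
  refine ⟨(u' : G), u'.2, ?_, ?_⟩
  · rw [← cj_eq_self_iff]
    apply eq_of_le_of_card_ge _ (by rw [card_cj])
    intro x hx
    obtain ⟨a, ha, rfl⟩ := mem_cj'.mp hx
    have haC : (⟨a, hAP ha⟩ : ↥P) ∈ C.subgroupOf P := by
      rw [mem_subgroupOf]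
      exact ⟨hAP ha, e.le_cent ha⟩
    have h1 := (mem_normalizer_iff.mp hu'n ⟨a, hAP ha⟩).mp haC
    rw [mem_subgroupOf] at h1
    have h2 : (u' : G) * a * (u' : G)⁻¹ ∈ C := by simpa using h1
    apply mem_of_maximal e.elem e.maxA h2.2
    rw [conj_pow, e.elem.2 a ha]
    group
  · intro h
    apply hu'C
    rw [mem_subgroupOf]
    exact ⟨u'.2, h⟩

/-- Key step of **B&G Theorem 11.5**: `A ≤ Z(P)` for a Sylow `p`-subgroup `P ≥ A` of `M`. -/
theorem le_center_sylow (hG : IsMinSimpleOddOrder G) (h4 : Stmt1404 G) (h10 : Stmt1410 G)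
    (hσ : SigmaHallIn M) (hO : OrbitStmt G) (hne : sigmaCore M ≠ ⊥) (e : Exc M p A₀ A)
    {P : Subgroup G} (hPp : IsPGroup p P) (hPM : P ≤ M) (hPi : ¬ p ∣ P.relIndex M)
    (hAP : A ≤ P) : A ≤ centralizer (P : Set G) := by
  by_contra hnc
  obtain ⟨g, hgP, hgM⟩ := e.exists_outer_of hPp hPM hPi
  set Z := A ⊓ centralizer (P : Set G) with hZdef
  have hZA : Z ≤ A := inf_le_left
  have hZcard : Nat.card Z = p := e.card_Z hPp hAP hnc
  have hZg : cj g Z = Z := e.cj_Z hAP hgP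
  have hZne : A₀ ≠ Z := by
    intro h
    apply hgM
    apply e.norm
    rw [h, ← cj_eq_self_iff]
    exact hZg
  have hZbot : Z ≠ ⊥ := by
    intro h
    rw [h, Subgroup.card_bot] at hZcard
    exact hp.out.one_lt.ne hZcard
  obtain ⟨u, huP, huA, hunc⟩ := e.exists_u hPp hAP hnc
  have hup : ∃ k : ℕ, u ^ p ^ k = 1 := by
    obtain ⟨k, hk⟩ := hPp ⟨u, huP⟩
    exact ⟨k, by simpa using congrArg Subtype.val hk⟩
  have huZ : u ∈ centralizer (Z : Set G) := by
    rw [mem_centralizer_iff]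
    intro z hz
    exact (mem_centralizer_iff.mp hz.2 u huP).symm
  -- the prime `q`
  have hnil := e.thm_11_3 hG h4 h10 hσ
  have hcard : Nat.card (sigmaCore M) ≠ 1 := fun h => hne (Subgroup.card_eq_one.mp h)
  obtain ⟨q, hq, hqD⟩ := Nat.exists_prime_and_dvd hcard
  haveI : Fact q.Prime := ⟨hq⟩
  have hqσ : q ∈ sigma M := mem_sigma_of_dvd_card_le le_rfl hq hqD
  have hqp : q ≠ p := fun h => e.notSigma (h ▸ hqσ)
  obtain ⟨Q, hQp, hQσ, hQi, hQn, -⟩ := exists_normal_sylow hσ hnil hqσ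
  have hQM : Q ≤ M := hQσ.trans (sigmaCore_le M)
  have hQne : Q ≠ ⊥ := by
    intro h
    apply hQi
    rw [h, Subgroup.index_bot]
    exact dvd_trans hqD (Subgroup.card_subgroup_dvd_card _)
  set Q₂ := cj g Q with hQ₂def
  have hQ₂p : IsPGroup q Q₂ := isPGroup_cj hQp
  have hQ₂i : ¬ q ∣ Q₂.index := by rw [hQ₂def, index_cj]; exact hQi
  have hQ₂M : Q₂ ≤ cj g M := cj_mono hQM
  have hPQ₂ : P ≤ normalizer (Q₂ : Set G) := by
    rw [hQ₂def, normalizer_cj]
    calc P = cj g P := (cj_eq_self_iff.mpr hgP).symm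
      _ ≤ cj g (normalizer (Q : Set G)) := cj_mono (hPM.trans hQn)
  have hAQ : A ≤ normalizer (Q : Set G) := e.le.trans hQn
  have hAQ₂ : A ≤ normalizer (Q₂ : Set G) := hAP.trans hPQ₂
  -- `Z` is fixed-point-free on `Q₂`
  have hfixZ : Q₂ ⊓ centralizer (Z : Set G) = ⊥ := by
    rcases lemma_11_1_b hG h4 (e.transHyp hG h10) e.le_cent e.coatom e.cent_le hqσ
      (e.not_dvd_card hq hqp) hgM hQp hQi hQM hAQ hQ₂p hQ₂i hQ₂M hAQ₂ hZA hZbot with h | h
    · rw [eq_bot_iff]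
      intro x hx
      have h1 : g⁻¹ * x * g ∈ Q := mem_cj.mp hx.1
      have h2 : g⁻¹ * x * g ∈ centralizer (Z : Set G) := by
        have h3 : x ∈ cj g (centralizer (Z : Set G)) := by
          rw [← centralizer_cj, hZg]
          exact hx.2
        exact mem_cj.mp h3
      have h4' : g⁻¹ * x * g ∈ Q ⊓ centralizer (Z : Set G) := ⟨h1, h2⟩
      rw [h, mem_bot] at h4'
      rw [mem_bot]
      calc x = g * (g⁻¹ * x * g) * g⁻¹ := by group
        _ = 1 := by rw [h4']; group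
    · exact h
  -- `A₀` is fixed-point-free on `Q₂`
  have hginv : g⁻¹ ∉ M := fun h => hgM (by simpa using M.inv_mem h)
  have hginvP : g⁻¹ ∈ normalizer (P : Set G) := (normalizer (P : Set G)).inv_mem hgP
  have h112 := e.cor_11_2_a hG h4 h10 hσ hginv (e.le_cj_of_normalizer hPM hAP hginvP)
  have hfixA₀ : Q₂ ⊓ centralizer (A₀ : Set G) = ⊥ := by
    rw [eq_bot_iff]
    intro x hx
    have h1 : g⁻¹ * x * g ∈ sigmaCore M := hQσ (mem_cj.mp hx.1)
    have h2 : x ∈ M := e.norm (centralizer_le_normalizer _ hx.2)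
    have h3 : g⁻¹ * x * g ∈ cj g⁻¹ M := by
      rw [mem_cj]
      simpa [mul_assoc] using h2
    have h5 : g⁻¹ * x * g ∈ sigmaCore M ⊓ cj g⁻¹ M := ⟨h1, h3⟩
    rw [h112, mem_bot] at h5
    rw [mem_bot]
    calc x = g * (g⁻¹ * x * g) * g⁻¹ := by group
      _ = 1 := by rw [h5]; group
  -- all lines are fixed-point-free on `Q₂`
  have hlines : ∀ X : Subgroup G, X ≤ A → Nat.card X = p →
      Q₂ ⊓ centralizer (X : Set G) = ⊥ := by
    intro X hXA hX
    by_cases hXZ : X = Z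
    · rw [hXZ]; exact hfixZ
    · obtain ⟨k, hk⟩ := hO e.elem e.card hZA hZcard e.le₀ e.card₀ hZne huA hup huZ hunc hXA hX hXZ
      have hukP : u ^ k ∈ P := P.pow_mem huP k
      have hfix : cj (u ^ k) Q₂ = Q₂ := cj_eq_self_iff.mpr (hPQ₂ hukP)
      calc Q₂ ⊓ centralizer (X : Set G)
          = cj (u ^ k) Q₂ ⊓ cj (u ^ k) (centralizer (A₀ : Set G)) := by
            rw [hfix, hk, centralizer_cj]
        _ = cj (u ^ k) (Q₂ ⊓ centralizer (A₀ : Set G)) := (cj_inf _ _ _).symm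
        _ = ⊥ := by rw [hfixA₀, cj_bot]
  -- coprime generation
  obtain ⟨a', ha'⟩ := (Subgroup.ne_bot_iff_exists_ne_one).mp e.ne_bot₀
  obtain ⟨b', hb'⟩ := (Subgroup.ne_bot_iff_exists_ne_one).mp hZbot
  set a : G := (a' : G) with ha
  set b : G := (b' : G) with hb
  have haA₀ : a ∈ A₀ := a'.2
  have hbZ : b ∈ Z := b'.2
  have ha1 : a ≠ 1 := fun h => ha' (Subtype.ext h)
  have hb1 : b ≠ 1 := fun h => hb' (Subtype.ext h)
  have haA : a ∈ A := e.le₀ haA₀
  have hbA : b ∈ A := hZA hbZ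
  have hap : a ^ p = 1 := e.elem.2 a haA
  have hbp : b ^ p = 1 := e.elem.2 b hbA
  have hab : a * b = b * a := e.comm a haA b hbA
  have hpQ₂ : ¬ p ∣ Nat.card Q₂ := by
    obtain ⟨n, hn⟩ := IsPGroup.iff_card.mp hQ₂p
    rw [hn]
    intro h
    exact hqp ((Nat.prime_dvd_prime_iff_eq hp.out hq).mp (hp.out.dvd_of_dvd_pow h)).symm
  have hgen := coprime_gen_of_normalizer Q₂ a b (hAQ₂ haA) (hAQ₂ hbA) hap hbp hab hpQ₂
  have hbot : genSub Q₂ a b ≤ ⊥ := by
    unfold genSub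
    refine iSup₂_le fun c hc => ?_
    have hcA : c ∈ A := by
      rcases hc with rfl | ⟨n, rfl⟩
      · exact hbA
      · exact A.mul_mem haA (A.pow_mem hbA n)
    have hc1 : c ≠ 1 := by
      rcases hc with rfl | ⟨n, rfl⟩
      · exact hb1
      · intro h
        apply hZne
        have haZ : a ∈ Z := by
          have : a = (b ^ n)⁻¹ := eq_inv_of_mul_eq_one_left h
          rw [this]
          exact Z.inv_mem (Z.pow_mem hbZ n)
        rw [← zpowers_eq_of_card_prime e.card₀ haA₀ ha1, zpowers_eq_of_card_prime hZcard haZ ha1]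
    have hcp : c ^ p = 1 := e.elem.2 c hcA
    have hXcard : Nat.card (zpowers c) = p := by
      rw [Nat.card_zpowers]
      exact orderOf_eq_prime hcp hc1
    have hX := hlines (zpowers c) ((zpowers_le).mpr hcA) hXcard
    rw [← hX]
    refine le_inf inf_le_left ?_
    intro x hx
    have hxc : x ∈ centralizer ({c} : Set G) := hx.2
    have hcomm : c * x = x * c := mem_centralizer_iff.mp hxc c rfl
    exact le_centralizer_of_commute hXcard (mem_zpowers c) hc1 hcomm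
  apply hQne
  rw [← cj_eq_bot_iff (g := g)]
  exact eq_bot_iff.mpr (hgen.trans hbot)

/-- **B&G Theorem 11.5 and Corollary 11.6 (a)**: a Sylow `p`-subgroup `P ≥ A` of `M` is abelian
and `A = Ω₁(P)`. -/
theorem thm_11_5 (hG : IsMinSimpleOddOrder G) (h4 : Stmt1404 G) (h10 : Stmt1410 G)
    (hσ : SigmaHallIn M) (hO : OrbitStmt G) (hCA : CentCommStmt G) (hne : sigmaCore M ≠ ⊥)
    (e : Exc M p A₀ A) {P : Subgroup G} (hPp : IsPGroup p P) (hPM : P ≤ M)
    (hPi : ¬ p ∣ P.relIndex M) (hAP : A ≤ P) :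
    (∀ a ∈ P, ∀ b ∈ P, a * b = b * a) ∧ ∀ x ∈ P, x ^ p = 1 → x ∈ A := by
  have hc := e.le_center_sylow hG h4 h10 hσ hO hne hPp hPM hPi hAP
  refine ⟨?_, e.omega_le hc⟩
  obtain ⟨S, hPS⟩ := hPp.exists_le_sylow
  have hcent : ∀ a ∈ P, a ∈ centralizer (A : Set G) := by
    intro a ha
    rw [mem_centralizer_iff]
    intro x hx
    exact (mem_centralizer_iff.mp (hc hx) a ha).symm
  intro a ha b hb
  exact hCA S (hAP.trans hPS) e.elem e.card e.maxA a ⟨hPS ha, hcent a ha⟩ b ⟨hPS hb, hcent b hb⟩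

/-- **B&G Theorem 11.5** for an arbitrary Sylow `p`-subgroup of `M`. -/
theorem stmt_11_5 (hG : IsMinSimpleOddOrder G) (h4 : Stmt1404 G) (h10 : Stmt1410 G)
    (hσ : SigmaHallIn M) (hO : OrbitStmt G) (hCA : CentCommStmt G) (hne : sigmaCore M ≠ ⊥)
    (e : Exc M p A₀ A) {P : Subgroup G} (hPp : IsPGroup p P) (hPM : P ≤ M)
    (hPi : ¬ p ∣ P.relIndex M) : ∀ a ∈ P, ∀ b ∈ P, a * b = b * a := by
  obtain ⟨P₀, hP₀p, hP₀M, hP₀i, hAP₀, -⟩ := e.exists_sylow
  have hab := (e.thm_11_5 hG h4 h10 hσ hO hCA hne hP₀p hP₀M hP₀i hAP₀).1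
  obtain ⟨P', hP'⟩ := exists_sylow_map_eq M P hPM hPp hPi
  obtain ⟨P₀', hP₀'⟩ := exists_sylow_map_eq M P₀ hP₀M hP₀p hP₀i
  have hcard : Nat.card P = Nat.card P₀ := by
    rw [← hP', ← hP₀', card_map_of_injective M.subtype_injective,
      card_map_of_injective M.subtype_injective, Sylow.card_eq_multiplicity,
      Sylow.card_eq_multiplicity]
  obtain ⟨k, -, hk⟩ := sylow_cj_of_facts M P₀ P hP₀M hP₀p hP₀i hPM hPp hcard
  intro a ha b hb
  rw [hk] at ha hb
  obtain ⟨a₀, ha₀, rfl⟩ := mem_cj'.mp ha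
  obtain ⟨b₀, hb₀, rfl⟩ := mem_cj'.mp hb
  have h := hab a₀ ha₀ b₀ hb₀
  calc k * a₀ * k⁻¹ * (k * b₀ * k⁻¹) = k * (a₀ * b₀) * k⁻¹ := by group
    _ = k * (b₀ * a₀) * k⁻¹ := by rw [h]
    _ = k * b₀ * k⁻¹ * (k * a₀ * k⁻¹) := by group

/-- **B&G Corollary 11.6 (c)**, in a strong form: two distinct subgroups of order `p` of `A` acting
fixed-point-freely on `M_σ` (namely `A₀^g` and `A₀^(g⁻¹)` for `g ∈ N_G(P) ∖ M`). -/
theorem exists_two_fpf (hG : IsMinSimpleOddOrder G) (h4 : Stmt1404 G) (h10 : Stmt1410 G)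
    (hσ : SigmaHallIn M) (e : Exc M p A₀ A) {P : Subgroup G} (hPp : IsPGroup p P) (hPM : P ≤ M)
    (hPi : ¬ p ∣ P.relIndex M) (hAP : A ≤ P) (hΩ : ∀ x ∈ P, x ^ p = 1 → x ∈ A) :
    ∃ A₁ A₂ : Subgroup G, A₁ ≤ A ∧ A₂ ≤ A ∧ Nat.card A₁ = p ∧ Nat.card A₂ = p ∧ A₁ ≠ A₂ ∧
      sigmaCore M ⊓ centralizer (A₁ : Set G) = ⊥ ∧ sigmaCore M ⊓ centralizer (A₂ : Set G) = ⊥ := by
  obtain ⟨g, hgP, hgM⟩ := e.exists_outer_of hPp hPM hPi
  have hginv : g⁻¹ ∉ M := fun h => hgM (by simpa using M.inv_mem h)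
  have hginvP : g⁻¹ ∈ normalizer (P : Set G) := (normalizer (P : Set G)).inv_mem hgP
  have hcjA : ∀ k : G, k ∈ normalizer (P : Set G) → cj k A ≤ A := by
    intro k hk x hx
    obtain ⟨a, ha, rfl⟩ := mem_cj'.mp hx
    apply hΩ
    · exact (mem_normalizer_iff.mp hk a).mp (hAP ha)
    · rw [conj_pow, e.elem.2 a ha]
      group
  refine ⟨cj g A₀, cj g⁻¹ A₀, (cj_mono e.le₀).trans (hcjA g hgP),
    (cj_mono e.le₀).trans (hcjA g⁻¹ hginvP), by rw [card_cj, e.card₀], by rw [card_cj, e.card₀],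
    ?_, e.cor_11_2_b hG h4 h10 hσ hgM (e.le_cj_of_normalizer hPM hAP hgP),
    e.cor_11_2_b hG h4 h10 hσ hginv (e.le_cj_of_normalizer hPM hAP hginvP)⟩
  intro h
  apply hgM
  -- `g * g` normalizes `A₀`
  have h2 : cj (g * g) A₀ = A₀ := by
    rw [cj_mul, h, ← cj_mul, mul_inv_cancel]
    exact cj_eq_self_of_mem (one_mem _)
  have hg2 : g * g ∈ M := e.norm (cj_eq_self_iff.mp h2)
  -- `g` has odd order, so it is a power of `g * g`
  have hodd : Odd (orderOf g) := Odd.of_dvd_nat hG.1 (orderOf_dvd_natCard g)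
  obtain ⟨m, hm⟩ := hodd
  have : g = (g * g) ^ (m + 1) := by
    rw [← pow_two, ← pow_mul]
    have h3 : 2 * (m + 1) = orderOf g + 1 := by omega
    rw [h3, pow_succ, pow_orderOf_eq_one, one_mul]
  rw [this]
  exact M.pow_mem hg2 _

end Exc

end Cfsg.Agent.Lib.Helper47.BG11
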