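import Cfsg.Agent.Lib.Helper47.BG11c
import Cfsg.Agent.Lib.Helper50.BG115P1
import Cfsg.Agent.Lib.Helper96.BG115P2
import Cfsg.Agent.Lib.Helper71.BG115P3
import Cfsg.Agent.S1412

set_option autoImplicit false
set_option linter.style.haveILetI false
set_option linter.unusedSectionVars false

/-!
# Bender–Glauberman §11, part D: discharging the `p`-group inputs of Theorem 11.5

`OrbitStmt` (helper71), `CentCommStmt` (helper50 rank ≥ 3, helper96 rank ≤ 2 via S1412).
-/

namespace Cfsg.Agent.Lib.Helper47.BG11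

open Subgroup Cfsg Cfsg.Agent.Lib.Helper33 Cfsg.Agent.Lib.Helper24 Cfsg.Agent.Lib.Helper32
open Cfsg.Agent.Lib.Helper24.BG Cfsg.Agent.Lib.Helper23 Cfsg.Agent.Lib.Helper63

universe u

variable {G : Type u} [Group G] [Finite G]

theorem orbitStmt : OrbitStmt G := by
  intro p _ A Z A₀ hA hcard hZA hZ hA₀A hA₀ hne u huA hup huZ hunc X hXA hX hXZ
  exact Cfsg.Agent.Lib.Helper71.BG115.orbit_lines hA hcard hZA hZ hA₀A hA₀ hne huA hup huZ hunc
    hXA hX hXZ

theorem centCommStmt (hG : IsMinSimpleOddOrder G) : CentCommStmt G := by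
  intro p _ S A hAS hA hcard hmax
  have hpp : p.Prime := Fact.out
  have hp2 : p ≠ 2 := by
    apply ne_two_of_dvd_card_subgroup hG (S := A)
    rw [hcard]
    exact dvd_pow_self p (by norm_num)
  by_cases hr : PRankLE p 2 ↥(S : Subgroup G)
  · rcases Cfsg.Agent.S1412.result hG p S hr with hab | ⟨P₁, P₂, h12, hcomm, -, hP₁, hexp, hcyc, hΩ⟩
    · intro x hx y hy
      have := hab.is_comm.comm ⟨x, hx.1⟩ ⟨y, hy.1⟩
      exact congrArg Subtype.val this
    · exact Cfsg.Agent.Lib.Helper96.BG115.cent_comm_rank2 h12 hcomm hP₁ hexp hcyc hΩ hAS hA hcard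
        hmax
  · -- rank at least three: work inside `S`
    set S' : Subgroup G := (S : Subgroup G) with hS'
    set E : Subgroup ↥S' := A.subgroupOf S' with hE
    have hEel : IsElementaryAbelian p E := by
      refine ⟨⟨⟨?_⟩⟩, ?_⟩
      · rintro ⟨a, ha⟩ ⟨b, hb⟩
        apply Subtype.ext
        apply Subtype.ext
        rw [mem_subgroupOf] at ha hb
        have := hA.1.is_comm.comm ⟨(a : G), ha⟩ ⟨(b : G), hb⟩
        have h2 : (a : G) * (b : G) = (b : G) * (a : G) := congrArg Subtype.val this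
        exact h2
      · intro a ha
        rw [mem_subgroupOf] at ha
        apply Subtype.ext
        have := hA.2 (a : G) ha
        simpa using this
    have hEcard : Nat.card E = p ^ 2 := by
      rw [← hcard]
      exact Nat.card_congr (subgroupOfEquivOfLe hAS).toEquiv
    have hEmax : ∀ B : Subgroup ↥S', IsElementaryAbelian p B → E ≤ B → B = E := by
      intro B hB hEB
      have hBel : IsElementaryAbelian p (B.map S'.subtype) := by
        refine ⟨⟨⟨?_⟩⟩, ?_⟩
        · rintro ⟨a, ha⟩ ⟨b, hb⟩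
          apply Subtype.ext
          obtain ⟨a', ha', rfl⟩ := ha
          obtain ⟨b', hb', rfl⟩ := hb
          have := hB.1.is_comm.comm ⟨a', ha'⟩ ⟨b', hb'⟩
          have h2 := congrArg (fun t : ↥B => ((t : ↥S') : G)) this
          simpa using h2
        · rintro a ⟨a', ha', rfl⟩
          have := hB.2 a' ha'
          have h2 := congrArg (fun t : ↥S' => (t : G)) this
          simpa using h2
      have hAB : A ≤ B.map S'.subtype := by
        intro a ha
        refine ⟨⟨a, hAS ha⟩, hEB ?_, rfl⟩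
        rw [hE, mem_subgroupOf]
        exact ha
      have h1 := hmax _ hBel hAB
      apply le_antisymm _ hEB
      intro b hb
      rw [hE, mem_subgroupOf, ← h1]
      exact ⟨b, hb, rfl⟩
    have hR : IsPGroup p ↥S' := S.isPGroup'
    have hmain := Cfsg.Agent.Lib.Helper50.BG115.cent_comm_rank3 hp2 hR hr hEel hEcard hEmax
    intro x hx y hy
    have hxc : (⟨x, hx.1⟩ : ↥S') ∈ centralizer (E : Set ↥S') := by
      rw [mem_centralizer_iff]
      rintro ⟨a, haS⟩ ha
      apply Subtype.ext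
      have ha' : a ∈ A := by
        rw [SetLike.mem_coe, hE, mem_subgroupOf] at ha
        exact ha
      exact mem_centralizer_iff.mp hx.2 a ha'
    have hyc : (⟨y, hy.1⟩ : ↥S') ∈ centralizer (E : Set ↥S') := by
      rw [mem_centralizer_iff]
      rintro ⟨a, haS⟩ ha
      apply Subtype.ext
      have ha' : a ∈ A := by
        rw [SetLike.mem_coe, hE, mem_subgroupOf] at ha
        exact ha
      exact mem_centralizer_iff.mp hy.2 a ha'
    have := hmain _ hxc _ hyc
    exact congrArg Subtype.val this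

namespace Exc

variable {M A₀ A : Subgroup G} {p : ℕ} [hp : Fact p.Prime]

/-- **B&G Theorem 11.5 + Corollary 11.6 (a)**, only `M_σ ≠ 1` left as a hypothesis. -/
theorem thm_11_5' (hG : IsMinSimpleOddOrder G) (h4 : Stmt1404 G) (h10 : Stmt1410 G)
    (hσ : SigmaHallIn M) (hne : sigmaCore M ≠ ⊥)
    (e : Exc M p A₀ A) {P : Subgroup G} (hPp : IsPGroup p P) (hPM : P ≤ M)
    (hPi : ¬ p ∣ P.relIndex M) (hAP : A ≤ P) :
    (∀ a ∈ P, ∀ b ∈ P, a * b = b * a) ∧ ∀ x ∈ P, x ^ p = 1 → x ∈ A :=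
  e.thm_11_5 hG h4 h10 hσ orbitStmt (centCommStmt hG) hne hPp hPM hPi hAP

/-- **B&G Theorem 11.5** for an arbitrary Sylow `p`-subgroup of `M`, only `M_σ ≠ 1` left as a
hypothesis. -/
theorem stmt_11_5' (hG : IsMinSimpleOddOrder G) (h4 : Stmt1404 G) (h10 : Stmt1410 G)
    (hσ : SigmaHallIn M) (hne : sigmaCore M ≠ ⊥)
    (e : Exc M p A₀ A) {P : Subgroup G} (hPp : IsPGroup p P) (hPM : P ≤ M)
    (hPi : ¬ p ∣ P.relIndex M) : ∀ a ∈ P, ∀ b ∈ P, a * b = b * a :=
  e.stmt_11_5 hG h4 h10 hσ orbitStmt (centCommStmt hG) hne hPp hPM hPi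

/-- **B&G Corollary 11.6 (c)**, strong form (two distinct f.p.f. lines), only `M_σ ≠ 1` left as a
hypothesis. -/
theorem exists_two_fpf' (hG : IsMinSimpleOddOrder G) (h4 : Stmt1404 G) (h10 : Stmt1410 G)
    (hσ : SigmaHallIn M) (hne : sigmaCore M ≠ ⊥) (e : Exc M p A₀ A) :
    ∃ A₁ A₂ : Subgroup G, A₁ ≤ A ∧ A₂ ≤ A ∧ Nat.card A₁ = p ∧ Nat.card A₂ = p ∧ A₁ ≠ A₂ ∧
      sigmaCore M ⊓ centralizer (A₁ : Set G) = ⊥ ∧ sigmaCore M ⊓ centralizer (A₂ : Set G) = ⊥ := by
  obtain ⟨P, hPp, hPM, hPi, hAP, -⟩ := e.exists_sylow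
  exact e.exists_two_fpf hG h4 h10 hσ hPp hPM hPi hAP
    (e.thm_11_5' hG h4 h10 hσ hne hPp hPM hPi hAP).2

end Exc

end Cfsg.Agent.Lib.Helper47.BG11
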