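import Cfsg.Agent.Lib.Helper64.BG135
import Cfsg.Agent.Lib.Helper47.BG1312Main

set_option autoImplicit false
set_option linter.unusedSectionVars false

/-!
# Bender–Glauberman Theorem 13.5, unconditional

helper64's `BG135` (13.5 from 13.4 = S1428 and 13.12) with both inputs discharged
(S1428 is on main; 13.12 is `Helper47.BG1312.bg_13_12`).
-/

namespace Cfsg.Agent.Lib.Helper47.BG135U

open Subgroup Cfsg

universe u

variable {G : Type u} [Group G] [Finite G]

/-- B&G 13.4 (= S1428) in helper32's `Prop` form. -/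
theorem stmt1428 (hG : IsMinSimpleOddOrder G) : Cfsg.Agent.Lib.Helper32.BG142.Stmt1428 G :=
  fun M hM E hE p hp P hPE hP R hRE hR =>
    Cfsg.Agent.S1428.result hG M hM E hE p hp P hPE hP R hRE hR

/-- B&G 13.12 in helper64's `Prop` form. -/
theorem stmt1312 (hG : IsMinSimpleOddOrder G) : Cfsg.Agent.Lib.Helper64.BG135.Stmt1312 G :=
  fun M hM E hE p hp P hPE hP q hq A hAE hAe hAc hAP =>
    Cfsg.Agent.Lib.Helper47.BG1312.stmt1312 hG M E hM hE p hp P hPE hP q hq A hAE hAe hAc hAP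

/-- **B&G Theorem 13.5**, unconditional: for `p ∈ τ₁(M)`, `P ≤ E` of order `p` and
`X ≤ C_{M_σ}(P)` of prime order `q`: `C_G(X) ≤ M`, `M` is the only maximal subgroup over
`C_G(X)`, and the Sylow `q`-subgroups of `M_σ` lie in a unique maximal subgroup. -/
theorem bg_13_5 (hG : IsMinSimpleOddOrder G)
    {M : Subgroup G} (hM : IsCoatom M) {E : Subgroup G} (hE : IsComplIn E (sigmaCore M) M)
    {p : ℕ} (hp : p ∈ tau1 M) {P : Subgroup G} (hPE : P ≤ E) (hP : Nat.card P = p)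
    {q : ℕ} [hq : Fact q.Prime] {X : Subgroup G} (hX : Nat.card X = q)
    (hXC : X ≤ sigmaCore M ⊓ centralizer (P : Set G)) :
    (centralizer (X : Set G) ≤ M ∧
        ∀ L : Subgroup G, IsCoatom L → centralizer (X : Set G) ≤ L → L = M) ∧
      ∀ S : Sylow q ↥(sigmaCore M),
        InUniqueMaximal ((S : Subgroup ↥(sigmaCore M)).map (sigmaCore M).subtype) ∧
          (S : Subgroup ↥(sigmaCore M)).map (sigmaCore M).subtype ≤ M :=
  Cfsg.Agent.Lib.Helper64.BG135.bg135 hG (stmt1428 hG) (stmt1312 hG) hM hE hp hPE hP hX hXC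

/-- `N_G(X) ≤ M` in the situation of 13.5. -/
theorem normalizer_le (hG : IsMinSimpleOddOrder G)
    {M : Subgroup G} (hM : IsCoatom M) {E : Subgroup G}
    (hE : IsComplIn E (sigmaCore M) M) {p : ℕ} (hp : p ∈ tau1 M) {P : Subgroup G} (hPE : P ≤ E)
    (hP : Nat.card P = p) {q : ℕ} [hq : Fact q.Prime] {X : Subgroup G} (hX : Nat.card X = q)
    (hXC : X ≤ sigmaCore M ⊓ centralizer (P : Set G)) :
    normalizer (X : Set G) ≤ M :=
  Cfsg.Agent.Lib.Helper64.BG135.normalizer_le_of_bg135 hG (stmt1428 hG) (stmt1312 hG)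
    hM hE hp hPE hP hX hXC

/-- For `q ∉ β(M)`, a subgroup `X ≤ C_{M_σ}(P)` of order `q` lies in `(M_σ)'`. -/
theorem le_commutator_sigmaCore (hG : IsMinSimpleOddOrder G)
    {M : Subgroup G} (hM : IsCoatom M) {E : Subgroup G}
    (hE : IsComplIn E (sigmaCore M) M) {p : ℕ} (hp : p ∈ tau1 M) {P : Subgroup G} (hPE : P ≤ E)
    (hP : Nat.card P = p) {q : ℕ} [hq : Fact q.Prime] (hqβ : q ∉ beta M) {X : Subgroup G}
    (hX : Nat.card X = q) (hXC : X ≤ sigmaCore M ⊓ centralizer (P : Set G)) :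
    X ≤ ⁅sigmaCore M, sigmaCore M⁆ :=
  Cfsg.Agent.Lib.Helper64.BG135.le_commutator_sigmaCore hG (stmt1428 hG) (stmt1312 hG)
    hM hE hp hPE hP hqβ hX hXC

/-- All of `C_E(P)` centralizes every nontrivial subgroup of `C_{M_σ}(P)`. -/
theorem cent_compl_le_centralizer (hG : IsMinSimpleOddOrder G)
    {M : Subgroup G} (hM : IsCoatom M) {E : Subgroup G}
    (hE : IsComplIn E (sigmaCore M) M) {p : ℕ} (hp : p ∈ tau1 M) {P : Subgroup G} (hPE : P ≤ E)
    (hP : Nat.card P = p) {X : Subgroup G} (hX1 : X ≠ ⊥)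
    (hXC : X ≤ sigmaCore M ⊓ centralizer (P : Set G)) :
    E ⊓ centralizer (P : Set G) ≤ centralizer (X : Set G) :=
  Cfsg.Agent.Lib.Helper64.BG135.cent_compl_le_centralizer hG (stmt1428 hG) (stmt1312 hG)
    hM hE hp hPE hP hX1 hXC

end Cfsg.Agent.Lib.Helper47.BG135U
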