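import Mathlib

/-!
# Leaf [L-A] of the S1435 hive (helper96): coprime action of a group of prime order on an abelian
group, trivial on the `t`-elements
-/

set_option autoImplicit false
set_option linter.unusedVariables false
open Subgroup

namespace Cfsg.Agent.Lib.Helper96.BG1435

/-- telescoping: if `c x = w x` and `c w = w` then `c^i x = w^i x` -/
theorem la_tele {A : Type*} [Group A] (c : A →* A) (x w : A) (hw : c x = w * x)
    (hcw : c w = w) : ∀ i : ℕ, (c^[i]) x = w ^ i * x := by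
  intro i
  induction i with
  | zero => simp
  | succ i ih =>
    rw [Function.iterate_succ_apply', ih, map_mul, map_pow, hcw, hw, pow_succ, mul_assoc]

/-- in a finite group, `g` normalizes `H` as soon as `g H g⁻¹ ⊆ H` -/
theorem la_mem_normalizer {G : Type*} [Group G] [Finite G] {H : Subgroup G} {g : G}
    (h : ∀ x ∈ H, g * x * g⁻¹ ∈ H) : g ∈ normalizer (H : Set G) := by
  have hle : H.map (MulAut.conj g).toMonoidHom ≤ H := by
    rintro _ ⟨x, hx, rfl⟩
    exact h x hx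
  have hcard : Nat.card (H.map (MulAut.conj g).toMonoidHom) = Nat.card H :=
    Nat.card_congr (H.equivMapOfInjective _ (MulAut.conj g).injective).toEquiv.symm
  have heq : H.map (MulAut.conj g).toMonoidHom = H :=
    Subgroup.eq_of_le_of_card_ge hle hcard.ge
  rw [mem_normalizer_iff]
  intro x
  constructor
  · exact h x
  · intro hx
    rw [← heq] at hx
    obtain ⟨y, hy, hyx⟩ := hx
    have : y = x := by
      have h1 : g * y * g⁻¹ = g * x * g⁻¹ := hyx
      exact mul_left_cancel (mul_right_cancel h1)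
    rw [← this]
    exact hy

/-- the abstract core of [L-A] -/
theorem la_core {A : Type*} [Group A] [Finite A] (hcomm : ∀ a b : A, a * b = b * a)
    (c : A →* A) (t : ℕ) (ht : t.Prime) (hct : ∀ x, (c^[t]) x = x)
    (htriv : ∀ e : A, e ^ t ^ Nat.card A = 1 → c e = e) (x0 : A) (hx0 : c x0 ≠ x0) :
    ∃ s : ℕ, s.Prime ∧ s ≠ t ∧ ∃ S : Subgroup A, S ≠ ⊥ ∧ (∀ x ∈ S, x ^ s = 1) ∧
      (∀ x ∈ S, c x ∈ S) ∧ ∀ u ∈ S, c u = u → u = 1 := by
  classical
  set n := Nat.card A with hn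
  have hn0 : n ≠ 0 := Nat.card_pos.ne'
  set m := ordCompl[t] n with hm
  set pa := ordProj[t] n with hpa
  have hpam : pa * m = n := Nat.ordProj_mul_ordCompl_eq_self n t
  have hcop : Nat.Coprime t m := Nat.coprime_ordCompl ht hn0
  have hcop' : Nat.Coprime pa m := Nat.Coprime.pow_left _ hcop
  have hpow_n : ∀ x : A, x ^ n = 1 := fun x => pow_card_eq_one'
  -- the subgroup `W = φ(Q₀)`
  let W : Subgroup A :=
    { carrier := {w | ∃ x : A, x ^ m = 1 ∧ w = c x * x⁻¹}
      one_mem' := ⟨1, one_pow _, by simp⟩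
      mul_mem' := by
        rintro _ _ ⟨x, hx, rfl⟩ ⟨y, hy, rfl⟩
        refine ⟨x * y, by rw [(show Commute x y from hcomm x y).mul_pow, hx, hy, one_mul], ?_⟩
        rw [map_mul, mul_inv_rev]
        calc c x * x⁻¹ * (c y * y⁻¹) = c x * (x⁻¹ * c y) * y⁻¹ := by group
          _ = c x * (c y * x⁻¹) * y⁻¹ := by rw [hcomm x⁻¹ (c y)]
          _ = c x * c y * (x⁻¹ * y⁻¹) := by group
          _ = c x * c y * (y⁻¹ * x⁻¹) := by rw [hcomm x⁻¹ y⁻¹]
      inv_mem' := by
        rintro _ ⟨x, hx, rfl⟩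
        refine ⟨x⁻¹, by rw [inv_pow, hx, inv_one], ?_⟩
        rw [map_inv, inv_inv, mul_inv_rev, inv_inv, hcomm] }
  have hWmem : ∀ w, w ∈ W ↔ ∃ x : A, x ^ m = 1 ∧ w = c x * x⁻¹ := fun w => Iff.rfl
  -- elements of `W` fixed by `c` have `t`-th power one
  have hfix : ∀ w ∈ W, c w = w → w ^ t = 1 := by
    rintro w ⟨x, hx, hwx⟩ hcw
    have h1 : c x = w * x := by rw [hwx]; group
    have h2 := la_tele c x w h1 hcw t
    rw [hct] at h2
    exact (mul_eq_right.mp h2.symm)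
  -- `W ≤ Q₀`
  have hWm : ∀ w ∈ W, w ^ m = 1 := by
    rintro w ⟨x, hx, rfl⟩
    rw [(show Commute (c x) x⁻¹ from hcomm (c x) x⁻¹).mul_pow, ← map_pow, inv_pow, hx, map_one, inv_one,
      one_mul]
  -- `W ≠ ⊥`
  have hWne : W ≠ ⊥ := by
    intro hW
    have hfixQ0 : ∀ x : A, x ^ m = 1 → c x = x := by
      intro x hx
      have : c x * x⁻¹ ∈ W := ⟨x, hx, rfl⟩
      rw [hW, mem_bot] at this
      exact mul_inv_eq_one.mp this
    apply hx0
    have h1 : c (x0 ^ pa) = x0 ^ pa := by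
      apply hfixQ0
      rw [← pow_mul, hpam, hpow_n]
    have h2 : c (x0 ^ m) = x0 ^ m := by
      apply htriv
      have hdvd : pa ∣ t ^ n := by
        rw [hpa]
        exact pow_dvd_pow t (Nat.factorization_lt t hn0).le
      obtain ⟨d, hd⟩ := hdvd
      rw [hd, pow_mul, ← pow_mul x0 m pa, mul_comm m pa, hpam, hpow_n, one_pow]
    have hbez : (1 : ℤ) = pa * Nat.gcdA pa m + m * Nat.gcdB pa m := by
      rw [← Nat.gcd_eq_gcd_ab, hcop'.gcd_eq_one, Nat.cast_one]
    have hx0eq : x0 = (x0 ^ pa) ^ (Nat.gcdA pa m) * (x0 ^ m) ^ (Nat.gcdB pa m) := by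
      rw [← zpow_natCast x0 pa, ← zpow_natCast x0 m, ← zpow_mul, ← zpow_mul, ← zpow_add, ← hbez,
        zpow_one]
    rw [hx0eq, map_mul, map_zpow, map_zpow, h1, h2]
  -- a prime `s` dividing `|W|`
  have hWcard : Nat.card W ≠ 1 := by
    intro h
    exact hWne (Subgroup.card_eq_one.mp h)
  obtain ⟨s, hs, hsdvd⟩ := Nat.exists_prime_and_dvd hWcard
  have hsF : Fact s.Prime := ⟨hs⟩
  obtain ⟨w, hw⟩ := exists_prime_orderOf_dvd_card' s hsdvd
  have hw' : orderOf (w : A) = s := by rw [Subgroup.orderOf_coe, hw]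
  have hsm : s ∣ m := by
    rw [← hw']
    exact orderOf_dvd_of_pow_eq_one (hWm w.1 w.2)
  have hst : s ≠ t := by
    rintro rfl
    have := Nat.eq_one_of_dvd_coprimes hcop (dvd_refl s) hsm
    exact hs.one_lt.ne' this
  refine ⟨s, hs, hst, ?_⟩
  let S : Subgroup A :=
    { carrier := {u | u ∈ W ∧ u ^ s = 1}
      one_mem' := ⟨one_mem W, one_pow _⟩
      mul_mem' := by
        rintro a b ⟨ha, ha'⟩ ⟨hb, hb'⟩
        exact ⟨mul_mem ha hb, by rw [(show Commute a b from hcomm a b).mul_pow, ha', hb', one_mul]⟩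
      inv_mem' := by
        rintro a ⟨ha, ha'⟩
        exact ⟨inv_mem ha, by rw [inv_pow, ha', inv_one]⟩ }
  refine ⟨S, ?_, ?_, ?_, ?_⟩
  · intro hS
    have hwS : (w : A) ∈ S := ⟨w.2, by rw [← hw']; exact pow_orderOf_eq_one _⟩
    rw [hS, mem_bot] at hwS
    rw [hwS, orderOf_one] at hw'
    exact hs.one_lt.ne hw'
  · rintro x ⟨-, hx⟩
    exact hx
  · rintro u ⟨⟨x, hx, rfl⟩, hu⟩
    refine ⟨⟨c x, by rw [← map_pow, hx, map_one], by rw [map_mul, map_inv]⟩, ?_⟩
    rw [← map_pow, hu, map_one]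
  · rintro u ⟨huW, hus⟩ hcu
    have hut := hfix u huW hcu
    have h1 : orderOf u ∣ t := orderOf_dvd_of_pow_eq_one hut
    have h2 : orderOf u ∣ s := orderOf_dvd_of_pow_eq_one hus
    have hcst : Nat.Coprime t s := (Nat.coprime_primes ht hs).2 (Ne.symm hst)
    have h3 : orderOf u = 1 := Nat.eq_one_of_dvd_coprimes hcst h1 h2
    exact orderOf_eq_one_iff.mp h3

variable {G : Type*} [Group G] [Finite G]

/-- [L-A] -/
theorem exists_fpf_of_not_centralizes {Q K : Subgroup G}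
    (hQ : ∀ a ∈ Q, ∀ b ∈ Q, a * b = b * a)
    (hKQ : K ≤ normalizer (Q : Set G)) (hKp : (Nat.card K).Prime)
    (ht : ∀ e ∈ Q, e ^ (Nat.card K) ^ (Nat.card Q) = 1 → ∀ k ∈ K, k * e = e * k)
    (hnc : ¬ K ≤ centralizer (Q : Set G)) :
    ∃ s : ℕ, s.Prime ∧ s ≠ Nat.card K ∧ ∃ S : Subgroup G, S ≤ Q ∧ S ≠ ⊥ ∧ (∀ x ∈ S, x ^ s = 1) ∧
      K ≤ normalizer (S : Set G) ∧ ∀ e ∈ K, e ≠ 1 → ∀ u ∈ S, e * u = u * e → u = 1 := by
  classical
  have hKF : Fact (Nat.card K).Prime := ⟨hKp⟩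
  -- a non-commuting pair
  obtain ⟨k, hk, q, hq, hkq⟩ : ∃ k ∈ K, ∃ q ∈ Q, q * k ≠ k * q := by
    by_contra hcon
    push Not at hcon
    apply hnc
    intro k hk
    rw [mem_centralizer_iff]
    intro q hq
    exact hcon k hk q hq
  have hk1 : k ≠ 1 := by
    rintro rfl
    exact hkq (by rw [mul_one, one_mul])
  -- `K` is generated by each of its nontrivial elements
  have hgen : ∀ e ∈ K, e ≠ 1 → ∀ f ∈ K, ∃ i : ℤ, e ^ i = f := by
    intro e he he1 f hf
    have htop : zpowers (⟨e, he⟩ : K) = ⊤ :=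
      zpowers_eq_top_of_prime_card rfl (fun h => he1 (congrArg Subtype.val h))
    have hmem : (⟨f, hf⟩ : K) ∈ zpowers (⟨e, he⟩ : K) := by rw [htop]; exact mem_top _
    obtain ⟨i, hi⟩ := mem_zpowers_iff.mp hmem
    refine ⟨i, ?_⟩
    have := congrArg Subtype.val hi
    simpa using this
  have hkt : k ^ Nat.card K = 1 := by
    have h0 : (⟨k, hk⟩ : K) ^ Nat.card K = 1 := pow_card_eq_one'
    have h := congrArg Subtype.val h0
    rw [Subgroup.coe_pow, Subgroup.coe_one] at h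
    exact h
  have hkQ : ∀ x ∈ Q, k * x * k⁻¹ ∈ Q := fun x hx => (mem_normalizer_iff.mp (hKQ hk) x).mp hx
  let c : ↥Q →* ↥Q :=
    { toFun := fun x => ⟨k * x.1 * k⁻¹, hkQ x.1 x.2⟩
      map_one' := by
        apply Subtype.ext
        simp
      map_mul' := fun x y => by
        apply Subtype.ext
        simp [mul_assoc] }
  have hc_apply : ∀ x : ↥Q, ((c x : ↥Q) : G) = k * x.1 * k⁻¹ := fun x => rfl
  have hciter : ∀ (i : ℕ) (x : ↥Q), (((c^[i]) x : ↥Q) : G) = k ^ i * x.1 * (k ^ i)⁻¹ := by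
    intro i
    induction i with
    | zero => intro x; simp
    | succ i ih =>
      intro x
      rw [Function.iterate_succ_apply', hc_apply, ih, pow_succ']
      group
  have hcomm : ∀ a b : ↥Q, a * b = b * a := fun a b => Subtype.ext (hQ a a.2 b b.2)
  have hct : ∀ x : ↥Q, (c^[Nat.card K]) x = x := by
    intro x
    apply Subtype.ext
    rw [hciter, hkt]
    simp
  have htriv : ∀ e : ↥Q, e ^ (Nat.card K) ^ Nat.card ↥Q = 1 → c e = e := by
    intro e he
    apply Subtype.ext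
    rw [hc_apply]
    have h1 : (e : G) ^ (Nat.card K) ^ Nat.card ↥Q = 1 := by
      have := congrArg Subtype.val he
      simpa using this
    have h2 := ht e.1 e.2 h1 k hk
    rw [h2]
    group
  have hx0 : c ⟨q, hq⟩ ≠ ⟨q, hq⟩ := by
    intro h
    have h1 : k * q * k⁻¹ = q := congrArg Subtype.val h
    apply hkq
    calc q * k = (k * q * k⁻¹) * k := by rw [h1]
      _ = k * q := by group
  obtain ⟨s, hs, hst, S, hSne, hSexp, hSc, hSfpf⟩ :=
    la_core hcomm c (Nat.card K) hKp hct htriv ⟨q, hq⟩ hx0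
  refine ⟨s, hs, hst, S.map Q.subtype, ?_, ?_, ?_, ?_, ?_⟩
  · exact Subgroup.map_subtype_le S
  · intro h
    exact hSne ((Subgroup.map_eq_bot_iff_of_injective S Q.subtype_injective).mp h)
  · rintro _ ⟨y, hy, rfl⟩
    have := congrArg Subtype.val (hSexp y hy)
    simpa using this
  · -- `K` normalizes `S`
    have hkN : k ∈ normalizer ((S.map Q.subtype : Subgroup G) : Set G) := by
      apply la_mem_normalizer
      rintro _ ⟨y, hy, rfl⟩
      exact ⟨c y, hSc y hy, rfl⟩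
    intro e he
    obtain ⟨i, rfl⟩ := hgen k hk hk1 e he
    exact zpow_mem hkN i
  · rintro e he he1 _ ⟨y, hy, rfl⟩ hcomm_e
    obtain ⟨i, hi⟩ := hgen e he he1 k hk
    have h1 : Commute e (Q.subtype y) := hcomm_e
    have h2 : Commute k (Q.subtype y) := by
      rw [← hi]
      exact h1.zpow_left i
    have h3 : c y = y := by
      apply Subtype.ext
      rw [hc_apply]
      have : k * (y : G) = (y : G) * k := h2
      rw [this]
      group
    rw [hSfpf y hy h3, map_one]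

end Cfsg.Agent.Lib.Helper96.BG1435
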