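import Cfsg.Agent.Lib.Helper48.NilHallA
import Cfsg.Agent.Lib.Helper50.SylowJoin
import Cfsg.Agent.Lib.Helper68.BG1215a
import Cfsg.Agent.Lib.Helper33.Conj

set_option autoImplicit false
set_option linter.style.haveILetI false
set_option linter.unusedSectionVars false

/-!
# Fusion in a Hall subgroup of a group `D` with `F ≤ D` nilpotent and `D / F` nilpotent

Generic part of B&G Corollary 15.3(b): if `F ⊴ X` is nilpotent, `D ⊴ X`, `D F / F` is nilpotent
and `H` is a Hall subgroup of `D`, then `N_X(H)` controls `X`-fusion in `H`.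
-/

namespace Cfsg.Agent.Lib.Helper47.BG153

open Subgroup Cfsg Cfsg.Agent.Lib.Helper33

universe u

section nilp

variable {D : Type u} [Group D] [Finite D]

/-- a Hall subgroup of a finite nilpotent group is normal -/
theorem normal_of_isNilpotent_of_coprime [hD : Group.IsNilpotent D] (A : Subgroup D)
    (hcop : (Nat.card A).Coprime A.index) : A.Normal := by
  rw [← Subgroup.normalizer_eq_top_iff]
  have hNC := Group.normalizerCondition_of_isNilpotent (G := D)
  rw [normalizerCondition_iff_only_full_group_self_normalizing] at hNC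
  apply hNC
  apply le_antisymm _ le_normalizer
  intro g hg
  set L := normalizer (A : Set D) with hL
  have hAL : A ≤ L := le_normalizer
  have h1 : cj g A ≤ L := by
    have := cj_mono (g := g) hAL
    rwa [cj_eq_self_iff.mpr hg] at this
  obtain ⟨c, hcL, hc⟩ := Cfsg.Agent.Lib.Helper48.NilHall.hall_conj_in L A (cj g A) hAL h1
    (card_cj g A) (hcop.coprime_dvd_right (relIndex_dvd_index_of_le hAL))
  have h2 : cj (c * g) A = A := by rw [cj_mul]; exact hc
  have h3 : c * g ∈ L := cj_eq_self_iff.mp h2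
  have h4 : g = c⁻¹ * (c * g) := by group
  rw [h4]
  exact L.mul_mem (L.inv_mem hcL) h3

/-- two Hall subgroups of a finite nilpotent group for the same primes are equal -/
theorem eq_of_isNilpotent_of_hall [hD : Group.IsNilpotent D] (A B : Subgroup D) (m n : ℕ)
    (hmn : m.Coprime n) (hA : Nat.card A ∣ m) (hAi : A.index ∣ n) (hB : Nat.card B ∣ m)
    (hBi : B.index ∣ n) : A = B := by
  have hcard : Nat.card B = Nat.card A := by
    have e1 : Nat.card A * A.index = Nat.card D := A.card_mul_index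
    have e2 : Nat.card B * B.index = Nat.card D := B.card_mul_index
    apply Nat.dvd_antisymm
    · have h1 : Nat.card B ∣ Nat.card A * A.index := by rw [e1, ← e2]; exact dvd_mul_right _ _
      exact ((hmn.coprime_dvd_left hB).coprime_dvd_right hAi).dvd_of_dvd_mul_right h1
    · have h1 : Nat.card A ∣ Nat.card B * B.index := by rw [e2, ← e1]; exact dvd_mul_right _ _
      exact ((hmn.coprime_dvd_left hA).coprime_dvd_right hBi).dvd_of_dvd_mul_right h1
  have hcop : (Nat.card A).Coprime A.index := (hmn.coprime_dvd_left hA).coprime_dvd_right hAi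
  have hAn : A.Normal := normal_of_isNilpotent_of_coprime A hcop
  obtain ⟨c, -, hc⟩ := Cfsg.Agent.Lib.Helper48.NilHall.hall_conj_in (⊤ : Subgroup D) A B le_top
    le_top hcard (by rwa [relIndex_top_right])
  have h1 : cj c⁻¹ A = A := by
    rw [cj_eq_self_iff, normalizer_eq_top_iff.mpr hAn]
    exact mem_top _
  rw [← h1, ← hc, cj_inv_cj]

end nilp

section quot

variable {X : Type u} [Group X] [Finite X]

/-- the image in `D F / F` of a Hall subgroup `H` of `D`, as a subgroup of the group `D F / F` -/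
theorem image_hall (F D H : Subgroup X) [F.Normal] (hHD : H ≤ D) :
    ∃ A : Subgroup ↥(D.map (QuotientGroup.mk' F)),
      A.map (D.map (QuotientGroup.mk' F)).subtype = H.map (QuotientGroup.mk' F) ∧
      Nat.card A ∣ Nat.card H ∧ A.index ∣ H.relIndex D := by
  set φ := QuotientGroup.mk' F with hφ
  set ψ := φ.subgroupMap D with hψ
  have hψs : Function.Surjective ψ := φ.subgroupMap_surjective D
  refine ⟨(H.subgroupOf D).map ψ, ?_, ?_, ?_⟩
  · rw [Subgroup.map_map]
    have h1 : (D.map φ).subtype.comp ψ = φ.comp D.subtype := by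
      ext d
      rfl
    rw [h1, ← Subgroup.map_map, Subgroup.subgroupOf_map_subtype, inf_eq_left.mpr hHD]
  · have h1 : Nat.card (H.subgroupOf D) = Nat.card H :=
      Nat.card_congr (Subgroup.subgroupOfEquivOfLe hHD).toEquiv
    rw [← h1]
    exact Subgroup.card_map_dvd _ ψ
  · exact Subgroup.index_map_dvd (H.subgroupOf D) hψs

/-- **`H F` is normal** when `D F / F` is nilpotent and `H` is a Hall subgroup of `D ⊴ X` -/
theorem cj_sup_eq_of_nilpotent_quotient (F D H : Subgroup X) [hF : F.Normal] [hD : D.Normal]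
    (hnil : Group.IsNilpotent ↥(D.map (QuotientGroup.mk' F))) (hHD : H ≤ D)
    (hcop : (Nat.card H).Coprime (H.relIndex D)) (x : X) : cj x H ⊔ F = H ⊔ F := by
  have hxD : cj x D = D := by
    rw [cj_eq_self_iff, normalizer_eq_top_iff.mpr hD]
    exact mem_top _
  have hH₁D : cj x H ≤ D := by
    have := cj_mono (g := x) hHD
    rwa [hxD] at this
  obtain ⟨A, hA, hAc, hAi⟩ := image_hall F D H hHD
  obtain ⟨B, hB, hBc, hBi⟩ := image_hall F D (cj x H) hH₁D
  rw [card_cj] at hBc
  have hrel : (cj x H).relIndex D = H.relIndex D := by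
    have := relIndex_cj x H D
    rwa [hxD] at this
  rw [hrel] at hBi
  have hAB : A = B :=
    eq_of_isNilpotent_of_hall A B (Nat.card H) (H.relIndex D) hcop hAc hAi hBc hBi
  have h1 : H.map (QuotientGroup.mk' F) = (cj x H).map (QuotientGroup.mk' F) := by
    rw [← hA, ← hB, hAB]
  have h2 := congrArg (Subgroup.comap (QuotientGroup.mk' F)) h1
  rw [Subgroup.comap_map_eq, Subgroup.comap_map_eq, QuotientGroup.ker_mk'] at h2
  exact h2.symm

/-- conjugation by any element fixes a normal subgroup -/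
theorem cj_eq_of_normal {N : Subgroup X} (hN : N.Normal) (x : X) : cj x N = N := by
  rw [cj_eq_self_iff, normalizer_eq_top_iff.mpr hN]
  exact mem_top _

/-- **generic form of B&G 15.3(b)**: `N_X(H)` controls `X`-fusion in the Hall subgroup `H` of
`D ⊴ X`, when `F ≤ D` is a nilpotent normal subgroup of `X` with `D F / F` nilpotent -/
theorem fusion_generic [hX : Group.IsSolvable X] (F D H : Subgroup X) [hF : F.Normal]
    [hD : D.Normal] (hFn : Group.IsNilpotent ↥F) (hFD : F ≤ D)
    (hnil : Group.IsNilpotent ↥(D.map (QuotientGroup.mk' F))) (hHD : H ≤ D)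
    (hcop : (Nat.card H).Coprime (H.relIndex D)) {x : X} (hx : x ∈ H) {b : X}
    (hb : b * x * b⁻¹ ∈ H) :
    ∃ n ∈ normalizer (H : Set X), n * x * n⁻¹ = b * x * b⁻¹ := by
  have hHnF : H ≤ normalizer (F : Set X) := by
    rw [normalizer_eq_top_iff.mpr hF]; exact le_top
  set P := H ⊓ F with hP
  have hnD : H.relIndex F ∣ H.relIndex D :=
    Cfsg.Agent.Lib.Helper50.relIndex_dvd_relIndex_of_le_normalizer hHD hFD hHnF
  have hcopn : (Nat.card H).Coprime (H.relIndex F) := hcop.coprime_dvd_right hnD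
  have hcardF : Nat.card F = H.relIndex F * Nat.card P := by
    have := Cfsg.Agent.Lib.Helper50.relIndex_mul_card_of_le (inf_le_right : H ⊓ F ≤ F)
    rw [inf_relIndex_right] at this
    exact this.symm
  have hPH : Nat.card P ∣ Nat.card H := Subgroup.card_dvd_of_le inf_le_left
  have hnm : (H.relIndex F).Coprime (Nat.card P) := (hcopn.coprime_dvd_left hPH).symm
  -- the Hall complement `Q` of `P` in `F`
  obtain ⟨Q, hQF, hQc, -⟩ := Cfsg.Agent.Lib.Helper68.BG1215.hall_exists_ge (K := F)
    (H.relIndex F) (Nat.card P) hcardF hnm (bot_le : (⊥ : Subgroup X) ≤ F)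
    (by rw [Subgroup.card_bot]; exact Nat.coprime_one_left _)
  have hQrel : Q.relIndex F = Nat.card P := by
    have h1 := Cfsg.Agent.Lib.Helper50.relIndex_mul_card_of_le hQF
    rw [hQc, hcardF, mul_comm] at h1
    have hpos : 0 < H.relIndex F := by
      rcases Nat.eq_zero_or_pos (H.relIndex F) with h0 | h0
      · rw [h0, zero_mul] at hcardF
        exact absurd hcardF (Nat.card_pos (α := ↥F)).ne'
      · exact h0
    exact Nat.eq_of_mul_eq_mul_left hpos h1
  -- `Q` is normal in `X`
  have hQn : ∀ z : X, cj z Q = Q := by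
    intro z
    have hzF : cj z F = F := cj_eq_of_normal hF z
    have hzQF : cj z Q ≤ F := by
      have := cj_mono (g := z) hQF
      rwa [hzF] at this
    have hAB : Q.subgroupOf F = (cj z Q).subgroupOf F := by
      haveI := hFn
      apply eq_of_isNilpotent_of_hall _ _ (H.relIndex F) (Nat.card P) hnm
      · rw [Nat.card_congr (Subgroup.subgroupOfEquivOfLe hQF).toEquiv, hQc]
      · change Q.relIndex F ∣ _
        rw [hQrel]
      · rw [Nat.card_congr (Subgroup.subgroupOfEquivOfLe hzQF).toEquiv, card_cj, hQc]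
      · change (cj z Q).relIndex F ∣ _
        have := relIndex_cj z Q F
        rw [hzF] at this
        rw [this, hQrel]
    have h1 := congrArg (Subgroup.map F.subtype) hAB
    rw [Subgroup.subgroupOf_map_subtype, Subgroup.subgroupOf_map_subtype,
      inf_eq_left.mpr hQF, inf_eq_left.mpr hzQF] at h1
    exact h1.symm
  -- `F = P Q`
  have hcompl : IsComplement' (P.subgroupOf F) (Q.subgroupOf F) := by
    apply isComplement'_of_coprime
    · rw [Nat.card_congr (Subgroup.subgroupOfEquivOfLe (inf_le_right : P ≤ F)).toEquiv,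
        Nat.card_congr (Subgroup.subgroupOfEquivOfLe hQF).toEquiv, hQc, hcardF, mul_comm]
    · rw [Nat.card_congr (Subgroup.subgroupOfEquivOfLe (inf_le_right : P ≤ F)).toEquiv,
        Nat.card_congr (Subgroup.subgroupOfEquivOfLe hQF).toEquiv, hQc]
      exact hnm.symm
  have hFPQ : ∀ f ∈ F, ∃ p ∈ P, ∃ q ∈ Q, f = p * q := by
    intro f hf
    obtain ⟨⟨⟨p, hp⟩, ⟨q, hq⟩⟩, hpq, -⟩ := (isComplement'_def.mp hcompl).existsUnique ⟨f, hf⟩
    refine ⟨p.1, Subgroup.mem_subgroupOf.mp hp, q.1, Subgroup.mem_subgroupOf.mp hq, ?_⟩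
    have := congrArg Subtype.val hpq
    simpa using this.symm
  -- `H ∩ Q = 1`
  have hHQ : H ⊓ Q = ⊥ := by
    apply (Subgroup.disjoint_of_coprime_natCard _).eq_bot
    rw [hQc]
    exact hcopn
  -- conjugate `cj b H` back to `H` inside `H F`
  have hsup : cj b H ⊔ F = H ⊔ F := cj_sup_eq_of_nilpotent_quotient F D H hnil hHD hcop b
  have hH₁ : cj b H ≤ H ⊔ F := hsup ▸ le_sup_left
  have hcop' : (Nat.card H).Coprime (H.relIndex (H ⊔ F)) := by
    rw [Cfsg.Agent.Lib.Helper50.relIndex_sup_of_le_normalizer H F hHnF]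
    exact hcopn
  obtain ⟨v, hv, hvH⟩ := Cfsg.Agent.Lib.Helper48.NilHall.hall_conj_in (H ⊔ F) H (cj b H)
    le_sup_left hH₁ (card_cj b H) hcop'
  obtain ⟨h, hh, f, hf, rfl⟩ :=
    Cfsg.Agent.Lib.Helper24.exists_mul_of_mem_sup_of_le_normalizer H F hHnF v hv
  obtain ⟨p, hp, q, hq, rfl⟩ := hFPQ f hf
  have hq' : cj q (cj b H) = H := by
    have h1 : cj (h * p) (cj q (cj b H)) = H := by
      rw [← cj_mul, mul_assoc]; exact hvH
    have h2 : cj q (cj b H) = cj (h * p)⁻¹ H := cj_eq_iff.mp h1
    rw [h2]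
    exact cj_eq_self_of_mem (H.inv_mem (H.mul_mem hh hp.1))
  set y := b * x * b⁻¹ with hy
  have hy₁ : y ∈ cj b H := conj_mem_cj hx
  have hqy : q * y * q⁻¹ ∈ H := by
    rw [← hq']
    exact conj_mem_cj hy₁
  have hcomm : q * y * q⁻¹ * y⁻¹ ∈ H ⊓ Q := by
    refine ⟨H.mul_mem hqy (H.inv_mem hb), ?_⟩
    have h1 : y * q⁻¹ * y⁻¹ ∈ Q := by
      have : y * q⁻¹ * y⁻¹ ∈ cj y Q := conj_mem_cj (Q.inv_mem hq)
      rwa [hQn y] at this
    have h2 : q * y * q⁻¹ * y⁻¹ = q * (y * q⁻¹ * y⁻¹) := by group
    rw [h2]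
    exact Q.mul_mem hq h1
  rw [hHQ, Subgroup.mem_bot] at hcomm
  have hfix : q * y * q⁻¹ = y := by
    have := congrArg (· * y) hcomm
    simpa using this
  refine ⟨q * b, ?_, ?_⟩
  · rw [← cj_eq_self_iff, cj_mul]
    exact hq'
  · have : q * b * x * (q * b)⁻¹ = q * (b * x * b⁻¹) * q⁻¹ := by group
    rw [this]
    exact hfix

end quot

end Cfsg.Agent.Lib.Helper47.BG153
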