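import Cfsg.Agent.S1374
import Cfsg.Agent.Lib.Helper47.BG153a
import Cfsg.Agent.Lib.Helper47.BG153b
import Cfsg.Agent.Lib.Helper22.Fitting
import Cfsg.Agent.Lib.Helper10.BG144S

set_option autoImplicit false
set_option linter.style.haveILetI false
set_option linter.unusedSectionVars false

/-!
# B&G Corollary 15.3 (= S1438), armed on the statement of S1355 (B&G Theorem 15.2(a))
-/

namespace Cfsg.Agent.Lib.Helper47.BG153

open Subgroup Cfsg Cfsg.Agent.Lib.Helper33

universe u

variable {G : Type u} [Group G] [Finite G]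

/-- the statement of S1355 (B&G Theorem 15.2(a)) -/
def Stmt1355 (G : Type u) [Group G] [Finite G] : Prop :=
  ∀ M : Subgroup G, IsCoatom M →
    fittingHallOf M ≠ ⊥ ∧ fittingHallOf M ≤ sigmaCore M ∧ sigmaCore M ≤ ⁅M, M⁆ ∧ ⁅M, M⁆ < M ∧
      Group.IsNilpotent ↥((commutator ↥M).map (QuotientGroup.mk' (fittingHall ↥M)))

/-- a subgroup of a nilpotent subgroup is nilpotent -/
theorem isNilpotent_of_le {X : Type*} [Group X] {K L : Subgroup X} (hKL : K ≤ L)
    (hL : Group.IsNilpotent ↥L) : Group.IsNilpotent ↥K := by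
  haveI := hL
  exact Group.nilpotent_of_mulEquiv (Subgroup.subgroupOfEquivOfLe hKL)

/-- `M_F` is nilpotent -/
theorem isNilpotent_fittingHall (X : Type*) [Group X] [Finite X] :
    Group.IsNilpotent ↥(fittingHall X) := by
  have hle : fittingHall X ≤ fittingSubgroup X := by
    unfold fittingHall fittingSubgroup
    apply sSup_le_sSup
    rintro N ⟨h1, h2, -⟩
    exact ⟨h1, h2⟩
  exact isNilpotent_of_le hle Cfsg.Agent.Lib.Helper22.fittingSubgroup_isNilpotent

/-- **B&G Corollary 15.3(b)** (second clause of S1438), from the statement of S1355. -/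
theorem fusion_hall (hG : IsMinSimpleOddOrder G) (h55 : Stmt1355 G) {M H : Subgroup G}
    (hM : IsCoatom M) (hH : H ≤ sigmaCore M)
    (hHall : (Nat.card H).Coprime (H.relIndex (sigmaCore M))) :
    ∀ x ∈ H, ∀ g : G, g * x * g⁻¹ ∈ H →
      ∃ n ∈ M ⊓ normalizer (H : Set G), n * x * n⁻¹ = g * x * g⁻¹ := by
  intro x hx g hgx
  have hσ := Cfsg.Agent.Lib.Helper47.BG11.sigmaHallIn_of_coatom hG hM
  have hWM : sigmaCore M ≤ M := hσ.1
  have hHM : H ≤ M := hH.trans hWM
  by_cases hx1 : x = 1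
  · subst hx1
    exact ⟨1, Subgroup.one_mem _, by simp⟩
  -- Lemma T: reduce to `g ∈ M`
  obtain ⟨-, R, -, hRc, hRT⟩ := Cfsg.Agent.S1374.result hG M hM x (hH hx) hx1
  have hxg : x ∈ M.map (MulAut.conj g⁻¹).toMonoidHom := by
    change x ∈ cj g⁻¹ M
    rw [mem_cj, inv_inv]
    exact hHM hgx
  obtain ⟨r, ⟨hrR, hrM⟩, -⟩ := hRT g⁻¹ hxg
  have hrx : r * x = x * r := by
    have h1 : r ∈ centralizer ({x} : Set G) := hRc.2.1 hrR
    exact ((mem_centralizer_iff.mp h1) x rfl).symm
  set b := g * r with hb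
  have hbM : b ∈ M := by
    have h1 : cj b M = M := by
      rw [hb, cj_mul]
      change cj g (M.map (MulAut.conj r).toMonoidHom) = M
      rw [hrM]
      change cj g (cj g⁻¹ M) = M
      exact cj_cj_inv g M
    have h2 : b ∈ normalizer (M : Set G) := cj_eq_self_iff.mp h1
    rwa [Cfsg.Agent.Lib.Helper10.BG144T.normalizer_coatom hG hM (hHM hx) hx1] at h2
  have hbx : b * x * b⁻¹ = g * x * g⁻¹ := by
    have h1 : r * x * r⁻¹ = x := by rw [hrx]; group
    calc b * x * b⁻¹ = g * (r * x * r⁻¹) * g⁻¹ := by rw [hb]; group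
      _ = g * x * g⁻¹ := by rw [h1]
  -- the structure of `M` from S1355
  obtain ⟨-, hFW, hWD, -, hnil⟩ := h55 M hM
  haveI : Group.IsSolvable ↥M := hG.2.2.2 M hM.1
  set F : Subgroup ↥M := fittingHall ↥M with hF
  set D : Subgroup ↥M := piCore (sigma M) ↥M with hD
  have hDmap : D.map M.subtype = sigmaCore M := rfl
  have hFD : F ≤ D := by
    have h1 : F.map M.subtype ≤ D.map M.subtype := hFW
    exact (Subgroup.map_le_map_iff_of_injective M.subtype_injective).mp h1
  have hDcomm : D ≤ commutator ↥M := by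
    have h1 : D.map M.subtype ≤ (commutator ↥M).map M.subtype := by
      rw [Subgroup.map_subtype_commutator]
      exact hWD
    exact (Subgroup.map_le_map_iff_of_injective M.subtype_injective).mp h1
  have hnilD : Group.IsNilpotent ↥(D.map (QuotientGroup.mk' F)) :=
    isNilpotent_of_le (Subgroup.map_mono hDcomm) hnil
  set H' : Subgroup ↥M := H.subgroupOf M with hH'
  have hH'map : H'.map M.subtype = H := by
    rw [hH', Subgroup.subgroupOf_map_subtype]
    exact inf_eq_left.mpr hHM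
  have hH'D : H' ≤ D := by
    have h1 : H'.map M.subtype ≤ D.map M.subtype := by rw [hH'map]; exact hH
    exact (Subgroup.map_le_map_iff_of_injective M.subtype_injective).mp h1
  have hcop' : (Nat.card H').Coprime (H'.relIndex D) := by
    have h1 : Nat.card H' = Nat.card H :=
      Nat.card_congr (Subgroup.subgroupOfEquivOfLe hHM).toEquiv
    have h2 := Subgroup.relIndex_map_map_of_injective H' D M.subtype_injective
    rw [hH'map, hDmap] at h2
    rw [h1, ← h2]
    exact hHall
  have hx' : (⟨x, hHM hx⟩ : ↥M) ∈ H' := Subgroup.mem_subgroupOf.mpr hx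
  have hb' : (⟨b, hbM⟩ : ↥M) * ⟨x, hHM hx⟩ * (⟨b, hbM⟩ : ↥M)⁻¹ ∈ H' := by
    rw [Subgroup.mem_subgroupOf]
    change b * x * b⁻¹ ∈ H
    rw [hbx]
    exact hgx
  obtain ⟨n', hn', hn'x⟩ := fusion_generic F D H' (isNilpotent_fittingHall ↥M) hFD hnilD hH'D
    hcop' hx' hb'
  refine ⟨(n' : G), Subgroup.mem_inf.mpr ⟨n'.2, ?_⟩, ?_⟩
  · rw [mem_normalizer_iff]
    intro h
    constructor
    · intro hh
      have h1 := (mem_normalizer_iff.mp hn' ⟨h, hHM hh⟩).mp (Subgroup.mem_subgroupOf.mpr hh)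
      exact Subgroup.mem_subgroupOf.mp h1
    · intro hh
      have hhM : h ∈ M := by
        have h1 : h = (n' : G)⁻¹ * ((n' : G) * h * (n' : G)⁻¹) * (n' : G) := by group
        rw [h1]
        exact M.mul_mem (M.mul_mem (M.inv_mem n'.2) (hHM hh)) n'.2
      have h1 := (mem_normalizer_iff.mp hn' ⟨h, hhM⟩).mpr (Subgroup.mem_subgroupOf.mpr hh)
      exact Subgroup.mem_subgroupOf.mp h1
  · have h1 := congrArg Subtype.val hn'x
    rw [← hbx]
    exact h1

end Cfsg.Agent.Lib.Helper47.BG153
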