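import Mathlib
import Cfsg.Agent.S1404
import Cfsg.Agent.S1426
import Cfsg.Agent.S1350
import Cfsg.Agent.Lib.Helper47.BG11a
import Cfsg.Agent.Lib.Helper24.BG121
import Cfsg.Agent.Lib.Helper10.BGLemR

/-!
# Leaf L1 of the BG157 hive (S1383, helper91): a non-TI `M_σ` yields an element of prime order
`p ∉ β(M)` of `M_σ` whose centralizer is not contained in `M`
-/

set_option autoImplicit false
set_option linter.unusedVariables false

namespace Cfsg.Agent.Lib.Helper91.BG157

open Subgroup Cfsg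

universe u

variable {G : Type u} [Group G] [Finite G]

theorem exists_bad_elt (hG : IsMinSimpleOddOrder G) {M : Subgroup G} (hM : IsCoatom M)
    (hnTI : ¬ IsTISubset ((sigmaCore M : Subgroup G) : Set G)) :
    ∃ x ∈ sigmaCore M, (orderOf x).Prime ∧ orderOf x ∉ beta M ∧
      ¬ centralizer ({x} : Set G) ≤ M := by
  unfold IsTISubset at hnTI
  push Not at hnTI
  obtain ⟨g, hgN, x, hx, hgx, hx1⟩ := hnTI
  have hx : x ∈ sigmaCore M := hx
  have hgx : g * x * g⁻¹ ∈ sigmaCore M := hgx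
  have hgM : g ∉ M := fun h => hgN (Cfsg.Agent.Lib.Helper24.BG.le_normalizer_sigmaCore M h)
  have hHall := (Cfsg.Agent.S1350.result hG M hM).1
  have hWM : sigmaCore M ≤ M := hHall.1
  -- a power of prime order
  have hord : orderOf x ≠ 1 := by rwa [Ne, orderOf_eq_one_iff]
  obtain ⟨p, hp, hpd⟩ := Nat.exists_prime_and_dvd hord
  have hpF : Fact p.Prime := ⟨hp⟩
  obtain ⟨k, hk⟩ := hpd
  have hpos : 0 < orderOf x := orderOf_pos x
  have hk0 : k ≠ 0 := by
    rintro rfl
    rw [mul_zero] at hk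
    omega
  have hyord : orderOf (x ^ k) = p := by
    rw [orderOf_pow_of_dvd hk0 (Dvd.intro_left p hk.symm), hk]
    exact Nat.mul_div_cancel p (Nat.pos_of_ne_zero hk0)
  set y := x ^ k with hy
  have hyW : y ∈ sigmaCore M := pow_mem hx k
  have hgy : g * y * g⁻¹ ∈ sigmaCore M := by
    rw [hy, ← conj_pow]
    exact pow_mem hgx k
  have hy1 : y ≠ 1 := by
    intro h
    rw [h, orderOf_one] at hyord
    exact hp.one_lt.ne hyord
  have hcard : Nat.card (zpowers y) = p := by rw [Nat.card_zpowers, hyord]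
  have hpσ : p ∈ sigma M :=
    Cfsg.Agent.Lib.Helper47.BG11.mem_sigma_of_dvd_card_le (D := zpowers y)
      (zpowers_le.mpr hyW) hp (by rw [hcard])
  -- S1404
  have hXp : IsPGroup p (zpowers y) := IsPGroup.of_card (n := 1) (by rw [hcard, pow_one])
  have hX1 : zpowers y ≠ ⊥ := by
    intro h
    exact hy1 (zpowers_eq_bot.mp h)
  have hXM : zpowers y ≤ M := zpowers_le.mpr (hWM hyW)
  have h1404 := (Cfsg.Agent.S1404.result hG M hM p hpσ (zpowers y) hXp hX1 hXM).1 g (by
    rw [MonoidHom.map_zpowers]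
    apply zpowers_le.mpr
    exact hWM hgy)
  obtain ⟨m, hm, c, hc, hgmc⟩ := h1404
  have hcM : c ∉ M := by
    intro h
    apply hgM
    rw [hgmc]
    exact mul_mem hm h
  have hcy : c ∈ centralizer ({y} : Set G) := by
    rw [mem_centralizer_iff]
    intro h hh
    rw [Set.mem_singleton_iff] at hh
    subst hh
    exact (mem_centralizer_iff.mp hc) y (mem_zpowers y)
  -- S1426
  obtain ⟨E, hE⟩ := Cfsg.Agent.Lib.Helper10.BG13.exists_isComplIn_sigmaCore hHall
  have h1426 := ((Cfsg.Agent.S1426.result hG M hM E hE).2.2 g hgM).2.1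
  have hmem : g * y * g⁻¹ ∈ sigmaCore M ⊓ M.map (MulAut.conj g).toMonoidHom := by
    refine ⟨hgy, y, hWM hyW, ?_⟩
    simp [MulAut.conj_apply]
  have hordc : orderOf (g * y * g⁻¹) = p := by
    have := (MulAut.conj g).orderOf_eq y
    rw [MulAut.conj_apply] at this
    rw [this, hyord]
  have hpdvd : p ∣ Nat.card ↥(sigmaCore M ⊓ M.map (MulAut.conj g).toMonoidHom) := by
    rw [← hordc]
    exact Subgroup.orderOf_dvd_natCard _ hmem
  refine ⟨y, hyW, ?_, ?_, ?_⟩
  · rw [hyord]; exact hp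
  · rw [hyord]; exact h1426 p hp hpdvd
  · intro hle
    exact hcM (hle hcy)

end Cfsg.Agent.Lib.Helper91.BG157
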