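import Cfsg.Agent.Lib.Helper47.Frat
import Cfsg.Agent.Lib.Helper46.PReduced2

set_option autoImplicit false

namespace Cfsg.Agent.Lib.Helper47

open Cfsg
open scoped commutatorElement Pointwise

variable {G : Type*} [Group G]

/-- `Ω₁(Z(P)) ≠ 1` for a nontrivial `p`-group `P` -/
theorem omegaOneCenter_ne_bot [Finite G] {p : ℕ} [Fact p.Prime] {P : Subgroup G}
    (hP : IsPGroup p ↥P) (hne : P ≠ ⊥) :
    omegaOne p (P ⊓ Subgroup.centralizer (P : Set G)) ≠ ⊥ := by
  have hZ := pgroup_center_ne_bot hP hne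
  set Z : Subgroup G := P ⊓ Subgroup.centralizer (P : Set G) with hZdef
  have hZp : IsPGroup p ↥Z := hP.to_le inf_le_left
  haveI : Nontrivial ↥Z := (Subgroup.nontrivial_iff_ne_bot Z).mpr hZ
  have hdvd : p ∣ Nat.card ↥Z := by
    obtain ⟨n, hn0, hn⟩ := hZp.nontrivial_iff_card.mp inferInstance
    rw [hn]
    exact dvd_pow_self _ hn0.ne'
  obtain ⟨x, hx⟩ := exists_prime_orderOf_dvd_card' p hdvd
  have hp : p.Prime := Fact.out
  intro hbot
  have hxmem : (x : G) ∈ omegaOne p Z := by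
    apply Subgroup.subset_closure
    refine ⟨x.2, ?_⟩
    have h1 : x ^ p = 1 := by rw [← hx]; exact pow_orderOf_eq_one x
    have := congrArg Subtype.val h1
    simpa using this
  rw [hbot, Subgroup.mem_bot] at hxmem
  have hx1 : x = 1 := Subtype.ext hxmem
  rw [hx1, orderOf_one] at hx
  exact hp.one_lt.ne hx

/-- a subgroup normalizing a nontrivial `p`-subgroup of itself has nontrivial `O_p` -/
theorem pCore_ne_bot_of_le_normalizer {p : ℕ} {Y X : Subgroup G} (hYp : IsPGroup p ↥Y)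
    (hY1 : Y ≠ ⊥) (hYX : Y ≤ X) (hXY : X ≤ Subgroup.normalizer (Y : Set G)) :
    pCore p ↥X ≠ ⊥ := by
  intro h
  have h1 : pCoreOf p X = ⊥ := (pCoreOf_eq_bot_iff p X).mpr h
  have h2 : Y ≤ pCoreOf p X := le_pCoreOf hYX hXY hYp
  rw [h1, le_bot_iff] at h2
  exact hY1 h2

theorem largestPReducedOf_isPGroup (p : ℕ) (X : Subgroup G) :
    IsPGroup p ↥(largestPReducedOf p X) := by
  intro y
  refine ⟨1, ?_⟩
  apply Subtype.ext
  have := largestPReducedOf_exp p X (y : G) y.2
  simpa using this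

section Sylow

variable [Finite G] {p : ℕ} [Fact p.Prime]

theorem largestPReducedOf_le_sylow (T : Sylow p G) {X : Subgroup G} (hTX : (T : Subgroup G) ≤ X) :
    largestPReducedOf p X ≤ (T : Subgroup G) := by
  have h1 : largestPReducedOf p X ≤ pCoreOf p X := Subgroup.map_mono largestPReduced_le_pCore
  exact h1.trans (pCoreOf_le_sylow T hTX)

/-- `Y_X ≠ 1` for `X` of characteristic `p` containing the nontrivial Sylow subgroup `T` -/
theorem largestPReducedOf_ne_bot (T : Sylow p G) (hT1 : (T : Subgroup G) ≠ ⊥) {X : Subgroup G}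
    (hTX : (T : Subgroup G) ≤ X)
    (hX : Subgroup.centralizer (pCore p ↥X : Set ↥X) ≤ pCore p ↥X) :
    largestPReducedOf p X ≠ ⊥ := by
  obtain ⟨_, _, _, hZT, hZY, _⟩ := Cfsg.Agent.S2821.result T X hTX hX _ rfl
  have h1 := omegaOneCenter_ne_bot T.isPGroup' hT1
  intro h
  apply h1
  rw [eq_bot_iff, ← h]
  exact hZT.trans hZY

/-- S2802 in ambient form: a `p`-reduced normal subgroup of `A`, `T ≤ A ≤ B`, `B` of
characteristic `p`, lies in `Y_B` -/
theorem le_largestPReducedOf_of_le (T : Sylow p G) {A B Ys : Subgroup G}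
    (hTA : (T : Subgroup G) ≤ A) (hAB : A ≤ B)
    (hB : Subgroup.centralizer (pCore p ↥B : Set ↥B) ≤ pCore p ↥B)
    (hYsA : Ys ≤ A) (hAYs : A ≤ Subgroup.normalizer (Ys : Set G))
    (hcomm : ∀ a ∈ Ys, ∀ b ∈ Ys, a * b = b * a) (hexp : ∀ a ∈ Ys, a ^ p = 1)
    (hred : PRedInternal p Ys A) : Ys ≤ largestPReducedOf p B := by
  have hTB : (T : Subgroup G) ≤ B := hTA.trans hAB
  have hYsB : Ys ≤ B := hYsA.trans hAB
  have hred' : PRedInternal p (Ys.subgroupOf B) (A.subgroupOf B) :=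
    pRedInternal_subgroupOf hYsB hAB hred
  have hle' : Ys.subgroupOf B ≤ A.subgroupOf B := by
    intro x hx
    exact Subgroup.mem_subgroupOf.mpr (hYsA (Subgroup.mem_subgroupOf.mp hx))
  have hX : IsPReducedNormal p ((Ys.subgroupOf B).subgroupOf (A.subgroupOf B)) := by
    apply isPReducedNormal_subgroupOf_of_pRedInternal hle' _ _ _ hred'
    · intro x hx
      rw [Subgroup.mem_normalizer_iff]
      intro y
      rw [Subgroup.mem_subgroupOf, Subgroup.mem_subgroupOf]
      have := Subgroup.mem_normalizer_iff.mp (hAYs (Subgroup.mem_subgroupOf.mp hx)) (y : G)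
      simpa using this
    · intro a ha b hb
      apply Subtype.ext
      have := hcomm (a : G) (Subgroup.mem_subgroupOf.mp ha) (b : G) (Subgroup.mem_subgroupOf.mp hb)
      simpa using this
    · intro a ha
      apply Subtype.ext
      have := hexp (a : G) (Subgroup.mem_subgroupOf.mp ha)
      simpa using this
  have hTR : ((T.subtype hTB : Sylow p ↥B) : Subgroup ↥B) ≤ A.subgroupOf B := by
    rw [Sylow.coe_subtype]
    intro x hx
    exact Subgroup.mem_subgroupOf.mpr (hTA (Subgroup.mem_subgroupOf.mp hx))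
  have hS2802 := Cfsg.Agent.Lib.Helper46.pReduced_normalClosure hB (T.subtype hTB)
    (A.subgroupOf B) hTR _ hX
  rw [Subgroup.map_subgroupOf_eq_of_le hle'] at hS2802
  have h1 : Ys.subgroupOf B ≤ largestPReduced p ↥B :=
    (Subgroup.le_normalClosure).trans (le_sSup hS2802)
  have := Subgroup.map_mono (f := B.subtype) h1
  rwa [Subgroup.map_subgroupOf_eq_of_le hYsB] at this

/-- `Y_A ≤ Y_B` for `T ≤ A ≤ B`, `B` of characteristic `p` -/
theorem largestPReducedOf_mono_of_sylow (T : Sylow p G) {A B : Subgroup G}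
    (hTA : (T : Subgroup G) ≤ A) (hAB : A ≤ B)
    (hB : Subgroup.centralizer (pCore p ↥B : Set ↥B) ≤ pCore p ↥B) :
    largestPReducedOf p A ≤ largestPReducedOf p B :=
  le_largestPReducedOf_of_le T hTA hAB hB (largestPReducedOf_le p A)
    (le_normalizer_largestPReducedOf p A) (largestPReducedOf_comm p A)
    (largestPReducedOf_exp p A) (largestPReducedOf_pRedInternal p A)

theorem relIndex_sup_of_le_normalizer (K N : Subgroup G)
    (hLE : K ≤ Subgroup.normalizer (N : Set G)) : K.relIndex (K ⊔ N) = K.relIndex N := by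
  have h1 : (K ⊓ N).relIndex K * K.relIndex (K ⊔ N) = (K ⊓ N).relIndex (K ⊔ N) :=
    Subgroup.relIndex_mul_relIndex _ _ _ inf_le_left le_sup_left
  have h2 : (K ⊓ N).relIndex N * N.relIndex (K ⊔ N) = (K ⊓ N).relIndex (K ⊔ N) :=
    Subgroup.relIndex_mul_relIndex _ _ _ inf_le_right le_sup_right
  rw [Subgroup.inf_relIndex_left] at h1
  rw [Subgroup.inf_relIndex_right, relIndex_sup_right_of_le_normalizer K N hLE] at h2
  have h3 : N.relIndex K ≠ 0 := Subgroup.index_ne_zero_of_finite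
  have : N.relIndex K * K.relIndex (K ⊔ N) = N.relIndex K * K.relIndex N := by
    rw [h1, ← h2, mul_comm]
  exact Nat.eq_of_mul_eq_mul_left (Nat.pos_of_ne_zero h3) this

/-- a subgroup `K ≤ M` of index prime to `p` contains an `M`-conjugate of the Sylow subgroup
`T ≤ M` -/
theorem exists_conj_sylow_le_of_not_dvd_relIndex (T : Sylow p G) {K M : Subgroup G}
    (hTM : (T : Subgroup G) ≤ M) (hKM : K ≤ M) (hidx : ¬ p ∣ K.relIndex M) :
    ∃ m ∈ M, (T : Subgroup G) ≤ K.map (MulAut.conj m).toMonoidHom := by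
  classical
  obtain ⟨P⟩ : Nonempty (Sylow p ↥(K.subgroupOf M)) := inferInstance
  set Q : Subgroup ↥M := (P : Subgroup ↥(K.subgroupOf M)).map (K.subgroupOf M).subtype with hQ
  have hQp : IsPGroup p ↥Q := P.isPGroup'.map _
  have hQidx : ¬ p ∣ Q.index := by
    rw [hQ, Subgroup.index_map_subtype]
    exact Nat.Prime.not_dvd_mul Fact.out P.not_dvd_index hidx
  obtain ⟨m, hm⟩ := MulAction.exists_smul_eq ↥M (hQp.toSylow hQidx) (T.subtype hTM)
  refine ⟨(m : G), m.2, ?_⟩
  intro t ht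
  have h1 : (⟨t, hTM ht⟩ : ↥M) ∈ ((T.subtype hTM : Sylow p ↥M) : Subgroup ↥M) := by
    rw [Sylow.coe_subtype]
    exact Subgroup.mem_subgroupOf.mpr ht
  rw [← hm] at h1
  have h2 : (⟨t, hTM ht⟩ : ↥M) ∈ Q.map (MulAut.conj m).toMonoidHom := h1
  obtain ⟨q, hq, hqt⟩ := h2
  obtain ⟨q', _, rfl⟩ := hq
  have hqK : ((q' : ↥M) : G) ∈ K := Subgroup.mem_subgroupOf.mp q'.2
  refine ⟨((q' : ↥M) : G), hqK, ?_⟩
  have := congrArg Subtype.val hqt
  simpa using this

end Sylow

end Cfsg.Agent.Lib.Helper47
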