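import Cfsg.Agent.Lib.Helper47.SubnY2
import Cfsg.Agent.Lib.Helper24.CoprimeAbelian

set_option autoImplicit false

namespace Cfsg.Agent.Lib.Helper47

open Cfsg
open scoped commutatorElement Pointwise

variable {G : Type*} [Group G]

theorem omegaOneCenter_le (p : ℕ) (P : Subgroup G) :
    omegaOne p (P ⊓ Subgroup.centralizer (P : Set G)) ≤ P ⊓ Subgroup.centralizer (P : Set G) := by
  unfold omegaOne
  rw [Subgroup.closure_le]
  intro x hx
  exact hx.1

theorem omegaOneCenter_isElementaryAbelian (p : ℕ) (P : Subgroup G) :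
    IsElementaryAbelian p (omegaOne p (P ⊓ Subgroup.centralizer (P : Set G))) := by
  apply isElementaryAbelian_of_le_closure
    (s := {x : G | x ∈ P ⊓ Subgroup.centralizer (P : Set G) ∧ x ^ p = 1}) _ _ le_rfl
  · intro x hx y hy
    exact ((Subgroup.mem_centralizer_iff.mp hx.1.2) y hy.1.1).symm
  · intro x hx
    exact hx.2

theorem mem_omegaOneCenter {p : ℕ} {P : Subgroup G} {x : G} (h1 : x ∈ P)
    (h2 : x ∈ Subgroup.centralizer (P : Set G)) (h3 : x ^ p = 1) :
    x ∈ omegaOne p (P ⊓ Subgroup.centralizer (P : Set G)) :=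
  Subgroup.subset_closure ⟨⟨h1, h2⟩, h3⟩

theorem normalizer_le_normalizer_omegaOneCenter [Finite G] (p : ℕ) (P : Subgroup G) :
    Subgroup.normalizer (P : Set G) ≤
      Subgroup.normalizer
        ((omegaOne p (P ⊓ Subgroup.centralizer (P : Set G)) : Subgroup G) : Set G) := by
  intro n hn
  apply mem_normalizer_of_map_conj_le
  rw [Subgroup.map_le_iff_le_comap]
  unfold omegaOne
  rw [Subgroup.closure_le]
  rintro x ⟨⟨hx1, hx2⟩, hx3⟩
  rw [SetLike.mem_coe, Subgroup.mem_comap]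
  show n * x * n⁻¹ ∈ _
  apply Subgroup.subset_closure
  refine ⟨⟨?_, ?_⟩, ?_⟩
  · exact (Subgroup.mem_normalizer_iff.mp hn x).mp hx1
  · exact (Subgroup.mem_normalizer_iff.mp (normalizer_le_normalizer_centralizer P hn) x).mp hx2
  · rw [conj_pow, hx3]; group

/-- Frattini argument inside `X` for the subgroup `X ⊓ N` -/
theorem frattini_inf [Finite G] {p : ℕ} [Fact p.Prime] {X N P : Subgroup G}
    (hXN : X ≤ Subgroup.normalizer (N : Set G)) (S : Sylow p ↥(X ⊓ N))
    (hS : (S : Subgroup ↥(X ⊓ N)).map (X ⊓ N).subtype = P) :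
    ∀ x ∈ X, ∃ n ∈ X ⊓ N, ∃ y ∈ X ⊓ Subgroup.normalizer (P : Set G), x = n * y := by
  intro x hx
  have hPXN : P ≤ X ⊓ N := by rw [← hS]; exact Subgroup.map_subtype_le _
  have hPp : IsPGroup p ↥P := by rw [← hS]; exact isPGroup_sylow_map_subtype S
  have hxn : x ∈ Subgroup.normalizer ((X ⊓ N : Subgroup G) : Set G) :=
    normalizer_inf_le_normalizer_inf X N ⟨Subgroup.le_normalizer hx, hXN hx⟩
  have hPx : P.map (MulAut.conj x).toMonoidHom ≤ X ⊓ N := by
    have := Subgroup.map_mono (f := (MulAut.conj x).toMonoidHom) hPXN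
    rwa [map_conj_eq_iff_mem_normalizer.mpr hxn] at this
  obtain ⟨n, hn, hle⟩ := exists_conj_le_sylow_in (X ⊓ N) S (isPGroup_map_conj hPp x) hPx
  rw [hS, map_conj_map_conj] at hle
  have hy : n * x ∈ Subgroup.normalizer (P : Set G) := mem_normalizer_of_map_conj_le hle
  refine ⟨n⁻¹, (X ⊓ N).inv_mem hn, n * x, ⟨X.mul_mem hn.1 hx, hy⟩, by group⟩

/-- `K` acts on the abelian `p`-group `U` as a `p'`-group (its normal Sylow subgroup `T₀`
centralizes `U`); a `p`-group `T` normalizes `U` and `K`, and the `T`-fixed points of `U` are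
`K`-fixed. Then `K` centralizes `U`. -/
theorem le_centralizer_of_fixed_points [Finite G] {p : ℕ} [Fact p.Prime] {U K T₀ T : Subgroup G}
    (hUc : ∀ a ∈ U, ∀ b ∈ U, a * b = b * a) (hUp : IsPGroup p ↥U)
    (hKU : K ≤ Subgroup.normalizer (U : Set G)) (hT₀K : T₀ ≤ K)
    (hKT₀ : K ≤ Subgroup.normalizer (T₀ : Set G)) (hT₀p : IsPGroup p ↥T₀)
    (hT₀U : T₀ ≤ Subgroup.centralizer (U : Set G)) (hidx : (T₀.relIndex K).Coprime p)
    (hTp : IsPGroup p ↥T) (hTU : T ≤ Subgroup.normalizer (U : Set G))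
    (hTK : T ≤ Subgroup.normalizer (K : Set G))
    (hfix : U ⊓ Subgroup.centralizer (T : Set G) ≤ Subgroup.centralizer (K : Set G)) :
    K ≤ Subgroup.centralizer (U : Set G) := by
  classical
  have hp : p.Prime := Fact.out
  have hNn : (T₀.subgroupOf K).Normal := Subgroup.normal_subgroupOf_of_le_normalizer hKT₀
  have hNp : IsPGroup p ↥(T₀.subgroupOf K) := hT₀p.comap_subtype
  have hcop : Nat.Coprime (Nat.card ↥(T₀.subgroupOf K)) (T₀.subgroupOf K).index := by
    obtain ⟨a, ha⟩ := (IsPGroup.iff_card).mp hNp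
    rw [ha]
    exact (Nat.Coprime.pow_left a (Nat.Coprime.symm hidx))
  obtain ⟨K₁', hK₁'⟩ := Subgroup.exists_left_complement'_of_coprime hcop
  set K₁ : Subgroup G := K₁'.map K.subtype with hK₁
  have hK₁K : K₁ ≤ K := Subgroup.map_subtype_le _
  have hcard : Nat.card ↥K₁ = T₀.relIndex K := by
    rw [hK₁, Subgroup.card_map_of_injective (Subgroup.subtype_injective K)]
    exact hK₁'.index_eq_card.symm
  have hfac : ∀ k ∈ K, ∃ k₁ ∈ K₁, ∃ t ∈ T₀, k = k₁ * t := by
    intro k hk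
    have h1 : (⟨k, hk⟩ : ↥K) ∈ K₁' ⊔ T₀.subgroupOf K := by
      rw [hK₁'.sup_eq_top]; trivial
    obtain ⟨y, hy, z, hz, hyz⟩ := Subgroup.mem_sup_of_normal_right.mp h1
    refine ⟨(y : G), ⟨y, hy, rfl⟩, (z : G), Subgroup.mem_subgroupOf.mp hz, ?_⟩
    have := congrArg Subtype.val hyz
    simpa using this.symm
  have hUcomm : IsMulCommutative ↥U := by
    rw [isMulCommutative_iff]
    intro a b
    apply Subtype.ext
    exact hUc a a.2 b b.2
  have hK₁U : K₁ ≤ Subgroup.normalizer (U : Set G) := hK₁K.trans hKU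
  have hcop' : (Nat.card ↥K₁).Coprime (Nat.card ↥U) := by
    obtain ⟨a, ha⟩ := (IsPGroup.iff_card).mp hUp
    rw [ha, hcard]
    exact Nat.Coprime.pow_right a hidx
  have hbot := Cfsg.Agent.Lib.Helper24.commutator_inf_centralizer_eq_bot_of_abelian U K₁ hK₁U hcop'
  have hBeq : ⁅U, K⁆ = ⁅U, K₁⁆ := by
    apply le_antisymm
    · rw [Subgroup.commutator_le]
      intro u hu k hk
      obtain ⟨k₁, hk₁, t, ht, rfl⟩ := hfac k hk
      have htu : u⁻¹ * t = t * u⁻¹ :=
        (Subgroup.mem_centralizer_iff.mp (hT₀U ht)) u⁻¹ (U.inv_mem hu)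
      have e : ⁅u, k₁ * t⁆ = ⁅u, k₁⁆ := by
        rw [commutatorElement_def, commutatorElement_def]
        calc u * (k₁ * t) * u⁻¹ * (k₁ * t)⁻¹ = u * k₁ * (t * u⁻¹) * t⁻¹ * k₁⁻¹ := by group
          _ = u * k₁ * (u⁻¹ * t) * t⁻¹ * k₁⁻¹ := by rw [htu]
          _ = u * k₁ * u⁻¹ * k₁⁻¹ := by group
      rw [e]
      exact Subgroup.commutator_mem_commutator hu hk₁
    · exact Subgroup.commutator_mono le_rfl hK₁K
  have hBU : ⁅U, K⁆ ≤ U := Cfsg.Agent.Lib.Helper24.commutator_le_of_le_normalizer U K hKU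
  have hB : ⁅U, K⁆ = ⊥ := by
    by_contra hB1
    have hTB : T ≤ Subgroup.normalizer ((⁅U, K⁆ : Subgroup G) : Set G) :=
      (le_inf hTU hTK).trans (normalizer_inf_normalizer_le_normalizer_commutator U K)
    have hne := inf_centralizer_ne_bot_of_pgroup hTp (hUp.to_le hBU) hTB hB1
    apply hne
    rw [eq_bot_iff, ← hbot]
    apply le_inf
    · rw [← hBeq]; exact inf_le_left
    · exact ((inf_le_inf_right _ hBU).trans hfix).trans (Subgroup.centralizer_le hK₁K)
  rw [Subgroup.commutator_eq_bot_iff_le_centralizer] at hB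
  exact Subgroup.le_centralizer_iff.mp hB

/-- transport of internal `p`-reducedness into a subgroup -/
theorem pRedInternal_subgroupOf {p : ℕ} {Y M L : Subgroup G} (hYL : Y ≤ L) (hML : M ≤ L)
    (h : PRedInternal p Y M) : PRedInternal p (Y.subgroupOf L) (M.subgroupOf L) := by
  intro D' hD'M hMD' hD'p
  set D₀ : Subgroup G := D'.map L.subtype with hD₀
  have h1 : D₀ ≤ M := by
    rintro d ⟨d', hd', rfl⟩
    exact Subgroup.mem_subgroupOf.mp (hD'M hd')
  have h2 : M ≤ Subgroup.normalizer (D₀ : Set G) := by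
    intro m hm
    have hm' : (⟨m, hML hm⟩ : ↥L) ∈ Subgroup.normalizer (D' : Set ↥L) :=
      hMD' (Subgroup.mem_subgroupOf.mpr hm)
    have h0 : L.subtype ⟨m, hML hm⟩ ∈ Subgroup.normalizer ((D'.map L.subtype : Subgroup G) : Set G) :=
      Subgroup.le_normalizer_map L.subtype (Subgroup.mem_map_of_mem L.subtype hm')
    exact h0
  have h3 : ∀ d ∈ D₀, ∃ k : ℕ, d ^ (p ^ k) ∈ Subgroup.centralizer (Y : Set G) := by
    rintro d ⟨d', hd', rfl⟩
    obtain ⟨k, hk⟩ := hD'p d' hd'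
    refine ⟨k, ?_⟩
    rw [mem_centralizer_subgroupOf_iff hYL] at hk
    simpa using hk
  have h4 := h D₀ h1 h2 h3
  intro d' hd'
  rw [mem_centralizer_subgroupOf_iff hYL]
  exact h4 ⟨d', hd', rfl⟩

end Cfsg.Agent.Lib.Helper47
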