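import Cfsg.Agent.Lib.Helper47.BasicProp1
import Cfsg.Agent.S2824

set_option autoImplicit false

namespace Cfsg.Agent.Lib.Helper47

open Cfsg
open scoped commutatorElement Pointwise

variable {G : Type*} [Group G] [Finite G] {p : ℕ} [Fact p.Prime]

theorem charp_of_mem_charPSubgroups {X : Subgroup G} (h : X ∈ charPSubgroups p G) :
    Subgroup.centralizer (pCore p ↥X : Set ↥X) ≤ pCore p ↥X :=
  charp_of_inf_centralizer_pCoreOf_le X (inf_le_right.trans h.2)

/-- if `M` is minimal among the subgroups `X` with `T ≤ X ≤ M` supplementing the normal subgroup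
`CM` of `M`, and `T₀ ⊴ M` is a Sylow subgroup of `CM`, then `CM O_p(M)/O_p(M) ≤ Φ(M/O_p(M))` -/
theorem frattini_of_minimal_supplement (T : Sylow p G) {M CM T₀ : Subgroup G}
    (hTM : (T : Subgroup G) ≤ M) (hCMM : CM ≤ M)
    (hMCM : M ≤ Subgroup.normalizer (CM : Set G)) (hT₀ : T₀ ≤ CM)
    (hMT₀ : M ≤ Subgroup.normalizer (T₀ : Set G)) (hT₀p : IsPGroup p ↥T₀)
    (hidx : ¬ p ∣ T₀.relIndex CM)
    (hmin : ∀ X : Subgroup G, (T : Subgroup G) ≤ X → X ≤ M → M ≤ X ⊔ CM → X = M) :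
    (CM.subgroupOf M).map (QuotientGroup.mk' (pCore p ↥M)) ≤ frattini (↥M ⧸ pCore p ↥M) := by
  classical
  have hπs : Function.Surjective (QuotientGroup.mk' (pCore p ↥M)) :=
    QuotientGroup.mk'_surjective _
  have hC'n : (CM.subgroupOf M).Normal := Subgroup.normal_subgroupOf_of_le_normalizer hMCM
  have hCbn : ((CM.subgroupOf M).map (QuotientGroup.mk' (pCore p ↥M))).Normal :=
    Subgroup.Normal.map hC'n _ hπs
  unfold frattini Order.radical
  apply le_iInf₂
  intro Kb hKb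
  have hKb' : IsCoatom Kb := hKb
  by_contra hnot
  have hsup : Kb ⊔ (CM.subgroupOf M).map (QuotientGroup.mk' (pCore p ↥M)) = ⊤ := by
    by_contra h
    have hlt : Kb < Kb ⊔ (CM.subgroupOf M).map (QuotientGroup.mk' (pCore p ↥M)) := by
      refine lt_of_le_of_ne le_sup_left ?_
      intro heq
      apply hnot
      rw [heq]
      exact le_sup_right
    exact h (hKb'.2 _ hlt)
  set K' : Subgroup ↥M := Kb.comap (QuotientGroup.mk' (pCore p ↥M)) with hK'
  set K : Subgroup G := K'.map M.subtype with hK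
  have hKM : K ≤ M := Subgroup.map_subtype_le _
  have hfac : ∀ m ∈ M, ∃ k ∈ K, ∃ c ∈ CM, m = k * c := by
    intro m hm
    have h1 : (QuotientGroup.mk' (pCore p ↥M)) ⟨m, hm⟩ ∈
        Kb ⊔ (CM.subgroupOf M).map (QuotientGroup.mk' (pCore p ↥M)) := by
      rw [hsup]; trivial
    obtain ⟨y, hy, z, hz, hyz⟩ := Subgroup.mem_sup_of_normal_right.mp h1
    obtain ⟨c', hc', rfl⟩ := hz
    have h2 : (QuotientGroup.mk' (pCore p ↥M)) (⟨m, hm⟩ * c'⁻¹) ∈ Kb := by
      rw [map_mul, map_inv, ← hyz]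
      simpa using hy
    refine ⟨((⟨m, hm⟩ * c'⁻¹ : ↥M) : G), ⟨_, h2, rfl⟩, (c' : G),
      Subgroup.mem_subgroupOf.mp hc', ?_⟩
    simp
  have hKne : K ≠ M := by
    intro h
    apply hKb'.1
    have hK'top : K' = ⊤ := by
      rw [eq_top_iff]
      intro x _
      have hx : (x : G) ∈ K := by rw [h]; exact x.2
      obtain ⟨x', hx', hxx'⟩ := hx
      have : x' = x := Subtype.ext hxx'
      rwa [← this]
    rw [eq_top_iff]
    intro y _
    obtain ⟨x, rfl⟩ := hπs y
    have : x ∈ K' := by rw [hK'top]; trivial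
    exact this
  have hT₀K : T₀ ≤ K := by
    have h1 : T₀ ≤ pCoreOf p M := le_pCoreOf (hT₀.trans hCMM) hMT₀ hT₀p
    refine h1.trans ?_
    apply Subgroup.map_mono
    intro x hx
    show (QuotientGroup.mk' (pCore p ↥M)) x ∈ Kb
    have : (QuotientGroup.mk' (pCore p ↥M)) x = 1 := (QuotientGroup.eq_one_iff x).mpr hx
    rw [this]
    exact Kb.one_mem
  have hKCM : K ⊔ CM = M := by
    apply le_antisymm (sup_le hKM hCMM)
    intro m hm
    obtain ⟨k, hk, c, hc, rfl⟩ := hfac m hm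
    exact Subgroup.mul_mem _ (Subgroup.mem_sup_left hk) (Subgroup.mem_sup_right hc)
  have hidx' : ¬ p ∣ K.relIndex M := by
    have e : K.relIndex M = (K ⊓ CM).relIndex CM := by
      conv_lhs => rw [← hKCM]
      rw [relIndex_sup_of_le_normalizer K CM (hKM.trans hMCM), Subgroup.inf_relIndex_right]
    rw [e]
    intro h
    exact hidx (dvd_trans h (Subgroup.relIndex_dvd_of_le_left CM (le_inf hT₀K hT₀)))
  obtain ⟨m, hm, hTK⟩ := exists_conj_sylow_le_of_not_dvd_relIndex T hTM hKM hidx'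
  have hK₃M : K.map (MulAut.conj m).toMonoidHom ≤ M := map_conj_le_of_mem hKM hm
  have hMK₃ : M ≤ K.map (MulAut.conj m).toMonoidHom ⊔ CM := by
    intro x hx
    have hx' : m⁻¹ * x * m ∈ M := M.mul_mem (M.mul_mem (M.inv_mem hm) hx) hm
    obtain ⟨k, hk, c, hc, hkc⟩ := hfac _ hx'
    have e : x = (m * k * m⁻¹) * (m * c * m⁻¹) := by
      calc x = m * (m⁻¹ * x * m) * m⁻¹ := by group
        _ = m * (k * c) * m⁻¹ := by rw [hkc]
        _ = _ := by group
    rw [e]
    refine Subgroup.mul_mem _ (Subgroup.mem_sup_left (conj_mem_map_conj m hk))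
      (Subgroup.mem_sup_right ?_)
    exact (Subgroup.mem_normalizer_iff.mp (hMCM hm) c).mp hc
  have hK₃eq : K.map (MulAut.conj m).toMonoidHom = M := hmin _ hTK hK₃M hMK₃
  apply hKne
  apply Subgroup.eq_of_le_of_card_ge hKM
  rw [← hK₃eq]
  exact (card_map_conj K m).le

end Cfsg.Agent.Lib.Helper47
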