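import Cfsg.Agent.Lib.Helper47.BasicProp3

set_option autoImplicit false

namespace Cfsg.Agent.Lib.Helper47

open Cfsg
open scoped commutatorElement Pointwise

variable {G : Type*} [Group G] [Finite G] {p : ℕ} [Fact p.Prime]

/-- in a group of parabolic characteristic `p`, every subgroup containing a Sylow `p`-subgroup and
having nontrivial `O_p` lies in `𝓛_H` -/
theorem mem_charPSubgroups_of_parabolicChar (hH : IsOfParabolicCharacteristic p G) (T : Sylow p G)
    (R : Subgroup G) (hTR : (T : Subgroup G) ≤ R) (hR1 : pCore p ↥R ≠ ⊥) :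
    R ∈ charPSubgroups p G := by
  refine ⟨hR1, ?_⟩
  show Subgroup.centralizer ((pCoreOf p R : Subgroup G) : Set G) ≤ pCoreOf p R
  set P : Subgroup G := pCoreOf p R with hP
  have hPp : IsPGroup p ↥P := pCoreOf_isPGroup p R
  have hP1 : P ≠ ⊥ := fun h => hR1 ((pCoreOf_eq_bot_iff p R).mp h)
  have hRP : R ≤ Subgroup.normalizer (P : Set G) := le_normalizer_pCoreOf p R
  set N : Subgroup G := Subgroup.normalizer (P : Set G) with hN
  have hTN : (T : Subgroup G) ≤ N := hTR.trans hRP
  have hNc : Subgroup.centralizer (pCore p ↥N : Set ↥N) ≤ pCore p ↥N := hH P hPp hP1 ⟨T, hTN⟩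
  have h1 := inf_centralizer_pCoreOf_le_of_charp N hNc
  have hPN : pCoreOf p N = P := by
    apply le_antisymm
    · have h2 : pCoreOf p N ≤ R := (pCoreOf_le_sylow T hTN).trans hTR
      exact le_pCoreOf h2 (hRP.trans (le_normalizer_pCoreOf p N)) (pCoreOf_isPGroup p N)
    · exact le_pCoreOf Subgroup.le_normalizer le_rfl hPp
  rw [hPN] at h1
  intro x hx
  exact h1 ⟨Subgroup.centralizer_le_normalizer _ hx, hx⟩

end Cfsg.Agent.Lib.Helper47
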