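import Cfsg.Agent.Lib.Helper47.FrakM

set_option autoImplicit false

namespace Cfsg.Agent.Lib.Helper47

open Cfsg
open scoped commutatorElement Pointwise

variable {G : Type*} [Group G]

theorem closure_le_centralizer_closure_of_comm {s : Set G}
    (hcomm : ∀ x ∈ s, ∀ y ∈ s, x * y = y * x) :
    Subgroup.closure s ≤ Subgroup.centralizer ((Subgroup.closure s : Subgroup G) : Set G) := by
  have h1 : Subgroup.closure s ≤ Subgroup.centralizer s := by
    rw [Subgroup.closure_le]
    intro x hx
    rw [SetLike.mem_coe, Subgroup.mem_centralizer_iff]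
    intro h hh
    exact hcomm h hh x hx
  rw [Subgroup.closure_le]
  intro x hx
  rw [SetLike.mem_coe, Subgroup.mem_centralizer_iff]
  intro h hh
  exact ((Subgroup.mem_centralizer_iff.mp (h1 hh)) x hx).symm

theorem pow_eq_one_of_mem_closure {s : Set G} {p : ℕ}
    (hcomm : ∀ x ∈ s, ∀ y ∈ s, x * y = y * x) (hp : ∀ x ∈ s, x ^ p = 1) :
    ∀ x ∈ Subgroup.closure s, x ^ p = 1 := by
  have hA := closure_le_centralizer_closure_of_comm hcomm
  intro x hx
  induction hx using Subgroup.closure_induction with
  | mem x hx => exact hp x hx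
  | one => simp
  | mul x y hx hy ihx ihy =>
    have hc : Commute x y := by
      have := (Subgroup.mem_centralizer_iff.mp (hA hy)) x hx
      exact this
    rw [hc.mul_pow, ihx, ihy, mul_one]
  | inv x hx ih => rw [inv_pow, ih, inv_one]

/-- a subgroup of a group generated by pairwise commuting elements of order dividing `p` is
elementary abelian -/
theorem isElementaryAbelian_of_le_closure {s : Set G} {p : ℕ}
    (hcomm : ∀ x ∈ s, ∀ y ∈ s, x * y = y * x) (hp : ∀ x ∈ s, x ^ p = 1) {W : Subgroup G}
    (hW : W ≤ Subgroup.closure s) : IsElementaryAbelian p W := by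
  have hA := closure_le_centralizer_closure_of_comm hcomm
  refine ⟨?_, fun a ha => pow_eq_one_of_mem_closure hcomm hp a (hW ha)⟩
  rw [isMulCommutative_iff]
  intro a b
  apply Subtype.ext
  have := (Subgroup.mem_centralizer_iff.mp (hA (hW a.2))) b.1 (hW b.2)
  simpa using this.symm

end Cfsg.Agent.Lib.Helper47
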