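import Cfsg.Agent.Lib.Helper47.FrakL2

set_option autoImplicit false

/-! # S2863 hive (`FL`): definitions

`cj g P` (conjugate subgroup), `fx ρ K` (common fixed points of a subgroup on a module),
`ModSetup` (the module `V = O_p(L)/C_Y(L)` seen from `X = L/O_p(L)`), `GoodPair` (the purely
group-theoretic property of `(X, P)`, `P` the image of `Y`), `CoreSetup` (the situation inside `L`). -/

namespace Cfsg.Agent.Lib.Helper47.FL

section cj

variable {X : Type*} [Group X]

/-- the conjugate `g P g⁻¹` -/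
def cj (g : X) (P : Subgroup X) : Subgroup X := P.map (MulAut.conj g).toMonoidHom

theorem mem_cj {g x : X} {P : Subgroup X} : x ∈ cj g P ↔ ∃ y ∈ P, g * y * g⁻¹ = x := by
  constructor
  · rintro ⟨y, hy, rfl⟩
    exact ⟨y, hy, rfl⟩
  · rintro ⟨y, hy, rfl⟩
    exact ⟨y, hy, rfl⟩

theorem mem_cj_iff {g x : X} {P : Subgroup X} : x ∈ cj g P ↔ g⁻¹ * x * g ∈ P := by
  rw [mem_cj]
  constructor
  · rintro ⟨y, hy, rfl⟩
    have : g⁻¹ * (g * y * g⁻¹) * g = y := by group
    rwa [this]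
  · intro h
    exact ⟨_, h, by group⟩

theorem conj_mem_cj {g y : X} {P : Subgroup X} (hy : y ∈ P) : g * y * g⁻¹ ∈ cj g P :=
  mem_cj.mpr ⟨y, hy, rfl⟩

theorem cj_one (P : Subgroup X) : cj 1 P = P := by
  ext x
  rw [mem_cj_iff]
  simp

theorem cj_mul (g h : X) (P : Subgroup X) : cj (g * h) P = cj g (cj h P) := by
  ext x
  rw [mem_cj_iff, mem_cj_iff, mem_cj_iff]
  have : (g * h)⁻¹ * x * (g * h) = h⁻¹ * (g⁻¹ * x * g) * h := by group
  rw [this]

theorem cj_inv_cj (g : X) (P : Subgroup X) : cj g⁻¹ (cj g P) = P := by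
  rw [← cj_mul, inv_mul_cancel, cj_one]

theorem cj_cj_inv (g : X) (P : Subgroup X) : cj g (cj g⁻¹ P) = P := by
  rw [← cj_mul, mul_inv_cancel, cj_one]

theorem cj_eq_self_iff {g : X} {P : Subgroup X} :
    cj g P = P ↔ g ∈ Subgroup.normalizer (P : Set X) := by
  rw [Subgroup.mem_normalizer_iff]
  constructor
  · intro h n
    constructor
    · intro hn
      have : g * n * g⁻¹ ∈ cj g P := conj_mem_cj hn
      rwa [h] at this
    · intro hn
      rw [← h, mem_cj_iff] at hn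
      have h2 : g⁻¹ * (g * n * g⁻¹) * g = n := by group
      rwa [h2] at hn
  · intro h
    ext x
    rw [mem_cj_iff]
    have h1 := h (g⁻¹ * x * g)
    have h2 : g * (g⁻¹ * x * g) * g⁻¹ = x := by group
    rw [h2] at h1
    exact h1

theorem cj_mono {g : X} {P Q : Subgroup X} (h : P ≤ Q) : cj g P ≤ cj g Q := Subgroup.map_mono h

theorem card_cj (g : X) (P : Subgroup X) : Nat.card ↥(cj g P) = Nat.card ↥P :=
  Nat.card_congr (Subgroup.equivMapOfInjective P _ (MulAut.conj g).injective).symm.toEquiv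

end cj

section mod

variable {X : Type*} [Group X] {V : Type*} [AddCommGroup V]

/-- the common fixed points of the subgroup `K` on `V` -/
def fx (ρ : X →* AddMonoid.End V) (K : Subgroup X) : AddSubgroup V where
  carrier := {v | ∀ y ∈ K, ρ y v = v}
  zero_mem' := by
    intro y _
    exact map_zero _
  add_mem' := by
    intro a b ha hb y hy
    rw [map_add, ha y hy, hb y hy]
  neg_mem' := by
    intro a ha y hy
    rw [map_neg, ha y hy]

theorem mem_fx {ρ : X →* AddMonoid.End V} {K : Subgroup X} {v : V} :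
    v ∈ fx ρ K ↔ ∀ y ∈ K, ρ y v = v := Iff.rfl

theorem rho_mul (ρ : X →* AddMonoid.End V) (g h : X) (v : V) : ρ (g * h) v = ρ g (ρ h v) := by
  rw [map_mul]
  rfl

theorem rho_one (ρ : X →* AddMonoid.End V) (v : V) : ρ 1 v = v := by
  rw [map_one]
  rfl

theorem rho_inv_cancel (ρ : X →* AddMonoid.End V) (g : X) (v : V) : ρ g⁻¹ (ρ g v) = v := by
  rw [← rho_mul, inv_mul_cancel, rho_one]

theorem rho_cancel_inv (ρ : X →* AddMonoid.End V) (g : X) (v : V) : ρ g (ρ g⁻¹ v) = v := by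
  rw [← rho_mul, mul_inv_cancel, rho_one]

theorem rho_injective (ρ : X →* AddMonoid.End V) (g : X) : Function.Injective (ρ g) := by
  intro v w h
  rw [← rho_inv_cancel ρ g v, h, rho_inv_cancel]

/-- `C_V(g K g⁻¹) = g C_V(K)` -/
theorem mem_fx_cj {ρ : X →* AddMonoid.End V} {K : Subgroup X} {g : X} {v : V} :
    v ∈ fx ρ (cj g K) ↔ ρ g⁻¹ v ∈ fx ρ K := by
  constructor
  · intro h y hy
    have h1 := h _ (conj_mem_cj (g := g) hy)
    rw [rho_mul, rho_mul] at h1
    have h2 := congrArg (ρ g⁻¹) h1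
    rwa [rho_inv_cancel] at h2
  · intro h x hx
    obtain ⟨y, hy, rfl⟩ := mem_cj.mp hx
    have h1 := h y hy
    rw [rho_mul, rho_mul, h1, rho_cancel_inv]

theorem rho_mem_fx_cj {ρ : X →* AddMonoid.End V} {K : Subgroup X} {g : X} {v : V}
    (h : v ∈ fx ρ K) : ρ g v ∈ fx ρ (cj g K) := by
  rw [mem_fx_cj, rho_inv_cancel]
  exact h

/-- what the module `V = O_p(L)/C_Y(L)` looks like from `X = L/O_p(L)`, `P` the image of `Y`:
`P` acts quadratically with `[V, P] ≤ C_V(P)`, and for every conjugate `P' ≠ P` we have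
`V = C_V(P) ⊕ C_V(P')`. -/
structure ModSetup (ρ : X →* AddMonoid.End V) (P : Subgroup X) : Prop where
  quad : ∀ y ∈ P, ∀ v : V, ρ y v - v ∈ fx ρ P
  disj : ∀ g : X, cj g P ≠ P → ∀ v : V, v ∈ fx ρ P → v ∈ fx ρ (cj g P) → v = 0
  span : ∀ g : X, cj g P ≠ P → ∀ v : V, ∃ v1 ∈ fx ρ P, ∃ v2 ∈ fx ρ (cj g P), v = v1 + v2

end mod

/-- the group-theoretic property of `(X, P)` (`X = L/O_p(L)`, `P` the image of `Y`):
* `free`: every `1 ≠ y ∈ P` has a partner `y'` in another conjugate `P'` of `P` such that some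
  element of `⟨y, y'⟩` carries `P'` to `P`;
* `fpf`: for every `x` whose order is not a power of `p`, some power of `x` is a product of two
  nontrivial elements from two different conjugates of `P`, or (`p` odd) is the square of an element
  `n = y y' y` exchanging `P` and a conjugate `P'`. -/
structure GoodPair {X : Type*} [Group X] (p : ℕ) (P : Subgroup X) : Prop where
  free : ∀ y ∈ P, y ≠ 1 → ∃ g : X, cj g P ≠ P ∧ ∃ y' ∈ cj g P,
    ∃ n ∈ Subgroup.closure ({y, y'} : Set X), cj n (cj g P) = P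
  fpf : ∀ x : X, (¬ ∃ k : ℕ, orderOf x = p ^ k) → ∃ j : ℕ,
    (∃ g1 g2 : X, cj g1 P ≠ cj g2 P ∧ ∃ y1 ∈ cj g1 P, ∃ y2 ∈ cj g2 P,
        y1 ≠ 1 ∧ y2 ≠ 1 ∧ x ^ j = y1 * y2) ∨
    (p ≠ 2 ∧ ∃ g : X, cj g P ≠ P ∧ ∃ y ∈ P, ∃ y' ∈ cj g P,
        cj (y * y' * y) P = cj g P ∧ cj (y * y' * y) (cj g P) = P ∧
          x ^ j = (y * y' * y) * (y * y' * y))

/-- the situation inside `H = L`: `Y` abelian, `A = O_p(L)` normal, normalizing `Y`, generated by
the conjugates of `Y ∩ A`; `H` generated by the conjugates of `Y`; two different conjugates of `Y`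
generate `H`. -/
structure CoreSetup {H : Type*} [Group H] (Y A : Subgroup H) : Prop where
  normal : A.Normal
  comm : ∀ a ∈ Y, ∀ b ∈ Y, a * b = b * a
  norm : A ≤ Subgroup.normalizer (Y : Set H)
  acl : A = Subgroup.normalClosure ((Y ⊓ A : Subgroup H) : Set H)
  ycl : Subgroup.normalClosure (Y : Set H) = ⊤
  cle : Y ⊓ Subgroup.center H ≤ A
  opp : ∀ g : H, g ∉ Subgroup.normalizer (Y : Set H) → Y ⊔ cj g Y = ⊤
  nne : Subgroup.normalizer (Y : Set H) ≠ ⊤

end Cfsg.Agent.Lib.Helper47.FL
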