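import Cfsg.Agent.Lib.Helper13.FLWC

set_option autoImplicit false

/-! # S2863 hive (`FL`): `CoreSetup` for a member of `𝔏_G(Y_M)` -/

namespace Cfsg.Agent.Lib.Helper47.FL

open Cfsg Cfsg.Agent.Lib.Helper47

theorem cj_map {X X' : Type*} [Group X] [Group X'] (f : X →* X') (g : X) (K : Subgroup X) :
    (cj g K).map f = cj (f g) (K.map f) := by
  ext x
  constructor
  · rintro ⟨_, ⟨y, hy, rfl⟩, rfl⟩
    refine mem_cj.mpr ⟨f y, ⟨y, hy, rfl⟩, ?_⟩
    show f g * f y * (f g)⁻¹ = f (g * y * g⁻¹)
    rw [map_mul, map_mul, map_inv]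
  · intro hx
    obtain ⟨_, ⟨y, hy, rfl⟩, rfl⟩ := mem_cj.mp hx
    refine ⟨g * y * g⁻¹, conj_mem_cj hy, ?_⟩
    rw [map_mul, map_mul, map_inv]

section frakL

variable {G : Type*} [Group G] [Finite G] {p : ℕ} [Fact p.Prime]

omit [Finite G] in
theorem frakL_subgroupOf_le_normalizer {Y L : Subgroup G} {x : ↥L}
    (hx : (x : G) ∈ Subgroup.normalizer ((Y : Subgroup G) : Set G)) :
    x ∈ Subgroup.normalizer ((Y.subgroupOf L : Subgroup ↥L) : Set ↥L) := by
  rw [Subgroup.mem_normalizer_iff] at hx ⊢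
  intro h
  rw [Subgroup.mem_subgroupOf, Subgroup.mem_subgroupOf]
  exact hx (h : G)

theorem frakL_normalizer_subgroupOf {Y L : Subgroup G} (hYL : Y ≤ L) {x : ↥L}
    (hx : x ∈ Subgroup.normalizer ((Y.subgroupOf L : Subgroup ↥L) : Set ↥L)) :
    (x : G) ∈ Subgroup.normalizer ((Y : Subgroup G) : Set G) := by
  apply Subgroup.mem_normalizer_fintype
  intro y hy
  have h1 := (Subgroup.mem_normalizer_iff.mp hx ⟨y, hYL hy⟩).mp (Subgroup.mem_subgroupOf.mpr hy)
  exact Subgroup.mem_subgroupOf.mp h1

theorem frakL_coreSetup {M L : Subgroup G} (hL : IsInFrakL p M L) :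
    CoreSetup ((largestPReducedOf p M).subgroupOf L) (pCore p ↥L) := by
  have hlb := frakL_lbar hL
  have hL' := hL
  obtain ⟨hYL, hAcl, hAY, hmin, -, ⟨hlt, hmax⟩, -⟩ := hL
  have hAn : ∀ a ∈ pCore p ↥L, a ∈ Subgroup.normalizer
      (((largestPReducedOf p M).subgroupOf L : Subgroup ↥L) : Set ↥L) := by
    intro a ha
    exact frakL_subgroupOf_le_normalizer (hAY ((mem_pCoreOf_iff a).mpr ha))
  have hnne : Subgroup.normalizer
      (((largestPReducedOf p M).subgroupOf L : Subgroup ↥L) : Set ↥L) ≠ ⊤ := by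
    intro htop
    apply lt_irrefl L
    refine lt_of_le_of_lt ?_ hlt
    intro l hl
    refine ⟨hl, ?_⟩
    have : (⟨l, hl⟩ : ↥L) ∈ Subgroup.normalizer
        (((largestPReducedOf p M).subgroupOf L : Subgroup ↥L) : Set ↥L) := by
      rw [htop]
      exact Subgroup.mem_top _
    exact frakL_normalizer_subgroupOf hYL this
  refine ⟨inferInstance, ?_, hAn, ?_, hmin.1, ?_, ?_, hnne⟩
  · intro a ha b hb
    apply Subtype.ext
    exact largestPReducedOf_comm p M a (Subgroup.mem_subgroupOf.mp ha) b (Subgroup.mem_subgroupOf.mp hb)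
  · -- acl
    have h1 : (largestPReducedOf p M ⊓ pCoreOf p L).subgroupOf L =
        (largestPReducedOf p M).subgroupOf L ⊓ pCore p ↥L := by
      ext x
      rw [Subgroup.mem_subgroupOf, Subgroup.mem_inf, Subgroup.mem_inf, Subgroup.mem_subgroupOf,
        mem_pCoreOf_iff]
    rw [h1] at hAcl
    have h2 : (pCore p ↥L).map L.subtype = (Subgroup.normalClosure
        ((((largestPReducedOf p M).subgroupOf L ⊓ pCore p ↥L : Subgroup ↥L)) : Set ↥L)).map
          L.subtype := hAcl
    exact Subgroup.map_injective (Subgroup.subtype_injective L) h2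
  · -- cle
    apply le_pCore
    · constructor
      intro n hn g
      have hc := Subgroup.mem_center_iff.mp hn.2
      have : g * n * g⁻¹ = n := by
        rw [hc g, mul_assoc, mul_inv_cancel, mul_one]
      rw [this]
      exact hn
    · have h1 : IsPGroup p ↥((largestPReducedOf p M).subgroupOf L) :=
        (largestPReducedOf_isPGroup p M).comap_of_injective _ (Subgroup.subtype_injective _)
      exact h1.to_le inf_le_left
  · -- opp
    intro g hg
    by_contra hK
    set Y' : Subgroup ↥L := (largestPReducedOf p M).subgroupOf L with hY'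
    set K : Subgroup ↥L := Y' ⊔ cj g Y' with hKdef
    have hKG : K.map L.subtype < L := by
      refine lt_of_le_of_ne (Subgroup.map_subtype_le _) ?_
      intro h0
      apply hK
      rw [eq_top_iff]
      intro x _
      have : (x : G) ∈ K.map L.subtype := by rw [h0]; exact x.2
      obtain ⟨x', hx', hxx'⟩ := this
      have : x' = x := Subtype.ext hxx'
      rwa [← this]
    have hYK : largestPReducedOf p M ≤ K.map L.subtype := by
      intro y hy
      exact ⟨⟨y, hYL hy⟩, (le_sup_left : Y' ≤ K) (Subgroup.mem_subgroupOf.mpr hy), rfl⟩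
    have hle := hmax _ hYK hKG
    have hKN : K ≤ Subgroup.normalizer ((Y' : Subgroup ↥L) : Set ↥L) := by
      intro x hx
      exact frakL_subgroupOf_le_normalizer (hle ⟨x, hx, rfl⟩).2
    have hcjN : cj g Y' ≤ Subgroup.normalizer ((Y' : Subgroup ↥L) : Set ↥L) :=
      le_sup_right.trans hKN
    have h3 : cj (QuotientGroup.mk' (pCore p ↥L) g) (ybarL p (largestPReducedOf p M) L) ≤
        Subgroup.normalizer ((ybarL p (largestPReducedOf p M) L : Subgroup _) : Set _) := by
      rw [ybarL, ← cj_map]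
      exact (Subgroup.map_mono hcjN).trans (Subgroup.le_normalizer_map _)
    have h4 := lbar_weakly_closed hlb _ h3
    rw [cj_eq_self_iff] at h4
    have h5 := frakL_normalizer_le hL' h4
    obtain ⟨n, hn, hng⟩ := h5
    have h6 : n⁻¹ * g ∈ pCore p ↥L := by
      have := QuotientGroup.eq.mp hng
      exact this
    apply hg
    have h7 : n ∈ Subgroup.normalizer ((Y' : Subgroup ↥L) : Set ↥L) :=
      frakL_subgroupOf_le_normalizer (Subgroup.mem_subgroupOf.mp hn).2
    have h8 : g = n * (n⁻¹ * g) := by group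
    rw [h8]
    exact Subgroup.mul_mem _ h7 (hAn _ h6)

end frakL

end Cfsg.Agent.Lib.Helper47.FL
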