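import Cfsg.Agent.Lib.Helper46.SL2Gen
import Cfsg.Agent.Lib.Helper47.FrakL1

set_option autoImplicit false

/-! # Members of `𝔏_G(Y_M)`: the case `L/O_p(L) ≅ SL₂(q)` -/

namespace Cfsg.Agent.Lib.Helper47

open Cfsg Cfsg.Agent.Lib.Helper46.SL2

section sl2

variable {F : Type*} [Field F]

/-- every element of a finite field is a sum of two squares -/
theorem ff_sum_two_squares [Fintype F] (x : F) : ∃ a b : F, a ^ 2 + b ^ 2 = x := by
  classical
  by_cases hF : Fintype.card F % 2 = 1
  · have hf : (Polynomial.X ^ 2 : Polynomial F).degree = 2 := Polynomial.degree_X_pow 2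
    have hg : (Polynomial.X ^ 2 - Polynomial.C x : Polynomial F).degree = 2 :=
      Polynomial.degree_X_pow_sub_C (by norm_num) x
    obtain ⟨a, b, hab⟩ := FiniteField.exists_root_sum_quadratic hf hg hF
    refine ⟨a, b, ?_⟩
    simp only [Polynomial.eval_pow, Polynomial.eval_X, Polynomial.eval_sub, Polynomial.eval_C] at hab
    linear_combination hab
  · have h2 : ringChar F = 2 := by
      rw [FiniteField.even_card_iff_char_two]
      omega
    obtain ⟨a, ha⟩ := FiniteField.isSquare_of_char_two h2 x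
    exact ⟨a, 0, by rw [ha]; ring⟩

theorem exists_dd_eq_one {e : Fin 2 → F} (he : e ≠ 0) : ∃ w : Fin 2 → F, dd e w = 1 := by
  by_cases h0 : e 0 = 0
  · have h1 : e 1 ≠ 0 := by
      intro h1
      apply he
      exact vec2_ext h0 h1
    refine ⟨![-(e 1)⁻¹, 0], ?_⟩
    simp only [dd, Matrix.cons_val_zero, Matrix.cons_val_one]
    field_simp
    ring
  · refine ⟨![0, (e 0)⁻¹], ?_⟩
    simp only [dd, Matrix.cons_val_zero, Matrix.cons_val_one]
    field_simp
    ring

theorem dd_add_smul_self (e w : Fin 2 → F) (c : F) : dd e (w + c • e) = dd e w := by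
  rw [dd_add, dd_smul, dd_self, mul_zero, add_zero]

theorem transv_add (e : Fin 2 → F) (k k' : F) : transv e (k + k') = transv e k * transv e k' := by
  apply ext_mv
  intro w
  rw [mv_mul, mv_transv, mv_transv, mv_transv, dd_add_smul_self, add_assoc, ← add_smul]
  congr 2
  ring

theorem transv_zero (e : Fin 2 → F) : transv e 0 = 1 := by
  apply ext_mv
  intro w
  rw [mv_transv, mv_one, zero_mul, zero_smul, add_zero]

theorem transv_injective {e : Fin 2 → F} (he : e ≠ 0) : Function.Injective (transv e) := by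
  intro k k' h
  obtain ⟨w, hw⟩ := exists_dd_eq_one he
  have h1 := congrArg (fun M => mv M w) h
  simp only [mv_transv, hw, mul_one] at h1
  have h2 : (k - k') • e = 0 := by
    rw [sub_smul, sub_eq_zero]
    exact add_left_cancel h1
  rcases smul_eq_zero.mp h2 with h3 | h3
  · exact sub_eq_zero.mp h3
  · exact absurd h3 he

theorem eq_transv_of_mem_stabVec {e : Fin 2 → F} (he : e ≠ 0) {M : SL F} (hM : M ∈ stabVec e) :
    ∃ k : F, M = transv e k := by
  obtain ⟨w, hw⟩ := exists_dd_eq_one he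
  obtain ⟨c, hc⟩ := sub_mem_span_of_mem_stabVec he hM w
  refine ⟨c, ?_⟩
  have hMw : mv M w = mv (transv e c) w := by
    rw [mv_transv, hw, mul_one, ← hc]
    abel
  have h1 : (transv e c)⁻¹ * M = 1 := by
    apply eq_one_of_fix (e := e) (w := w)
    · rw [mv_mul, mem_stabVec.mp hM]
      have := transv_mem_stabVec e c
      have h2 := mv_inv_mv (transv e c) e
      rwa [mem_stabVec.mp this] at h2
    · rw [mv_mul, hMw, mv_inv_mv]
    · rw [hw]
      exact one_ne_zero
  exact (inv_mul_eq_one.mp h1).symm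

theorem card_stabVec [Fintype F] {e : Fin 2 → F} (he : e ≠ 0) :
    Nat.card ↥(stabVec e) = Fintype.card F := by
  rw [← Nat.card_eq_fintype_card]
  symm
  apply Nat.card_congr
  refine Equiv.ofBijective (fun k => ⟨transv e k, transv_mem_stabVec e k⟩) ⟨?_, ?_⟩
  · intro k k' h
    exact transv_injective he (congrArg Subtype.val h)
  · rintro ⟨M, hM⟩
    obtain ⟨k, rfl⟩ := eq_transv_of_mem_stabVec he hM
    exact ⟨k, rfl⟩

theorem conj_transv (M : SL F) (e : Fin 2 → F) (k : F) :
    M * transv e k * M⁻¹ = transv (mv M e) k := by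
  apply ext_mv
  intro w
  rw [mv_mul, mv_mul, mv_transv, mv_transv, mv_add, mv_smul, mv_mv_inv]
  have : dd e (mv M⁻¹ w) = dd (mv M e) w := by
    have h := dd_mv M e (mv M⁻¹ w)
    rw [mv_mv_inv] at h
    exact h.symm
  rw [this]

theorem transv_smul (e : Fin 2 → F) (t k : F) : transv (t • e) k = transv e (t ^ 2 * k) := by
  apply ext_mv
  intro w
  rw [mv_transv, mv_transv, dd_smul_left, smul_smul]
  congr 2
  ring

/-- the uniqueness property in `SL₂(F)` -/
theorem uniqEA_SL2 [Fintype F] {p : ℕ} [Fact p.Prime] {P : Subgroup (SL F)} (hP : IsPGroup p ↥P)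
    (hcard : Nat.card ↥P = Fintype.card F) : UniqEA p P := by
  obtain ⟨n, hn⟩ := IsPGroup.iff_card.mp hP
  have hF : Fintype.card F = p ^ n := by rw [← hcard, hn]
  have hPeq : ∀ e : Fin 2 → F, e ≠ 0 → P ≤ stabVec e → P = stabVec e := by
    intro e he hle
    apply Subgroup.eq_of_le_of_card_ge hle
    rw [card_stabVec he, hcard]
  obtain ⟨e, he, hPe⟩ := exists_fixed_vector hF P hP
  have hPe' := hPeq e he hPe
  intro W h1 h2 h3 h4 h5
  have hWp : IsPGroup p ↥W := by
    intro g
    refine ⟨1, ?_⟩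
    apply Subtype.ext
    rw [pow_one]
    exact h4 g g.2
  have hWP : IsPGroup p ↥(W ⊔ P) := hWp.to_sup_of_normal_right' hP h1
  obtain ⟨e', he', hWPe'⟩ := exists_fixed_vector hF (W ⊔ P) hWP
  have hPe'' := hPeq e' he' (le_sup_right.trans hWPe')
  have hWle : W ≤ P := by
    rw [hPe'']
    exact le_sup_left.trans hWPe'
  apply le_antisymm hWle
  obtain ⟨⟨w, hwW⟩, hw1⟩ := (Subgroup.ne_bot_iff_exists_ne_one).mp h5
  have hw1' : w ≠ 1 := fun h0 => hw1 (Subtype.ext h0)
  obtain ⟨k₀, rfl⟩ := eq_transv_of_mem_stabVec he (hPe' ▸ hWle hwW)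
  have hk₀ : k₀ ≠ 0 := by
    rintro rfl
    exact hw1' (transv_zero e)
  have hsq : ∀ a : F, transv e (a ^ 2 * k₀) ∈ W := by
    intro a
    by_cases ha : a = 0
    · rw [ha]
      simp only [ne_eq, OfNat.ofNat_ne_zero, not_false_eq_true, zero_pow, zero_mul]
      rw [transv_zero]
      exact W.one_mem
    · obtain ⟨M, hM⟩ := exists_mv_eq he (smul_ne_zero ha he)
      have hMN : M ∈ Subgroup.normalizer ((stabVec e : Subgroup (SL F)) : Set (SL F)) := by
        apply mem_normalizer_stabVec he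
        rw [hM, dd_smul, dd_self, mul_zero]
      rw [← hPe'] at hMN
      have h6 := (Subgroup.mem_normalizer_iff.mp (h2 hMN) _).mp hwW
      rw [conj_transv, hM, transv_smul] at h6
      exact h6
  rw [hPe']
  intro M hM
  obtain ⟨x, rfl⟩ := eq_transv_of_mem_stabVec he hM
  obtain ⟨a, b, hab⟩ := ff_sum_two_squares (x / k₀)
  have hx : x = a ^ 2 * k₀ + b ^ 2 * k₀ := by
    rw [← add_mul, hab, div_mul_cancel₀ _ hk₀]
  rw [hx, transv_add]
  exact W.mul_mem (hsq a) (hsq b)

end sl2

end Cfsg.Agent.Lib.Helper47
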