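import Cfsg.Agent.Lib.Helper54.FLSL2FREE
import Cfsg.Agent.Lib.Helper73.FLSL2FPF
import Cfsg.Agent.Lib.Helper3.FLSZFREE
import Cfsg.Agent.Lib.Helper60.FLSZFPF

set_option autoImplicit false

/-! # S2863 hive (`FL`): `GoodPair` for `SL₂(q)` and `Sz(q)` (assembly of the leaves) -/

namespace Cfsg.Agent.Lib.Helper47.FL

open Cfsg

section sl2
open Cfsg.Agent.Lib.Helper46.SL2
variable {F : Type*} [Field F] [Fintype F] {p : ℕ} [Fact p.Prime]

theorem goodPair_SL2 {P : Subgroup (SL F)} (hP : IsPGroup p ↥P)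
    (hcard : Nat.card ↥P = Fintype.card F) : GoodPair p P :=
  ⟨goodPair_SL2_free hP hcard, goodPair_SL2_fpf hP hcard⟩

end sl2

section sz
open Cfsg.Agent.Lib.Helper6.Sz
variable {F : Type*} [Field F] [CharP F 2] [Finite F] (s : F →+* F)
  (hs : ∀ x, s (s x) = x ^ 2)

include hs in
theorem goodPair_Sz (hnt : ∃ y : F, s y ≠ y ^ 2) {m : ℕ} (hm : 1 ≤ m)
    (hk : Nat.card F = 2 ^ (2 * m + 1)) {P : Subgroup (G s)} (hexp : ∀ a ∈ P, a ^ 2 = 1)
    (hcard : Nat.card ↥P = Nat.card F) : GoodPair 2 P :=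
  ⟨goodPair_Sz_free s hs hnt hm hk hexp hcard, goodPair_Sz_fpf s hs hnt hm hk hexp hcard⟩

end sz

end Cfsg.Agent.Lib.Helper47.FL
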