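import Cfsg.Agent.Lib.Helper47.FLDefs

set_option autoImplicit false

/-! # S2863 hive (`FL`): the module `V = A/C` for `X = H/A` (construction) -/

namespace Cfsg.Agent.Lib.Helper47.FL

section glue

variable {H : Type*} [Group H]

/-- `C = Y ∩ Z(H)` as a subgroup of `A` -/
def cA (Y A : Subgroup H) : Subgroup ↥A := (Y ⊓ Subgroup.center H).subgroupOf A

theorem mem_cA {Y A : Subgroup H} {a : ↥A} : a ∈ cA Y A ↔ (a : H) ∈ Y ⊓ Subgroup.center H :=
  Subgroup.mem_subgroupOf

instance cA_normal (Y A : Subgroup H) : (cA Y A).Normal := by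
  constructor
  intro n hn g
  rw [mem_cA] at hn ⊢
  have hc : (n : H) ∈ Subgroup.center H := hn.2
  have : ((g * n * g⁻¹ : ↥A) : H) = (n : H) := by
    push_cast
    rw [Subgroup.mem_center_iff] at hc
    rw [hc (g : H), mul_assoc, mul_inv_cancel, mul_one]
  rw [this]
  exact hn

/-- the quotient `A/C` -/
abbrev Vq (Y A : Subgroup H) : Type _ := ↥A ⧸ cA Y A

variable {Y A : Subgroup H} [hn : A.Normal]

theorem conjNormal_le_comap (h : H) :
    cA Y A ≤ (cA Y A).comap ((MulAut.conjNormal h : MulAut ↥A).toMonoidHom) := by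
  intro n hn'
  rw [Subgroup.mem_comap, mem_cA]
  rw [mem_cA] at hn'
  have hc : (n : H) ∈ Subgroup.center H := hn'.2
  have : (((MulAut.conjNormal h : MulAut ↥A).toMonoidHom n : ↥A) : H) = (n : H) := by
    show ((MulAut.conjNormal h n : ↥A) : H) = n
    rw [MulAut.conjNormal_apply]
    rw [Subgroup.mem_center_iff] at hc
    rw [hc h, mul_assoc, mul_inv_cancel, mul_one]
  rw [this]
  exact hn'

/-- the action of `h ∈ H` on `A/C` -/
noncomputable def actQ (Y : Subgroup H) {A : Subgroup H} [hn : A.Normal] (h : H) : Vq Y A →* Vq Y A :=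
  QuotientGroup.map (cA Y A) (cA Y A) ((MulAut.conjNormal h : MulAut ↥A).toMonoidHom)
    (conjNormal_le_comap h)

theorem actQ_mk (h : H) (a : ↥A) :
    actQ Y h (QuotientGroup.mk a : Vq Y A) = QuotientGroup.mk (MulAut.conjNormal h a) := rfl

/-- the action of `H` on the additive group of `A/C` -/
noncomputable def rhoH (Y A : Subgroup H) [hn : A.Normal] : H →* AddMonoid.End (Additive (Vq Y A)) where
  toFun h := MonoidHom.toAdditive (actQ Y h)
  map_one' := by
    apply AddMonoidHom.ext
    intro v
    induction v using Additive.rec with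
    | ofMul v =>
      induction v using QuotientGroup.induction_on with
      | H a =>
        show Additive.ofMul (actQ Y 1 (QuotientGroup.mk a : Vq Y A)) = _
        rw [actQ_mk, map_one]
        rfl
  map_mul' g h := by
    apply AddMonoidHom.ext
    intro v
    induction v using Additive.rec with
    | ofMul v =>
      induction v using QuotientGroup.induction_on with
      | H a =>
        show Additive.ofMul (actQ Y (g * h) (QuotientGroup.mk a : Vq Y A)) =
          Additive.ofMul (actQ Y g (actQ Y h (QuotientGroup.mk a : Vq Y A)))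
        rw [actQ_mk, actQ_mk, actQ_mk, map_mul]
        rfl

theorem rhoH_apply (h : H) (a : ↥A) :
    rhoH Y A h (Additive.ofMul (QuotientGroup.mk a : Vq Y A)) =
      Additive.ofMul (QuotientGroup.mk (MulAut.conjNormal h a) : Vq Y A) := rfl

end glue

end Cfsg.Agent.Lib.Helper47.FL
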