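import Cfsg.Agent.Lib.Helper95.FLMODCONJ
import Cfsg.Agent.Lib.Helper23.FLMODFREE
import Cfsg.Agent.Lib.Helper97.FLMODPROD
import Cfsg.Agent.Lib.Helper69.FLMODCENT

set_option autoImplicit false

/-! # S2863 hive (`FL`): assembly of the module layer -/

namespace Cfsg.Agent.Lib.Helper47.FL

section mod

variable {X : Type*} [Group X] {V : Type*} [AddCommGroup V] {ρ : X →* AddMonoid.End V}
  {P : Subgroup X}

theorem cj_injective (a : X) {P Q : Subgroup X} (h : cj a P = cj a Q) : P = Q := by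
  rw [← cj_inv_cj a P, h, cj_inv_cj]

/-- `GoodPair.free` for all conjugates -/
theorem goodPair_free_cj {p : ℕ} (hG : GoodPair p P) (a : X) :
    ∀ y ∈ cj a P, y ≠ 1 → ∃ g : X, cj g (cj a P) ≠ cj a P ∧ ∃ y' ∈ cj g (cj a P),
      ∃ n ∈ Subgroup.closure ({y, y'} : Set X), cj n (cj g (cj a P)) = cj a P := by
  intro y hy hy1
  have hy0 : a⁻¹ * y * a ∈ P := mem_cj_iff.mp hy
  have hy01 : a⁻¹ * y * a ≠ 1 := by
    intro h0
    apply hy1
    have : y = a * (a⁻¹ * y * a) * a⁻¹ := by group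
    rw [this, h0]
    group
  obtain ⟨g, hg, y', hy', n, hn, hnP⟩ := hG.free _ hy0 hy01
  have e1 : cj (a * g * a⁻¹) (cj a P) = cj a (cj g P) := by
    rw [← cj_mul, ← cj_mul]
    congr 1
    group
  refine ⟨a * g * a⁻¹, ?_, a * y' * a⁻¹, ?_, a * n * a⁻¹, ?_, ?_⟩
  · rw [e1]
    intro h0
    exact hg (cj_injective a h0)
  · rw [e1]
    exact conj_mem_cj hy'
  · have h1 : a * n * a⁻¹ ∈ (Subgroup.closure ({a⁻¹ * y * a, y'} : Set X)).map
        (MulAut.conj a).toMonoidHom := ⟨n, hn, rfl⟩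
    rw [MonoidHom.map_closure] at h1
    have h2 : (MulAut.conj a).toMonoidHom '' ({a⁻¹ * y * a, y'} : Set X) = {y, a * y' * a⁻¹} := by
      rw [Set.image_pair]
      congr 1
      show a * (a⁻¹ * y * a) * a⁻¹ = y
      group
    rwa [h2] at h1
  · rw [e1, ← cj_mul]
    have : a * n * a⁻¹ * a = a * n := by group
    rw [this, cj_mul, hnP]

/-- freeness for all nontrivial elements of all conjugates of `P` -/
theorem mod_free_all {p : ℕ} (h : ModSetup ρ P) (hG : GoodPair p P) (a : X) :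
    ∀ y ∈ cj a P, y ≠ 1 → ∀ v : V, ρ y v = v → v ∈ fx ρ (cj a P) := by
  intro y hy hy1
  obtain ⟨g, hg, y', hy', n, hn, hnP⟩ := goodPair_free_cj hG a y hy hy1
  exact mod_free (modSetup_cj h a) hg hy hy' hn hnP

theorem rho_pow_fixed (x : X) (v : V) (hv : ρ x v = v) (j : ℕ) : ρ (x ^ j) v = v := by
  induction j with
  | zero => rw [pow_zero, rho_one]
  | succ j ih => rw [pow_succ, rho_mul, hv, ih]

/-- ASSEMBLY of the module layer. -/
theorem mod_main {p : ℕ} (h : ModSetup ρ P) (hG : GoodPair p P)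
    (htor : p ≠ 2 → ∀ v : V, v + v = 0 → v = 0) :
    ∀ x : X, (¬ ∃ k : ℕ, orderOf x = p ^ k) → ∀ v : V, ρ x v = v → v = 0 := by
  intro x hx v hv
  obtain ⟨j, hcase⟩ := hG.fpf x hx
  have hvj := rho_pow_fixed x v hv j
  rcases hcase with ⟨g1, g2, hne, y1, hy1, y2, hy2, h1, h2, hxj⟩ |
    ⟨hp2, g, hg, y, hy, y', hy', e1, e2, hxj⟩
  · have e : cj (g2 * g1⁻¹) (cj g1 P) = cj g2 P := by
      rw [← cj_mul]
      congr 1
      group
    have hg : cj (g2 * g1⁻¹) (cj g1 P) ≠ cj g1 P := by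
      rw [e]
      exact fun h0 => hne h0.symm
    have hf1 := mod_free_all h hG g1 y1 hy1 h1
    have hf2 := mod_free_all h hG g2 y2 hy2 h2
    rw [← e] at hf2 hy2
    rw [hxj] at hvj
    exact mod_prod (modSetup_cj h g1) hg hy1 hy2 hf1 hf2 v hvj
  · have h3 := mod_cent h hg hy hy' e1 e2 v
    rw [← hxj, hvj] at h3
    apply htor hp2
    nth_rewrite 1 [h3]
    exact neg_add_cancel v

end mod

end Cfsg.Agent.Lib.Helper47.FL
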