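import Cfsg.Agent.Lib.Helper47.FLGlueA
import Cfsg.Agent.Lib.Helper47.FLModMain
import Cfsg.Agent.Lib.Helper86.FLCORECOMM
import Cfsg.Agent.Lib.Helper27.FLCOREINF
import Cfsg.Agent.Lib.Helper4.FLCORESPLIT
import Cfsg.Agent.Lib.Helper72.FLCOREABcore
import Cfsg.Agent.Lib.Helper31.FLCOREFIX

set_option autoImplicit false

/-! # S2863 hive (`FL`): the module `V = A/C` for `X = H/A` satisfies `ModSetup`; `fl_main` -/

namespace Cfsg.Agent.Lib.Helper47.FL

section glue

variable {H : Type*} [Group H] {Y A : Subgroup H} [hn : A.Normal]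

theorem glue_comm_mem_iff {C : Subgroup H} (hC : C ≤ Subgroup.center H) {x b : H} :
    b⁻¹ * (x * b * x⁻¹) ∈ C ↔ x * b * x⁻¹ * b⁻¹ ∈ C := by
  constructor
  · intro h
    have hc := Subgroup.mem_center_iff.mp (hC h)
    have : x * b * x⁻¹ * b⁻¹ = b⁻¹ * (x * b * x⁻¹) := by
      have h1 := hc b
      calc x * b * x⁻¹ * b⁻¹ = b * (b⁻¹ * (x * b * x⁻¹)) * b⁻¹ := by group
        _ = (b⁻¹ * (x * b * x⁻¹)) * b * b⁻¹ := by rw [h1]
        _ = b⁻¹ * (x * b * x⁻¹) := by group
    rwa [this]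
  · intro h
    have hc := Subgroup.mem_center_iff.mp (hC h)
    have : b⁻¹ * (x * b * x⁻¹) = x * b * x⁻¹ * b⁻¹ := by
      have h1 := hc b⁻¹
      calc b⁻¹ * (x * b * x⁻¹) = b⁻¹ * (x * b * x⁻¹ * b⁻¹) * b := by group
        _ = (x * b * x⁻¹ * b⁻¹) * b⁻¹ * b := by rw [h1]
        _ = x * b * x⁻¹ * b⁻¹ := by group
    rwa [this]

omit hn in
theorem glue_exists_rep (v : Additive (Vq Y A)) :
    ∃ a : ↥A, v = Additive.ofMul (QuotientGroup.mk a : Vq Y A) := by
  induction v using Additive.rec with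
  | ofMul v =>
    induction v using QuotientGroup.induction_on with
    | H a => exact ⟨a, rfl⟩

/-- `x` fixes the coset of `b` iff `[x, b] ∈ C` -/
theorem glue_fixed_iff (x : H) (b : ↥A) :
    rhoH Y A x (Additive.ofMul (QuotientGroup.mk b : Vq Y A)) =
        Additive.ofMul (QuotientGroup.mk b : Vq Y A) ↔
      x * b * x⁻¹ * (b : H)⁻¹ ∈ Y ⊓ Subgroup.center H := by
  rw [rhoH_apply, ← glue_comm_mem_iff inf_le_right]
  rw [eq_comm]
  constructor
  · intro h
    have h1 : (QuotientGroup.mk b : Vq Y A) = QuotientGroup.mk (MulAut.conjNormal x b) :=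
      Additive.ofMul.injective h
    rw [QuotientGroup.eq, mem_cA] at h1
    simpa [MulAut.conjNormal_apply] using h1
  · intro h
    congr 1
    rw [QuotientGroup.eq, mem_cA]
    simpa [MulAut.conjNormal_apply] using h

omit hn in
theorem glue_zero_iff (b : ↥A) :
    Additive.ofMul (QuotientGroup.mk b : Vq Y A) = 0 ↔ (b : H) ∈ Y ⊓ Subgroup.center H := by
  constructor
  · intro h
    have h1 : (QuotientGroup.mk b : Vq Y A) = 1 := Additive.ofMul.injective h
    rw [QuotientGroup.eq_one_iff] at h1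
    exact mem_cA.mp h1
  · intro h
    have h1 : (QuotientGroup.mk b : Vq Y A) = 1 := by
      rw [QuotientGroup.eq_one_iff]
      exact mem_cA.mpr h
    rw [h1]
    rfl

/-- `[A, A] ≤ C` (from helper72's `coreab_core`, helper4's `core_split`, helper27's `core_inf_le`) -/
theorem glue_core_abelian {Y A : Subgroup H} (hc : CoreSetup Y A) {a b : H} (ha : a ∈ A)
    (hb : b ∈ A) : a * b * a⁻¹ * b⁻¹ ∈ Y ⊓ Subgroup.center H :=
  coreab_core hc (fun hg _ ha => core_split hc hg ha) (fun hg _ hx hx' => core_inf_le hc hg hx hx')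
    ha hb

/-- `A` acts trivially -/
theorem glue_ker (hc : CoreSetup Y A) : A ≤ (rhoH Y A).ker := by
  intro a ha
  rw [MonoidHom.mem_ker]
  apply AddMonoidHom.ext
  intro v
  obtain ⟨b, rfl⟩ := glue_exists_rep v
  show (rhoH Y A a) (Additive.ofMul (QuotientGroup.mk b : Vq Y A)) = _
  exact (glue_fixed_iff a b).mpr (glue_core_abelian hc ha b.2)

/-- the action of `X = H/A` on `A/C` -/
noncomputable def rhoX (hc : CoreSetup Y A) : H ⧸ A →* AddMonoid.End (Additive (Vq Y A)) :=
  QuotientGroup.lift A (rhoH Y A) (glue_ker hc)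

theorem rhoX_mk (hc : CoreSetup Y A) (h : H) : rhoX hc (QuotientGroup.mk h) = rhoH Y A h :=
  QuotientGroup.lift_mk _ _ _

/-- the additive group of `A/C` is commutative -/
@[reducible] noncomputable def vqAddComm (hc : CoreSetup Y A) : AddCommGroup (Additive (Vq Y A)) :=
  { (inferInstance : AddGroup (Additive (Vq Y A))) with
    add_comm := by
      intro v w
      obtain ⟨a, rfl⟩ := glue_exists_rep v
      obtain ⟨b, rfl⟩ := glue_exists_rep w
      show Additive.ofMul ((QuotientGroup.mk a : Vq Y A) * QuotientGroup.mk b) =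
        Additive.ofMul ((QuotientGroup.mk b : Vq Y A) * QuotientGroup.mk a)
      congr 1
      rw [← QuotientGroup.mk_mul, ← QuotientGroup.mk_mul, QuotientGroup.eq, mem_cA]
      have h1 := glue_core_abelian hc (A.inv_mem b.2) (A.inv_mem a.2)
      have : (((a * b)⁻¹ * (b * a) : ↥A) : H) = (b : H)⁻¹ * (a : H)⁻¹ * (b : H)⁻¹⁻¹ * (a : H)⁻¹⁻¹ := by
        push_cast
        group
      rw [this]
      exact h1 }

end glue

end Cfsg.Agent.Lib.Helper47.FL
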