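import Cfsg.Agent.Lib.Helper47.FLGlueB

set_option autoImplicit false
set_option linter.style.haveILetI false

/-! # S2863 hive (`FL`): `ModSetup` for `V = A/C`, and `fl_main` -/

namespace Cfsg.Agent.Lib.Helper47.FL

section glue

variable {H : Type*} [Group H] {Y A : Subgroup H} [hn : A.Normal]

theorem glue_rhoX_fixed_iff (hc : CoreSetup Y A) (x : H) (b : ↥A) :
    rhoX hc (QuotientGroup.mk x) (Additive.ofMul (QuotientGroup.mk b : Vq Y A)) =
        Additive.ofMul (QuotientGroup.mk b : Vq Y A) ↔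
      x * b * x⁻¹ * (b : H)⁻¹ ∈ Y ⊓ Subgroup.center H := by
  rw [rhoX_mk]
  exact glue_fixed_iff x b

theorem glue_mem_fx_P (hc : CoreSetup Y A) (b : ↥A) :
    letI := vqAddComm hc
    Additive.ofMul (QuotientGroup.mk b : Vq Y A) ∈ fx (rhoX hc) (Y.map (QuotientGroup.mk' A)) ↔
      (b : H) ∈ Y := by
  letI := vqAddComm hc
  rw [mem_fx]
  constructor
  · intro h
    apply core_fix hc b.2
    intro y hy
    have h1 := h (QuotientGroup.mk y) ⟨y, hy, rfl⟩
    exact (glue_rhoX_fixed_iff hc y b).mp h1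
  · rintro h _ ⟨y, hy, rfl⟩
    show rhoX hc (QuotientGroup.mk y) _ = _
    rw [glue_rhoX_fixed_iff]
    have : y * (b : H) * y⁻¹ * (b : H)⁻¹ = 1 := by
      rw [hc.comm y hy b h]
      group
    rw [this]
    exact Subgroup.one_mem _

theorem glue_mem_fx_cjP (hc : CoreSetup Y A) (g : H) (b : ↥A) :
    letI := vqAddComm hc
    Additive.ofMul (QuotientGroup.mk b : Vq Y A) ∈
        fx (rhoX hc) (cj (QuotientGroup.mk g) (Y.map (QuotientGroup.mk' A))) ↔
      (b : H) ∈ cj g Y := by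
  letI := vqAddComm hc
  rw [mem_fx_cj, ← QuotientGroup.mk_inv, rhoX_mk, rhoH_apply]
  have h1 := glue_mem_fx_P hc (MulAut.conjNormal g⁻¹ b)
  rw [h1, MulAut.conjNormal_apply, inv_inv, mem_cj_iff]

theorem glue_not_mem_normalizer {g : H}
    (hg : cj (QuotientGroup.mk g : H ⧸ A) (Y.map (QuotientGroup.mk' A)) ≠
      Y.map (QuotientGroup.mk' A)) : g ∉ Subgroup.normalizer (Y : Set H) := by
  intro h
  apply hg
  rw [cj_eq_self_iff]
  exact Subgroup.le_normalizer_map (QuotientGroup.mk' A) ⟨g, h, rfl⟩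

theorem glue_modSetup (hc : CoreSetup Y A) :
    letI := vqAddComm hc
    ModSetup (rhoX hc) (Y.map (QuotientGroup.mk' A)) := by
  letI := vqAddComm hc
  refine ⟨?_, ?_, ?_⟩
  · rintro _ ⟨y, hy, rfl⟩ v
    obtain ⟨b, rfl⟩ := glue_exists_rep v
    show rhoX hc (QuotientGroup.mk y) _ - _ ∈ _
    rw [rhoX_mk, rhoH_apply]
    have h1 := core_comm_mem hc hy b.2
    have h2 : Additive.ofMul (QuotientGroup.mk (MulAut.conjNormal y b) : Vq Y A) -
        Additive.ofMul (QuotientGroup.mk b : Vq Y A) =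
        Additive.ofMul (QuotientGroup.mk (MulAut.conjNormal y b * b⁻¹) : Vq Y A) := by
      rw [sub_eq_add_neg]
      rfl
    rw [h2, glue_mem_fx_P hc]
    have h3 : ((MulAut.conjNormal y b * b⁻¹ : ↥A) : H) = y * b * y⁻¹ * (b : H)⁻¹ := by
      push_cast
      rw [MulAut.conjNormal_apply]
    rw [h3]
    exact h1.1
  · intro gq hg v hv1 hv2
    obtain ⟨g, rfl⟩ := QuotientGroup.mk_surjective gq
    obtain ⟨b, rfl⟩ := glue_exists_rep v
    have hg' := glue_not_mem_normalizer hg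
    rw [glue_mem_fx_P hc] at hv1
    rw [glue_mem_fx_cjP hc] at hv2
    exact (glue_zero_iff b).mpr (core_inf_le hc hg' hv1 hv2)
  · intro gq hg v
    obtain ⟨g, rfl⟩ := QuotientGroup.mk_surjective gq
    obtain ⟨a, rfl⟩ := glue_exists_rep v
    have hg' := glue_not_mem_normalizer hg
    obtain ⟨w, hw, w', hw', hww⟩ := core_split hc hg' a.2
    refine ⟨Additive.ofMul (QuotientGroup.mk (⟨w, hw.2⟩ : ↥A) : Vq Y A), ?_,
      Additive.ofMul (QuotientGroup.mk (⟨w', hw'.2⟩ : ↥A) : Vq Y A), ?_, ?_⟩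
    · rw [glue_mem_fx_P hc]
      exact hw.1
    · rw [glue_mem_fx_cjP hc]
      exact hw'.1
    · have : a = (⟨w, hw.2⟩ : ↥A) * ⟨w', hw'.2⟩ := Subtype.ext hww
      rw [this]
      rfl

omit hn in
theorem glue_htor [Finite H] {p : ℕ} [Fact p.Prime] (hc : CoreSetup Y A) (hAp : IsPGroup p ↥A)
    (hp2 : p ≠ 2) :
    letI := vqAddComm hc
    ∀ v : Additive (Vq Y A), v + v = 0 → v = 0 := by
  letI := vqAddComm hc
  intro v hv
  obtain ⟨a, rfl⟩ := glue_exists_rep v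
  have h1 : Additive.ofMul (QuotientGroup.mk (a * a) : Vq Y A) = 0 := hv
  rw [glue_zero_iff] at h1
  rw [glue_zero_iff]
  obtain ⟨k, hk⟩ := hAp a
  have hodd : Odd (p ^ k) := by
    apply Odd.pow
    exact (Fact.out : p.Prime).odd_of_ne_two hp2
  obtain ⟨m, hm⟩ := hodd
  have h2 : (a : H) = ((a : H) * (a : H)) ^ (m + 1) * (((a : H)) ^ (p ^ k))⁻¹ := by
    rw [hm, ← pow_two, ← pow_mul]
    have : 2 * (m + 1) = (2 * m + 1) + 1 := by ring
    rw [this, pow_succ]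
    group
  have h3 : ((a : H)) ^ (p ^ k) = 1 := by
    have := congrArg (Subtype.val) hk
    simpa using this
  rw [h2, h3, inv_one, mul_one]
  have h4 : ((a * a : ↥A) : H) = (a : H) * (a : H) := rfl
  rw [h4] at h1
  exact Subgroup.pow_mem _ h1 _

theorem glue_order [Finite H] {p : ℕ} [Fact p.Prime] (hAp : IsPGroup p ↥A) {h : H}
    (hh : ¬ ∃ k : ℕ, orderOf h = p ^ k) :
    ¬ ∃ k : ℕ, orderOf (QuotientGroup.mk h : H ⧸ A) = p ^ k := by
  rintro ⟨k, hk⟩
  apply hh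
  have h1 : (QuotientGroup.mk h : H ⧸ A) ^ (p ^ k) = 1 := by
    rw [← hk]
    exact pow_orderOf_eq_one _
  rw [← QuotientGroup.mk_pow, QuotientGroup.eq_one_iff] at h1
  obtain ⟨j, hj⟩ := hAp ⟨h ^ (p ^ k), h1⟩
  have h2 : (h ^ (p ^ k)) ^ (p ^ j) = 1 := by
    have := congrArg (Subtype.val) hj
    simpa using this
  rw [← pow_mul, ← pow_add] at h2
  have h3 : orderOf h ∣ p ^ (k + j) := orderOf_dvd_of_pow_eq_one h2
  obtain ⟨i, -, hi⟩ := (Nat.dvd_prime_pow (Fact.out : p.Prime)).mp h3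
  exact ⟨i, hi⟩

/-- GLUE: the abstract form of S2863 -/
theorem fl_main {H : Type*} [Group H] [Finite H] {p : ℕ} [Fact p.Prime] {Y A : Subgroup H}
    [hn : A.Normal] (hc : CoreSetup Y A) (hAp : IsPGroup p ↥A)
    (hG : GoodPair p (Y.map (QuotientGroup.mk' A))) :
    ∀ h : H, (¬ ∃ k : ℕ, orderOf h = p ^ k) → ∀ a ∈ A,
      h * a * h⁻¹ * a⁻¹ ∈ Y ⊓ Subgroup.center H → a ∈ Y ⊓ Subgroup.center H := by
  letI := vqAddComm hc
  intro h hh a ha hcomm
  have hms := glue_modSetup hc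
  have key := mod_main hms hG (fun hp2 => glue_htor hc hAp hp2) (QuotientGroup.mk h)
    (glue_order hAp hh) (Additive.ofMul (QuotientGroup.mk (⟨a, ha⟩ : ↥A) : Vq Y A))
    ((glue_rhoX_fixed_iff hc h ⟨a, ha⟩).mpr hcomm)
  exact (glue_zero_iff (⟨a, ha⟩ : ↥A)).mp key

end glue

end Cfsg.Agent.Lib.Helper47.FL
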