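import Cfsg.Agent.Lib.Helper47.FrakL1
import Cfsg.Agent.Lib.Helper47.BasicProp1

set_option autoImplicit false

/-! # Members of `𝔏_G(Y_M)`: facts about the image of `Y_M` in `L / O_p(L)` -/

namespace Cfsg.Agent.Lib.Helper47

open Cfsg

/-- what we know about the image `P` of `Y_M` in `X = L / O_p(L)` -/
structure LBar (p : ℕ) {X : Type*} [Group X] (P : Subgroup X) : Prop where
  core : pCore p X = ⊥
  ne : P ≠ ⊥
  pgroup : IsPGroup p ↥P
  comm : ∀ a ∈ P, ∀ b ∈ P, a * b = b * a
  exp : ∀ a ∈ P, a ^ p = 1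
  ncl : Subgroup.normalClosure (P : Set X) = ⊤
  dich : ∀ H : Subgroup X, P ≤ H → H ≤ Subgroup.normalizer (P : Set X) ∨ H = ⊤
  nne : Subgroup.normalizer (P : Set X) ≠ ⊤

section frakL

variable {G : Type*} [Group G] [Finite G] {p : ℕ} [Fact p.Prime]

theorem mk_mem_ybarL {Y L : Subgroup G} (hYL : Y ≤ L) {y : G} (hy : y ∈ Y) :
    QuotientGroup.mk' (pCore p ↥L) ⟨y, hYL hy⟩ ∈ ybarL p Y L :=
  ⟨⟨y, hYL hy⟩, Subgroup.mem_subgroupOf.mpr hy, rfl⟩

theorem frakL_ybarL_ne_bot {M L : Subgroup G} (hL : IsInFrakL p M L) :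
    ybarL p (largestPReducedOf p M) L ≠ ⊥ := by
  obtain ⟨hYL, -, hAY, hmin, -, ⟨hlt, -⟩, -⟩ := hL
  intro hbot
  have h1 : (largestPReducedOf p M).subgroupOf L ≤ pCore p ↥L := by
    intro y hy
    have : QuotientGroup.mk' (pCore p ↥L) y ∈ ybarL p (largestPReducedOf p M) L := ⟨y, hy, rfl⟩
    rw [hbot, Subgroup.mem_bot] at this
    exact (QuotientGroup.eq_one_iff y).mp this
  have h2 : (⊤ : Subgroup ↥L) ≤ pCore p ↥L := by
    rw [← hmin.1]
    exact Subgroup.normalClosure_le_normal h1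
  apply lt_irrefl L
  refine lt_of_le_of_lt ?_ hlt
  intro l hl
  refine ⟨hl, hAY ?_⟩
  exact (mem_pCoreOf_iff (⟨l, hl⟩ : ↥L)).mpr (h2 (Subgroup.mem_top _))

theorem frakL_card_ybarL {M L : Subgroup G} (hL : IsInFrakL p M L) :
    Nat.card ↥(ybarL p (largestPReducedOf p M) L) =
      (largestPReducedOf p M ⊓ pCoreOf p L).relIndex (largestPReducedOf p M) := by
  obtain ⟨hYL, -⟩ := hL
  have h1 := Subgroup.relIndex_ker (K := (largestPReducedOf p M).subgroupOf L)
    (QuotientGroup.mk' (pCore p ↥L))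
  rw [QuotientGroup.ker_mk'] at h1
  rw [ybarL, ← h1, inf_comm, Subgroup.inf_relIndex_right, ← Subgroup.relIndex_subgroupOf hYL]
  congr 1
  ext x
  rw [Subgroup.mem_subgroupOf]
  exact (mem_pCoreOf_iff x).symm

theorem frakL_dich {M L : Subgroup G} (hL : IsInFrakL p M L) (H : Subgroup (↥L ⧸ pCore p ↥L))
    (hPH : ybarL p (largestPReducedOf p M) L ≤ H) :
    H ≤ ((L ⊓ Subgroup.normalizer ((largestPReducedOf p M : Subgroup G) : Set G)).subgroupOf L).map
        (QuotientGroup.mk' (pCore p ↥L)) ∨ H = ⊤ := by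
  obtain ⟨hYL, -, -, -, -, ⟨-, hmax⟩, -⟩ := hL
  set Ht : Subgroup G := (H.comap (QuotientGroup.mk' (pCore p ↥L))).map L.subtype with hHt
  have hYH : largestPReducedOf p M ≤ Ht := by
    intro y hy
    exact ⟨⟨y, hYL hy⟩, hPH (mk_mem_ybarL hYL hy), rfl⟩
  have hHL : Ht ≤ L := Subgroup.map_subtype_le _
  by_cases hEq : Ht = L
  · right
    rw [eq_top_iff]
    intro x _
    obtain ⟨l, rfl⟩ := QuotientGroup.mk'_surjective _ x
    have : (l : G) ∈ Ht := by rw [hEq]; exact l.2
    obtain ⟨l', hl', hll'⟩ := this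
    have : l' = l := Subtype.ext hll'
    rw [← this]
    exact hl'
  · left
    have hlt : Ht < L := lt_of_le_of_ne hHL hEq
    have hle := hmax Ht hYH hlt
    intro x hx
    obtain ⟨l, rfl⟩ := QuotientGroup.mk'_surjective _ x
    refine ⟨l, ?_, rfl⟩
    apply Subgroup.mem_subgroupOf.mpr
    exact hle ⟨l, hx, rfl⟩

theorem frakL_image_le_normalizer (Y L : Subgroup G) :
    ((L ⊓ Subgroup.normalizer ((Y : Subgroup G) : Set G)).subgroupOf L).map
        (QuotientGroup.mk' (pCore p ↥L)) ≤ Subgroup.normalizer ((ybarL p Y L : Subgroup _) : Set _) := by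
  have h1 : (L ⊓ Subgroup.normalizer ((Y : Subgroup G) : Set G)).subgroupOf L ≤
      Subgroup.normalizer ((Y.subgroupOf L : Subgroup ↥L) : Set ↥L) := by
    intro x hx
    rw [Subgroup.mem_subgroupOf] at hx
    have hx2 : (x : G) ∈ Subgroup.normalizer ((Y : Subgroup G) : Set G) := hx.2
    rw [Subgroup.mem_normalizer_iff] at hx2 ⊢
    intro h
    rw [Subgroup.mem_subgroupOf, Subgroup.mem_subgroupOf]
    exact hx2 (h : G)
  exact (Subgroup.map_mono h1).trans (Subgroup.le_normalizer_map _)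

theorem frakL_lbar {M L : Subgroup G} (hL : IsInFrakL p M L) :
    LBar p (ybarL p (largestPReducedOf p M) L) := by
  have hne := frakL_ybarL_ne_bot hL
  have hcore : pCore p (↥L ⧸ pCore p ↥L) = ⊥ := pCore_quotient_pCore_eq_bot p
  have hpg : IsPGroup p ↥(ybarL p (largestPReducedOf p M) L) := by
    have h1 : IsPGroup p ↥((largestPReducedOf p M).subgroupOf L) :=
      (largestPReducedOf_isPGroup p M).comap_of_injective _ (Subgroup.subtype_injective _)
    exact h1.map _
  have hnne : Subgroup.normalizer ((ybarL p (largestPReducedOf p M) L :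
      Subgroup (↥L ⧸ pCore p ↥L)) : Set (↥L ⧸ pCore p ↥L)) ≠ ⊤ := by
    intro htop
    have hn : (ybarL p (largestPReducedOf p M) L).Normal :=
      Subgroup.normalizer_eq_top_iff.mp htop
    have := le_pCore hn hpg
    rw [hcore, le_bot_iff] at this
    exact hne this
  refine ⟨hcore, hne, hpg, ?_, ?_, ?_, ?_, hnne⟩
  · rintro _ ⟨a, ha, rfl⟩ _ ⟨b, hb, rfl⟩
    rw [← map_mul, ← map_mul]
    congr 1
    apply Subtype.ext
    exact largestPReducedOf_comm p M a (Subgroup.mem_subgroupOf.mp ha) b (Subgroup.mem_subgroupOf.mp hb)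
  · rintro _ ⟨a, ha, rfl⟩
    rw [← map_pow]
    have : a ^ p = 1 := by
      apply Subtype.ext
      simpa using largestPReducedOf_exp p M a (Subgroup.mem_subgroupOf.mp ha)
    rw [this, map_one]
  · have h := Subgroup.map_normalClosure (((largestPReducedOf p M).subgroupOf L : Subgroup ↥L) : Set ↥L)
      (QuotientGroup.mk' (pCore p ↥L)) (QuotientGroup.mk'_surjective _)
    rw [hL.2.2.2.1.1, ← MonoidHom.range_eq_map,
      MonoidHom.range_eq_top.mpr (QuotientGroup.mk'_surjective _)] at h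
    rw [h]
    rfl
  · intro H hPH
    rcases frakL_dich hL H hPH with h | h
    · left
      exact h.trans (frakL_image_le_normalizer _ _)
    · right
      exact h

/-- `N_X(P)` is the image of `N_L(Y)` -/
theorem frakL_normalizer_le {M L : Subgroup G} (hL : IsInFrakL p M L) :
    Subgroup.normalizer ((ybarL p (largestPReducedOf p M) L : Subgroup _) : Set _) ≤
      ((L ⊓ Subgroup.normalizer ((largestPReducedOf p M : Subgroup G) : Set G)).subgroupOf L).map
        (QuotientGroup.mk' (pCore p ↥L)) := by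
  rcases frakL_dich hL _ Subgroup.le_normalizer with h | h
  · exact h
  · exact absurd h (frakL_lbar hL).nne

end frakL

end Cfsg.Agent.Lib.Helper47
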