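import Cfsg.Agent.Lib.Helper47.FrakL2

set_option autoImplicit false

/-! # Members of `𝔏_G(Y_M)`: the reduction theorem -/

namespace Cfsg.Agent.Lib.Helper47

open Cfsg

section frakL

variable {G : Type*} [Group G] [Finite G] {p : ℕ} [Fact p.Prime]

/-- the statement on `N_L(Y)/O_p(L)` follows from the uniqueness property of the image of `Y` in
`L/O_p(L)` -/
theorem frakL_main {M L NL : Subgroup G} (hL : IsInFrakL p M L)
    (hNL : NL = L ⊓ Subgroup.normalizer (((largestPReducedOf p M) : Subgroup G) : Set G))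
    [hn : ((pCoreOf p L).subgroupOf NL).Normal]
    (hU : UniqEA p (ybarL p (largestPReducedOf p M) L)) :
    let Ybar : Subgroup (↥NL ⧸ (pCoreOf p L).subgroupOf NL) :=
      ((largestPReducedOf p M).subgroupOf NL).map (QuotientGroup.mk' ((pCoreOf p L).subgroupOf NL))
    Ybar ≠ ⊥ ∧ Ybar.Normal ∧ IsElementaryAbelian p Ybar ∧
      ∀ V : Subgroup (↥NL ⧸ (pCoreOf p L).subgroupOf NL), V.Normal → IsElementaryAbelian p V →
        V ≠ ⊥ → V = Ybar := by
  intro Ybar
  have hYL : largestPReducedOf p M ≤ L := hL.1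
  have hNLL : NL ≤ L := hNL ▸ inf_le_left
  have hNLY : NL ≤ Subgroup.normalizer (((largestPReducedOf p M) : Subgroup G) : Set G) :=
    hNL ▸ inf_le_right
  have hYNL : largestPReducedOf p M ≤ NL := by
    rw [hNL]
    exact le_inf hYL Subgroup.le_normalizer
  have hinj := frakLHom_injective p hNLL
  have hmapY : Ybar.map (frakLHom p hNLL) = ybarL p (largestPReducedOf p M) L := by
    ext x
    constructor
    · rintro ⟨_, ⟨y, hy, rfl⟩, rfl⟩
      rw [frakLHom_mk]
      exact ⟨Subgroup.inclusion hNLL y, Subgroup.mem_subgroupOf.mpr (Subgroup.mem_subgroupOf.mp hy), rfl⟩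
    · rintro ⟨y, hy, rfl⟩
      have hy' : (y : G) ∈ largestPReducedOf p M := Subgroup.mem_subgroupOf.mp hy
      refine ⟨QuotientGroup.mk' _ ⟨(y : G), hYNL hy'⟩, ⟨⟨(y : G), hYNL hy'⟩,
        Subgroup.mem_subgroupOf.mpr hy', rfl⟩, ?_⟩
      rw [frakLHom_mk]
      rfl
  have hYn : Ybar.Normal := by
    have h1 : ((largestPReducedOf p M).subgroupOf NL).Normal :=
      (Subgroup.normal_subgroupOf_iff_le_normalizer hYNL).mpr hNLY
    exact h1.map _ (QuotientGroup.mk'_surjective _)
  have hrange1 : ∀ K : Subgroup (↥NL ⧸ (pCoreOf p L).subgroupOf NL), K.Normal →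
      (frakLHom p hNLL).range ≤ Subgroup.normalizer ((K.map (frakLHom p hNLL) : Subgroup _) : Set _) := by
    intro K hK
    have h2 := Subgroup.le_normalizer_map (H := K) (frakLHom p hNLL)
    rw [Subgroup.normalizer_eq_top_iff.mpr hK, ← MonoidHom.range_eq_map] at h2
    exact h2
  have hrange2 : ((L ⊓ Subgroup.normalizer ((largestPReducedOf p M : Subgroup G) : Set G)).subgroupOf
      L).map (QuotientGroup.mk' (pCore p ↥L)) ≤ (frakLHom p hNLL).range := by
    rintro _ ⟨l, hl, rfl⟩
    have hl' : (l : G) ∈ NL := by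
      rw [hNL]
      exact Subgroup.mem_subgroupOf.mp hl
    refine ⟨QuotientGroup.mk' _ ⟨(l : G), hl'⟩, ?_⟩
    rw [frakLHom_mk]
    rfl
  have hne : Ybar ≠ ⊥ := by
    intro hbot
    apply frakL_ybarL_ne_bot hL
    rw [← hmapY, hbot, Subgroup.map_bot]
  refine ⟨hne, hYn, ⟨?_, ?_⟩, ?_⟩
  · rw [isMulCommutative_iff]
    rintro ⟨_, ⟨a, ha, rfl⟩⟩ ⟨_, ⟨b, hb, rfl⟩⟩
    apply Subtype.ext
    show QuotientGroup.mk' _ a * QuotientGroup.mk' _ b = QuotientGroup.mk' _ b * QuotientGroup.mk' _ a
    rw [← map_mul, ← map_mul]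
    congr 1
    apply Subtype.ext
    exact largestPReducedOf_comm p M a (Subgroup.mem_subgroupOf.mp ha) b (Subgroup.mem_subgroupOf.mp hb)
  · rintro _ ⟨a, ha, rfl⟩
    rw [← map_pow]
    have : a ^ p = 1 := by
      apply Subtype.ext
      simpa using largestPReducedOf_exp p M a (Subgroup.mem_subgroupOf.mp ha)
    rw [this, map_one]
  · intro V hVn hVe hV1
    have key : V.map (frakLHom p hNLL) = ybarL p (largestPReducedOf p M) L := by
      apply hU
      · rw [← hmapY]
        exact (Subgroup.map_le_range _ _).trans (hrange1 Ybar hYn)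
      · exact (frakL_normalizer_le hL).trans (hrange2.trans (hrange1 V hVn))
      · rintro _ ⟨a, ha, rfl⟩ _ ⟨b, hb, rfl⟩
        rw [← map_mul, ← map_mul]
        congr 1
        have := isMulCommutative_iff.mp hVe.1 ⟨a, ha⟩ ⟨b, hb⟩
        exact congrArg Subtype.val this
      · rintro _ ⟨a, ha, rfl⟩
        rw [← map_pow, hVe.2 a ha, map_one]
      · intro hbot
        apply hV1
        rw [eq_bot_iff]
        intro v hv
        have : frakLHom p hNLL v ∈ V.map (frakLHom p hNLL) := ⟨v, hv, rfl⟩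
        rw [hbot, Subgroup.mem_bot] at this
        rw [Subgroup.mem_bot]
        exact hinj (by rw [this, map_one])
    rw [← hmapY] at key
    exact Subgroup.map_injective hinj key

end frakL

end Cfsg.Agent.Lib.Helper47
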