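import Cfsg.Agent.Lib.Helper47.FrakL2

set_option autoImplicit false

/-! # Members of `𝔏_G(Y_M)`: the case `|Y O_p(L)/O_p(L)| = 2` (a dihedral group) -/

namespace Cfsg.Agent.Lib.Helper47

open Cfsg

/-- in a group with `O_2 = 1` generated by two involutions `t`, `s`, the centralizer of `t` is `{1, t}` -/
theorem dihedral_centralizer {X : Type*} [Group X] [Finite X] {t s : X} (ht : t ^ 2 = 1)
    (hs : s ^ 2 = 1) (hgen : Subgroup.closure ({t, s} : Set X) = ⊤) (hcore : pCore 2 X = ⊥) :
    ∀ c : X, c * t = t * c → c = 1 ∨ c = t := by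
  have htinv : t⁻¹ = t := by
    rw [inv_eq_iff_mul_eq_one, ← sq, ht]
  have hsinv : s⁻¹ = s := by
    rw [inv_eq_iff_mul_eq_one, ← sq, hs]
  obtain ⟨r, hr⟩ : ∃ r : X, r = t * s := ⟨_, rfl⟩
  set R : Subgroup X := Subgroup.zpowers r with hR
  have hconj_r : t * r * t⁻¹ = r⁻¹ := by
    rw [hr, mul_inv_rev, hsinv, htinv, ← mul_assoc, ← sq, ht, one_mul]
  have hconj : ∀ x ∈ R, t * x * t⁻¹ = x⁻¹ := by
    intro x hx
    obtain ⟨k, rfl⟩ := Subgroup.mem_zpowers_iff.mp hx
    rw [← conj_zpow, hconj_r, inv_zpow]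
  have hsR : s = t⁻¹ * r := by
    rw [hr, inv_mul_cancel_left]
  -- `R` is normal
  have htN : t ∈ Subgroup.normalizer ((R : Subgroup X) : Set X) := by
    rw [Subgroup.mem_normalizer_iff]
    intro x
    constructor
    · intro hx
      rw [hconj x hx]
      exact R.inv_mem hx
    · intro hx
      have h1 := hconj _ hx
      have h2 : x = (t * x * t⁻¹)⁻¹ := by
        rw [← h1, htinv]
        simp only [mul_assoc]
        rw [← sq, ht, mul_one, ← mul_assoc, ← sq, ht, one_mul]
      rw [h2]
      exact R.inv_mem hx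
  have hrN : r ∈ Subgroup.normalizer ((R : Subgroup X) : Set X) :=
    Subgroup.le_normalizer (Subgroup.mem_zpowers r)
  have hRn : R.Normal := by
    rw [← Subgroup.normalizer_eq_top_iff, eq_top_iff, ← hgen, Subgroup.closure_le]
    rintro x (rfl | rfl)
    · exact htN
    · rw [hsR]
      exact mul_mem (inv_mem htN) hrN
  -- an element of `R` commuting with `t` is trivial
  have hkey : ∀ x ∈ R, x * t = t * x → x = 1 := by
    intro x hx hxt
    have hx2 : x⁻¹ = x := by
      rw [← hconj x hx, ← hxt, mul_inv_cancel_right]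
    have hxr : x * r = r * x := by
      obtain ⟨k, rfl⟩ := Subgroup.mem_zpowers_iff.mp hx
      exact ((Commute.refl r).zpow_left k).eq
    have hxs : x * s = s * x := by
      rw [hsR]
      calc x * (t⁻¹ * r) = x * t * r := by rw [htinv, mul_assoc]
        _ = t * x * r := by rw [hxt]
        _ = t * (x * r) := by rw [mul_assoc]
        _ = t * (r * x) := by rw [hxr]
        _ = t⁻¹ * r * x := by rw [htinv, mul_assoc]
    have hxc : x ∈ Subgroup.center X := by
      have hcl : Subgroup.closure ({t, s} : Set X) ≤ Subgroup.centralizer ({x} : Set X) := by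
        rw [Subgroup.closure_le]
        intro g hg
        show g ∈ Subgroup.centralizer ({x} : Set X)
        rw [Subgroup.mem_centralizer_iff]
        intro y hy
        rw [Set.mem_singleton_iff] at hy
        rw [hy]
        rcases hg with hg | hg
        · rw [hg]
          exact hxt
        · rw [Set.mem_singleton_iff] at hg
          rw [hg]
          exact hxs
      rw [Subgroup.mem_center_iff]
      intro g
      have hg : g ∈ Subgroup.centralizer ({x} : Set X) := hcl (by rw [hgen]; trivial)
      rw [Subgroup.mem_centralizer_iff] at hg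
      exact (hg x rfl).symm
    have hZn : (Subgroup.zpowers x).Normal := by
      constructor
      intro y hy g
      obtain ⟨k, rfl⟩ := Subgroup.mem_zpowers_iff.mp hy
      have : g * x ^ k * g⁻¹ = x ^ k := by
        have hc : x ^ k ∈ Subgroup.center X := Subgroup.zpow_mem _ hxc k
        rw [Subgroup.mem_center_iff] at hc
        rw [hc g, mul_inv_cancel_right]
      rw [this]
      exact hy
    have hZp : IsPGroup 2 ↥(Subgroup.zpowers x) := by
      intro y
      refine ⟨1, ?_⟩
      obtain ⟨y, hy⟩ := y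
      obtain ⟨k, rfl⟩ := Subgroup.mem_zpowers_iff.mp hy
      apply Subtype.ext
      show (x ^ k) ^ 2 ^ 1 = 1
      rw [pow_one, ← zpow_natCast, ← zpow_mul, mul_comm, zpow_mul, zpow_natCast]
      have : x ^ 2 = 1 := by
        rw [sq]
        nth_rewrite 1 [← hx2]
        exact inv_mul_cancel x
      rw [this, one_zpow]
    have := le_pCore hZn hZp
    rw [hcore, le_bot_iff, Subgroup.zpowers_eq_bot] at this
    exact this
  intro c hc
  have hcmem : c ∈ R ⊔ Subgroup.zpowers t := by
    have htop : R ⊔ Subgroup.zpowers t = ⊤ := by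
      rw [eq_top_iff, ← hgen, Subgroup.closure_le]
      rintro x (rfl | rfl)
      · exact (le_sup_right : Subgroup.zpowers x ≤ R ⊔ Subgroup.zpowers x) (Subgroup.mem_zpowers x)
      · rw [hsR]
        exact mul_mem (inv_mem ((le_sup_right : Subgroup.zpowers t ≤ R ⊔ Subgroup.zpowers t)
          (Subgroup.mem_zpowers t))) ((le_sup_left : R ≤ R ⊔ Subgroup.zpowers t) (Subgroup.mem_zpowers r))
    rw [htop]
    trivial
  obtain ⟨x, hx, y, hy, rfl⟩ := Subgroup.mem_sup_of_normal_left.mp hcmem
  have hyt : y * t = t * y := by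
    obtain ⟨k, rfl⟩ := Subgroup.mem_zpowers_iff.mp hy
    exact ((Commute.refl t).zpow_left k).eq
  have hxt : x * t = t * x := by
    have h1 : x * y * t = t * (x * y) := hc
    have h2 : x * t * y = t * x * y := by
      rw [mul_assoc x t y, ← hyt, ← mul_assoc, h1, mul_assoc]
    exact mul_right_cancel h2
  have hx1 := hkey x hx hxt
  rw [hx1, one_mul]
  obtain ⟨k, rfl⟩ := Subgroup.mem_zpowers_iff.mp hy
  rcases Int.even_or_odd k with ⟨j, rfl⟩ | ⟨j, rfl⟩
  · left
    rw [← two_mul, zpow_mul, zpow_two, ← sq, ht, one_zpow]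
  · right
    rw [zpow_add, zpow_mul, zpow_two, ← sq, ht, one_zpow, one_mul, zpow_one]

/-- the case `|P| = 2` -/
theorem uniqEA_of_card_two {X : Type*} [Group X] [Finite X] {P : Subgroup X} (h : LBar 2 P)
    (hc : Nat.card ↥P = 2) : UniqEA 2 P := by
  obtain ⟨⟨t, htP⟩, ht1⟩ := (Subgroup.ne_bot_iff_exists_ne_one).mp h.ne
  have ht1' : t ≠ 1 := fun h0 => ht1 (Subtype.ext h0)
  have hP : ∀ x ∈ P, x = 1 ∨ x = t := by
    intro x hx
    by_cases hx1 : x = 1
    · exact Or.inl hx1
    · right
      obtain ⟨y, -, hy⟩ := (Nat.card_eq_two_iff' (1 : ↥P)).mp hc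
      have h1 := hy ⟨x, hx⟩ (fun h0 => hx1 (congrArg Subtype.val h0))
      have h2 := hy ⟨t, htP⟩ ht1
      exact congrArg Subtype.val (h1.trans h2.symm)
  have ht2 : t ^ 2 = 1 := h.exp t htP
  have hNc : ∀ c ∈ Subgroup.normalizer ((P : Subgroup X) : Set X), c * t = t * c := by
    intro c hcN
    have h1 : c * t * c⁻¹ ∈ P := (Subgroup.mem_normalizer_iff.mp hcN t).mp htP
    rcases hP _ h1 with h2 | h2
    · exfalso
      apply ht1'
      have : c * t = c := by
        rw [mul_inv_eq_one] at h2
        exact h2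
      exact mul_left_cancel (this.trans (mul_one c).symm)
    · rw [mul_inv_eq_iff_eq_mul] at h2
      exact h2
  have hex : ∃ g : X, g * t * g⁻¹ ∉ Subgroup.normalizer ((P : Subgroup X) : Set X) := by
    by_contra hcon
    push Not at hcon
    apply h.nne
    rw [eq_top_iff, ← h.ncl, Subgroup.normalClosure, Subgroup.closure_le]
    intro x hx
    obtain ⟨a, ha, hax⟩ := Group.mem_conjugatesOfSet_iff.mp hx
    obtain ⟨c, hc'⟩ := isConj_iff.mp hax
    rcases hP a ha with rfl | rfl
    · rw [mul_one, mul_inv_cancel] at hc'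
      rw [← hc']
      exact Subgroup.one_mem _
    · rw [← hc']
      exact hcon c
  obtain ⟨g, hg⟩ := hex
  set s : X := g * t * g⁻¹ with hs
  have hs2 : s ^ 2 = 1 := by
    rw [hs, conj_pow, ht2, mul_one, mul_inv_cancel]
  have hgen : Subgroup.closure ({t, s} : Set X) = ⊤ := by
    have hPle : P ≤ Subgroup.closure ({t, s} : Set X) := by
      intro x hx
      rcases hP x hx with rfl | rfl
      · exact Subgroup.one_mem _
      · exact Subgroup.subset_closure (Set.mem_insert _ _)
    rcases h.dich _ hPle with h1 | h1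
    · exact absurd (h1 (Subgroup.subset_closure (Set.mem_insert_of_mem _ rfl))) hg
    · exact h1
  have hcent := dihedral_centralizer ht2 hs2 hgen h.core
  have hNP : Subgroup.normalizer ((P : Subgroup X) : Set X) ≤ P := by
    intro c hcN
    rcases hcent c (hNc c hcN) with rfl | rfl
    · exact Subgroup.one_mem _
    · exact htP
  intro W h1 _ _ _ h5
  apply le_antisymm (h1.trans hNP)
  obtain ⟨⟨w, hwW⟩, hw1⟩ := (Subgroup.ne_bot_iff_exists_ne_one).mp h5
  have hw1' : w ≠ 1 := fun h0 => hw1 (Subtype.ext h0)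
  have hwt : w = t := by
    rcases hP w (hNP (h1 hwW)) with h0 | h0
    · exact absurd h0 hw1'
    · exact h0
  intro x hx
  rcases hP x hx with rfl | rfl
  · exact Subgroup.one_mem _
  · rw [← hwt]
    exact hwW

end Cfsg.Agent.Lib.Helper47
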