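import Mathlib
import Cfsg.Agent.Lib.Helper47.G42Defs
import Cfsg.Agent.Lib.Helper68.G42ISO7
import Cfsg.Agent.Lib.Helper12.Degree7
import Cfsg.Agent.S0678
import Cfsg.Agent.Lib.Helper35.G42DEG7TRANS
import Cfsg.Agent.Lib.Helper86.G42DEG7NSYL
import Cfsg.Agent.Lib.Helper27.G42DEG7ODD

/-!
# G42 hive (S2553): leaf G42-DEG7 `deg7_card` — assembly of the sub-leaves DEG7-TRANS (helper35),
DEG7-NSYL (helper86), DEG7-ODD (helper27) with S0678 (helper12).
-/

set_option autoImplicit false
set_option linter.style.haveILetI false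

namespace Cfsg.Agent.Lib.Helper47.G42

open Equiv

/-- assembly (owner): the abstract degree-7 statement -/
theorem deg7_card_abs {α : Type*} [Fintype α] [DecidableEq α] (hα : Fintype.card α = 7)
    (G : Subgroup (Perm α)) [MulAction.IsPretransitive G α] (hA : G ≤ alternatingGroup α) :
    Nat.card G = 7 ∨ Nat.card G = 21 ∨ (Nat.card G = 168 ∧ IsSimpleGroup G) ∨
      Nat.card G = 2520 := by
  haveI : Fact (Nat.Prime 7) := ⟨by norm_num⟩
  by_cases hs : Group.IsSolvable G
  · obtain ⟨P⟩ : Nonempty (Sylow 7 G) := inferInstance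
    rcases deg7_card_of_normal hα G hA P (deg7_sylow_normal hα G hs P) with h | h
    · exact Or.inl h
    · exact Or.inr (Or.inl h)
  · by_cases hAG : alternatingGroup α ≤ G
    · right; right; right
      have heq : G = alternatingGroup α := le_antisymm hA hAG
      rw [heq]
      haveI : Nontrivial α := by
        rw [← Fintype.one_lt_card_iff_nontrivial, hα]; norm_num
      have h2 := two_mul_nat_card_alternatingGroup (α := α)
      rw [Nat.card_eq_fintype_card (α := Perm α), Fintype.card_perm, hα] at h2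
      have : (7 : ℕ).factorial = 5040 := by decide
      omega
    · right; right; left
      exact Cfsg.Agent.S0678.result hα G hs hAG

/-- LEAF G42-DEG7 (assembly, owner). -/
theorem deg7_card (K : Subgroup (Perm (Fin 8))) (hA : K ≤ alternatingGroup (Fin 8)) (c : Fin 8)
    (hfix : ∀ k ∈ K, k c = c) (h7 : 7 ∣ Nat.card K) :
    Nat.card K = 7 ∨ Nat.card K = 21 ∨ (Nat.card K = 168 ∧ IsSimpleGroup K) ∨
      Nat.card K = 2520 := by
  set G := ((iso7_res K hA c hfix).range).map (alternatingGroup {x : Fin 8 // x ≠ c}).subtype with hG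
  haveI := deg7_trans K hA c hfix h7
  have hα : Fintype.card {x : Fin 8 // x ≠ c} = 7 := by
    rw [Fintype.card_subtype_compl]; simp
  have hGA : G ≤ alternatingGroup {x : Fin 8 // x ≠ c} := by
    rw [hG]
    exact Subgroup.map_subtype_le _
  -- the isomorphism K ≃* G
  have e1 : K ≃* (iso7_res K hA c hfix).range :=
    MonoidHom.ofInjective (iso7_res_injective K hA c hfix)
  have e2 : (iso7_res K hA c hfix).range ≃* G :=
    ((iso7_res K hA c hfix).range).equivMapOfInjective _ (Subgroup.subtype_injective _)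
  have e : K ≃* G := e1.trans e2
  have hc : Nat.card K = Nat.card G := Nat.card_congr e.toEquiv
  rcases deg7_card_abs hα G hGA with h | h | ⟨h, hS⟩ | h
  · exact Or.inl (hc.trans h)
  · exact Or.inr (Or.inl (hc.trans h))
  · refine Or.inr (Or.inr (Or.inl ⟨hc.trans h, ?_⟩))
    haveI := hS
    exact e.isSimpleGroup
  · exact Or.inr (Or.inr (Or.inr (hc.trans h)))

end Cfsg.Agent.Lib.Helper47.G42
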