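import Mathlib
import Cfsg.Agent.Lib.Helper47.G42Defs
import Cfsg.Agent.Lib.Helper81.DihEightCaseAC

/-! # G42 hive (S2553): leaf G42-GL3ID `equiv_gl3_of_simple_168` (helper47).
A simple group of order `168` is isomorphic to `GL₃(2)` (via helper81's `SL₃(2)` identification). -/

set_option autoImplicit false

namespace Cfsg.Agent.Lib.Helper47.G42

open Equiv

/-- `SL₃(2) ≃* GL₃(2)` (every determinant is `1`). -/
noncomputable def gl3id_slEquivGl :
    Matrix.SpecialLinearGroup (Fin 3) (ZMod 2) ≃* Matrix.GeneralLinearGroup (Fin 3) (ZMod 2) :=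
  MulEquiv.ofBijective Matrix.SpecialLinearGroup.toGL (by
    constructor
    · exact Matrix.SpecialLinearGroup.toGL_injective
    · intro g
      have hdet : (g : Matrix (Fin 3) (Fin 3) (ZMod 2)).det = 1 := by
        have hu : IsUnit (g : Matrix (Fin 3) (Fin 3) (ZMod 2)).det :=
          (Matrix.isUnit_iff_isUnit_det _).mp g.isUnit
        have : ∀ z : ZMod 2, IsUnit z → z = 1 := by decide
        exact this _ hu
      refine ⟨⟨(g : Matrix (Fin 3) (Fin 3) (ZMod 2)), hdet⟩, ?_⟩
      apply Units.ext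
      exact Matrix.SpecialLinearGroup.coe_GL_coe_matrix _)

/-- LEAF G42-GL3ID. -/
theorem equiv_gl3_of_simple_168 {G : Type*} [Group G] [Finite G] [IsSimpleGroup G]
    (h : Nat.card G = 168) : Nonempty (G ≃* GL (Fin 3) (ZMod 2)) := by
  obtain ⟨e⟩ := Cfsg.Agent.Lib.Helper81.DE.equiv_SL3_two_of_card h
  exact ⟨e.trans gl3id_slEquivGl⟩

end Cfsg.Agent.Lib.Helper47.G42
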