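import Mathlib
import Cfsg.Agent.Lib.Helper47.G42Defs
import Cfsg.Agent.Lib.Helper89.GL42
import Cfsg.Agent.Lib.Helper3.Burnside
import Cfsg.Agent.Lib.Helper27.G42PRIMES
import Cfsg.Agent.Lib.Helper27.G42STAB
import Cfsg.Agent.Lib.Helper33.G42RAD
import Cfsg.Agent.Lib.Helper44.G42F58
import Cfsg.Agent.Lib.Helper48.G42O120
import Cfsg.Agent.Lib.Helper48.G42O60
import Cfsg.Agent.Lib.Helper68.G42ISO7
import Cfsg.Agent.Lib.Helper68.G42ISO8
import Cfsg.Agent.Lib.Helper85.G42S7ORB
import Cfsg.Agent.Lib.Helper85.G42F5ORB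
import Cfsg.Agent.Lib.Helper94.G42F55
import Cfsg.Agent.Lib.Helper88.G42X1344
import Cfsg.Agent.Lib.Helper47.G42GL3ID
import Cfsg.Agent.Lib.Helper47.G42DEG7
import Cfsg.Agent.Lib.Helper82.G42F56

/-!
# G42 hive (S2553): assembly of the leaves.
-/

set_option autoImplicit false

namespace Cfsg.Agent.Lib.Helper47.G42

open Equiv

/-! ## owner's assembly -/

theorem card_eq_one_of_radFree_of_solvable {G : Type*} [Group G] (hR : RadFree G)
    (hs : Group.IsSolvable G) : Nat.card G = 1 := by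
  have h1 : Group.IsSolvable (⊤ : Subgroup G) :=
    Group.isSolvable_of_isSolvable_injective (f := (⊤ : Subgroup G).subtype) Subtype.val_injective
  have h2 : (⊤ : Subgroup G) = ⊥ := hR ⊤ inferInstance h1
  have h3 : Nat.card (⊤ : Subgroup G) = 1 := by rw [h2]; exact Subgroup.card_bot
  rwa [Subgroup.card_top] at h3

theorem solvable_of_card_pq {G : Type*} [Group G] [Finite G] (p q a b : ℕ) (hp : p.Prime)
    (hq : q.Prime) (h : Nat.card G = p ^ a * q ^ b) : Group.IsSolvable G :=
  Cfsg.Agent.Lib.Helper3.isSolvable_of_card_eq_prime_pow_mul p q a b hp hq h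

theorem case_seven (H : Subgroup (Perm (Fin 8))) (hA : H ≤ alternatingGroup (Fin 8))
    (hR : RadFree H) (h7 : 7 ∣ Nat.card H) (h1344 : Nat.card H ≠ 1344) :
    Nonempty (H ≃* alternatingGroup (Fin 7)) ∨ Nonempty (H ≃* alternatingGroup (Fin 8)) ∨
      Nonempty (H ≃* GL (Fin 3) (ZMod 2)) := by
  have hcard1 : Nat.card H ≠ 1 := by
    intro h; rw [h] at h7; norm_num at h7
  have hns : ¬ Group.IsSolvable H := fun hs =>
    hcard1 (card_eq_one_of_radFree_of_solvable hR hs)
  rcases orbit_seven H h7 with ⟨c, hfix⟩ | htr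
  · rcases deg7_card H hA c hfix h7 with h | h | ⟨h, hs⟩ | h
    · exact absurd (solvable_of_card_pq 7 3 1 0 (by norm_num) (by norm_num) (by rw [h]; norm_num)) hns
    · exact absurd (solvable_of_card_pq 7 3 1 1 (by norm_num) (by norm_num) (by rw [h]; norm_num)) hns
    · exact Or.inr (Or.inr (equiv_gl3_of_simple_168 h))
    · exact Or.inl (equiv_alt7_of_fix H hA c hfix h)
  · set K : Subgroup (Perm (Fin 8)) := H ⊓ MulAction.stabilizer (Perm (Fin 8)) (0 : Fin 8) with hKdef
    have hK : Nat.card H = 8 * Nat.card K := card_eq_eight_mul_stab H htr 0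
    have h7K : 7 ∣ Nat.card K := by
      have : 7 ∣ 8 * Nat.card K := hK ▸ h7
      exact (Nat.Coprime.dvd_of_dvd_mul_left (by norm_num) this)
    have hKA : K ≤ alternatingGroup (Fin 8) := inf_le_left.trans hA
    have hKfix : ∀ k ∈ K, k 0 = 0 := fun k hk => by
      have := hk.2
      simpa [MulAction.mem_stabilizer_iff] using this
    rcases deg7_card K hKA 0 hKfix h7K with h | h | ⟨h, _⟩ | h
    · exact absurd (solvable_of_card_pq 2 7 3 1 (by norm_num) (by norm_num)
        (by rw [hK, h]; norm_num)) hns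
    · have h168 : Nat.card H = 168 := by rw [hK, h]
      have := simple_of_card_168 h168 hns
      exact Or.inr (Or.inr (equiv_gl3_of_simple_168 h168))
    · exact absurd (by rw [hK, h]) h1344
    · exact Or.inr (Or.inl (equiv_alt8_of_card H hA (by rw [hK, h])))

theorem case_five (H : Subgroup (Perm (Fin 8))) (hne : H ≠ ⊥) (hR : RadFree H)
    (h7 : ¬ 7 ∣ Nat.card H) (h5 : 5 ∣ Nat.card H) :
    Nonempty (H ≃* alternatingGroup (Fin 5)) ∨ Nonempty (H ≃* Perm (Fin 5)) ∨
      Nonempty (H ≃* alternatingGroup (Fin 6)) ∨ Nonempty (H ≃* Perm (Fin 6)) := by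
  obtain ⟨Δ, g, hg, hc, hg5, hgΔ, hinv, htr, hΔ | hΔ | hΔ⟩ := orbit_five H h5 h7
  · rcases case_orbit_five H hne hR Δ hΔ hinv htr with h | h
    · exact Or.inl h
    · exact Or.inr (Or.inl h)
  · exact case_orbit_six H hR Δ hΔ g hg hc hg5 hgΔ hinv htr
  · exfalso
    apply h7
    have hΔu : Δ = Finset.univ := by
      apply Finset.eq_univ_of_card
      rw [hΔ]; simp
    refine seven_dvd_of_trans_five H (fun x y => htr x (by simp [hΔu]) y (by simp [hΔu])) g hg hc hg5

theorem classify (H : Subgroup (Perm (Fin 8))) (hA : H ≤ alternatingGroup (Fin 8)) (hne : H ≠ ⊥)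
    (hR : RadFree H) (h1344 : Nat.card H ≠ 1344) : Concl H := by
  have key7 : 7 ∣ Nat.card H → Concl H := by
    intro h7
    rcases case_seven H hA hR h7 h1344 with h | h | h
    · exact Or.inl ⟨7, by norm_num, by norm_num, h⟩
    · exact Or.inl ⟨8, by norm_num, by norm_num, h⟩
    · exact Or.inr (Or.inr (Or.inr h))
  by_cases h7 : 7 ∣ Nat.card H
  · exact key7 h7
  · have h5 : 5 ∣ Nat.card H := (five_or_seven_dvd H hne hR).resolve_left h7
    rcases case_five H hne hR h7 h5 with h | h | h | h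
    · exact Or.inl ⟨5, by norm_num, by norm_num, h⟩
    · exact Or.inr (Or.inl h)
    · exact Or.inl ⟨6, by norm_num, by norm_num, h⟩
    · exact Or.inr (Or.inr (Or.inl h))

theorem main (H : Subgroup (GL (Fin 4) (ZMod 2))) (hH : H ≠ ⊥)
    (hO : Cfsg.pPrimeCore 2 ↥H = ⊥) (hO2 : Cfsg.pCore 2 ↥H = ⊥) : Concl H := by
  obtain ⟨e⟩ := Cfsg.Agent.Lib.Helper89.GL42.gl_four_two_equiv_alternating
  have hR : RadFree H := radFree_of_cores hO2 hO
  let φ : GL (Fin 4) (ZMod 2) →* Perm (Fin 8) :=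
    (alternatingGroup (Fin 8)).subtype.comp e.toMonoidHom
  have hφ : Function.Injective φ := by
    intro x y hxy
    have : (e x : Perm (Fin 8)) = e y := hxy
    exact e.injective (Subtype.ext this)
  let f : H ≃* H.map φ := H.equivMapOfInjective φ hφ
  have hA : H.map φ ≤ alternatingGroup (Fin 8) := by
    rintro _ ⟨x, _, rfl⟩
    exact (e x).2
  have hne : H.map φ ≠ ⊥ := by
    intro h
    apply hH
    rw [Subgroup.eq_bot_iff_forall]
    intro x hx
    have h1 : φ x ∈ H.map φ := Subgroup.mem_map_of_mem φ hx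
    rw [h, Subgroup.mem_bot] at h1
    exact hφ (by rw [h1, map_one])
  have hR₁ : RadFree (H.map φ) := hR.of_mulEquiv f
  have h1344 : Nat.card (H.map φ) ≠ 1344 := by
    intro h
    have : Nat.card H = 1344 := by rw [Nat.card_congr f.toEquiv]; exact h
    exact not_radFree_of_card_1344 H this hR
  exact (classify (H.map φ) hA hne hR₁ h1344).of_mulEquiv f

end Cfsg.Agent.Lib.Helper47.G42
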