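import Cfsg.Agent.Lib.Helper47.RelSyl

set_option autoImplicit false

/-!
# The descent step for the L-Lemma

An `M`-pair `(L, B)` relative to a subgroup `M'`: `B` is a Sylow `p`-subgroup of `L`, `B ≤ M'`,
`L ≰ M'` and every proper subgroup of `L` containing `B` lies in `M'`.
-/

namespace Cfsg.Agent.Lib.Helper47

open Cfsg Cfsg.Agent.Lib.Helper33

variable {G : Type*} [Group G]

structure MPair (p : ℕ) (L B M' : Subgroup G) : Prop where
  syl : RelSyl p L B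
  le : B ≤ M'
  not_le : ¬ L ≤ M'
  uniq : ∀ Y : Subgroup G, B ≤ Y → Y < L → Y ≤ M'

theorem MPair.conj {p : ℕ} {L B M' : Subgroup G} (h : MPair p L B M') (k : G) :
    MPair p (cj k L) (cj k B) (cj k M') where
  syl := h.syl.conj k
  le := cj_mono h.le
  not_le := fun hle => h.not_le (cj_le_cj_iff.mp hle)
  uniq := by
    intro Y hBY hYL
    rw [le_cj_iff]
    apply h.uniq
    · rwa [← cj_le_iff]
    · rw [← cj_lt_cj_iff (g := k), cj_cj_inv]; exact hYL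

/-- `P` lies in a "unique maximal subgroup of `L`" of the form `L ∩ l M' l⁻¹` -/
def UProp (L M' P : Subgroup G) : Prop :=
  ∃ l ∈ L, ∀ Y : Subgroup G, P ≤ Y → Y < L → Y ≤ cj l M'

theorem MPair.descent [Finite G] {p : ℕ} [Fact p.Prime] {L B M' A X : Subgroup G}
    (h : MPair p L B M') (hAB : A ≤ B)
    (hA : ¬ A ≤ pCoreOf p L) (hX : A ⊔ pCoreOf p L ≤ X) (hXL : X < L) (hXM : ¬ X ≤ M') :
    ∃ (L₁ B₁ : Subgroup G) (l k : G), l ∈ L ∧ k ∈ L ∧ MPair p L₁ B₁ (cj l M') ∧ L₁ < L ∧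
      cj k A ≤ B₁ ∧ ¬ cj k A ≤ pCoreOf p L₁ ∧ pCoreOf p L ≤ B₁ := by
  classical
  have hBL : B ≤ L := h.syl.1
  have hBp : IsPGroup p ↥B := h.syl.2.1
  have hQB : pCoreOf p L ≤ B := h.syl.pCoreOf_le
  have hA₁B : A ⊔ pCoreOf p L ≤ B := sup_le hAB hQB
  have cjL : ∀ l ∈ L, cj l L = L := fun l hl => cj_eq_self_of_mem hl
  have cjBL : ∀ l ∈ L, cj l B ≤ L := fun l hl => (cj_mono hBL).trans (cjL l hl).le
  have notL : ∀ l ∈ L, ¬ L ≤ cj l M' := by
    intro l hl hle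
    apply h.not_le
    rw [← cj_le_cj_iff (g := l), cjL l hl]; exact hle
  have ltL : ∀ l ∈ L, L ⊓ cj l M' < L := fun l hl =>
    lt_of_le_of_ne inf_le_left (fun e => notL l hl (inf_eq_left.mp e))
  have UcjB : ∀ l ∈ L, ∀ Y : Subgroup G, cj l B ≤ Y → Y < L → Y ≤ cj l M' := by
    intro l hl Y hY hYL
    rw [le_cj_iff]
    apply h.uniq
    · rwa [← cj_le_iff]
    · have := cj_lt_cj_iff (g := l⁻¹) (H := Y) (K := L)
      rw [cjL l⁻¹ (L.inv_mem hl)] at this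
      exact this.mpr hYL
  -- Step 1
  have hnU : ¬ UProp L M' (A ⊔ pCoreOf p L) := by
    rintro ⟨l, hl, hU⟩
    have h1 : X ≤ cj l M' := hU X hX hXL
    have hZ0 : L ⊓ M' < L := lt_of_le_of_ne inf_le_left (fun e => h.not_le (inf_eq_left.mp e))
    have h2 : L ⊓ M' ≤ cj l M' := hU _ (hA₁B.trans (le_inf hBL h.le)) hZ0
    have h3 : L ⊓ cj l M' ≤ M' :=
      h.uniq _ (le_inf hBL ((le_inf hBL h.le).trans h2)) (ltL l hl)
    exact hXM ((le_inf hXL.le h1).trans h3)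
  -- Step 2: a maximal bad `p`-subgroup
  let S : Subgroup G → Prop :=
    fun P => P ≤ L ∧ IsPGroup p ↥P ∧ A ⊔ pCoreOf p L ≤ P ∧ ¬ UProp L M' P
  have hS0 : S (A ⊔ pCoreOf p L) := ⟨hA₁B.trans hBL, hBp.to_le hA₁B, le_rfl, hnU⟩
  obtain ⟨B', _, hB'max⟩ := Finite.exists_le_maximal (p := S) hS0
  obtain ⟨⟨hB'L, hB'p, hAB', hnUB'⟩, hmax⟩ := hB'max
  -- key property
  have key : ∀ l ∈ L, B' ≤ cj l B → ∀ Y : Subgroup G,
      cj l B ⊓ Subgroup.normalizer (B' : Set G) ≤ Y → Y < L → Y ≤ cj l M' := by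
    intro l hl hB'l Y hY hYL
    have hne : B' ≠ cj l B := by
      intro e
      apply hnUB'
      rw [e]
      exact ⟨l, hl, UcjB l hl⟩
    have hlt : B' < cj l B := lt_of_le_of_ne hB'l hne
    have hgrow := normalizer_growth (isPGroup_cj hBp) hlt
    have hNL : cj l B ⊓ Subgroup.normalizer (B' : Set G) ≤ L := inf_le_left.trans (cjBL l hl)
    have hNp : IsPGroup p ↥(cj l B ⊓ Subgroup.normalizer (B' : Set G) : Subgroup G) :=
      (isPGroup_cj hBp).to_le inf_le_left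
    have hUN : UProp L M' (cj l B ⊓ Subgroup.normalizer (B' : Set G)) := by
      by_contra hcon
      have : cj l B ⊓ Subgroup.normalizer (B' : Set G) ≤ B' :=
        hmax ⟨hNL, hNp, hAB'.trans hgrow.le, hcon⟩ hgrow.le
      exact (not_le_of_gt hgrow) this
    obtain ⟨l', hl', hU'⟩ := hUN
    have hcjBZ : cj l B ≤ L ⊓ cj l M' := le_inf (cjBL l hl) (cj_mono h.le)
    have h1 : L ⊓ cj l M' ≤ cj l' M' := hU' _ (inf_le_left.trans hcjBZ) (ltL l hl)
    have h2 : L ⊓ cj l' M' ≤ cj l M' :=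
      UcjB l hl _ (hcjBZ.trans (le_inf inf_le_left h1)) (ltL l' hl')
    exact (le_inf hYL.le (hU' Y hY hYL)).trans h2
  have hNB' : L ⊓ Subgroup.normalizer (B' : Set G) < L := by
    refine lt_of_le_of_ne inf_le_left (fun e => hA ?_)
    have hLN : L ≤ Subgroup.normalizer (B' : Set G) := inf_eq_left.mp e
    exact (le_sup_left.trans hAB').trans (le_pCoreOf hB'L hLN hB'p)
  obtain ⟨l₁, hl₁, hB'l₁⟩ := h.syl.exists_le_cj hB'L hB'p
  have hNsub : ∀ l ∈ L, cj l B ⊓ Subgroup.normalizer (B' : Set G) ≤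
      L ⊓ Subgroup.normalizer (B' : Set G) := fun l hl =>
    le_inf (inf_le_left.trans (cjBL l hl)) inf_le_right
  have hNle : ∀ l ∈ L, B' ≤ cj l B → L ⊓ Subgroup.normalizer (B' : Set G) ≤ cj l M' :=
    fun l hl hb => key l hl hb _ (hNsub l hl) hNB'
  have huniq : ∀ l ∈ L, B' ≤ cj l B → ∀ l' ∈ L, B' ≤ cj l' B → L ⊓ cj l M' ≤ cj l' M' := by
    intro l hl hb l' hl' hb'
    apply key l' hl' hb' _ _ (ltL l hl)
    exact le_inf (inf_le_left.trans (cjBL l' hl')) ((hNsub l' hl').trans (hNle l hl hb))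
  have hex : ∃ X' : Subgroup G, B' ≤ X' ∧ X' < L ∧ ¬ X' ≤ cj l₁ M' := by
    by_contra hcon
    push Not at hcon
    exact hnUB' ⟨l₁, hl₁, fun Y hY hYL => hcon Y hY hYL⟩
  obtain ⟨X', hB'X', hX'L, hX'M⟩ := hex
  -- `B'` is a maximal `p`-subgroup of `X'`
  have hmaxX' : ∀ P : Subgroup G, P ≤ X' → IsPGroup p ↥P → B' ≤ P → P ≤ B' := by
    intro P hPX' hPp hB'P
    by_contra hPB'
    have hUP : UProp L M' P := by
      by_contra hcon
      exact hPB' (hmax ⟨hPX'.trans hX'L.le, hPp, hAB'.trans hB'P, hcon⟩ hB'P)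
    obtain ⟨l', hl', hU'⟩ := hUP
    have hX'l' : X' ≤ cj l' M' := hU' X' hPX' hX'L
    have hcjB : cj l' B ≤ L ⊓ cj l' M' := le_inf (cjBL l' hl') (cj_mono h.le)
    have hsylZ : RelSyl p (L ⊓ cj l' M') (cj l' B) := by
      have := h.syl.conj l'
      rw [cjL l' hl'] at this
      exact this.of_le hcjB inf_le_left
    obtain ⟨y, hy, hB'y⟩ := hsylZ.exists_le_cj (le_inf hB'L (hB'X'.trans hX'l')) hB'p
    have hl₂ : y * l' ∈ L := L.mul_mem hy.1 hl'
    have hB'l₂ : B' ≤ cj (y * l') B := by rw [cj_mul]; exact hB'y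
    have hM₂ : cj (y * l') M' = cj l' M' := by rw [cj_mul]; exact cj_eq_self_of_mem hy.2
    have := huniq (y * l') hl₂ hB'l₂ l₁ hl₁ hB'l₁
    rw [hM₂] at this
    exact hX'M ((le_inf hX'L.le hX'l').trans this)
  -- a minimal subgroup of `X'` over `B'` not inside `cj l₁ M'`
  let R : Subgroup G → Prop := fun Y => B' ≤ Y ∧ Y ≤ X' ∧ ¬ Y ≤ cj l₁ M'
  have hR0 : R X' := ⟨hB'X', le_rfl, hX'M⟩
  obtain ⟨L₁, _, hL₁min⟩ := Finite.exists_le_minimal (p := R) hR0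
  obtain ⟨⟨hB'L₁, hL₁X', hL₁M⟩, hmin⟩ := hL₁min
  have hL₁L : L₁ < L := lt_of_le_of_lt hL₁X' hX'L
  have hsyl₁ : RelSyl p L₁ B' :=
    relSyl_of_maximal hB'L₁ hB'p (fun P hP hPp hBP => hmaxX' P (hP.trans hL₁X') hPp hBP)
  have hpair : MPair p L₁ B' (cj l₁ M') :=
    { syl := hsyl₁
      le := hB'l₁.trans (cj_mono h.le)
      not_le := hL₁M
      uniq := by
        intro Y hBY hYL₁
        by_contra hYM
        exact (not_le_of_gt hYL₁) (hmin ⟨hBY, hYL₁.le.trans hL₁X', hYM⟩ hYL₁.le) }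
  have hR₁B' : pCoreOf p L₁ ≤ B' := hsyl₁.pCoreOf_le
  -- some `L`-conjugate of `A` inside `B'` is not in `O_p(L₁)`
  have hclaim : ∃ k ∈ L, cj k A ≤ B' ∧ ¬ cj k A ≤ pCoreOf p L₁ := by
    by_contra hcon
    push Not at hcon
    let W : Subgroup G := ⨆ k : {k : G // k ∈ L ∧ cj k A ≤ B'}, cj (k : G) A
    have hWB' : W ≤ B' := iSup_le fun k => k.2.2
    have hle_W : ∀ k : G, k ∈ L → cj k A ≤ B' → cj k A ≤ W := fun k hk hkB =>
      le_iSup (fun k : {k : G // k ∈ L ∧ cj k A ≤ B'} => cj (k : G) A) ⟨k, hk, hkB⟩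
    have hAW : A ≤ W := by
      have := hle_W 1 L.one_mem (by rw [cj_one]; exact le_sup_left.trans hAB')
      rwa [cj_one] at this
    have hinv : ∀ n ∈ L, (∀ k ∈ L, cj k A ≤ B' → cj (n * k) A ≤ B') → cj n W ≤ W := by
      intro n hn hnk
      show (⨆ k : {k : G // k ∈ L ∧ cj k A ≤ B'}, cj (k : G) A).map
        (MulAut.conj n).toMonoidHom ≤ W
      rw [Subgroup.map_iSup]
      apply iSup_le
      intro k
      have := hle_W (n * k.1) (L.mul_mem hn k.2.1) (hnk k.1 k.2.1 k.2.2)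
      rw [cj_mul] at this
      exact this
    have hnorm : ∀ (N : Subgroup G), N ≤ L →
        (∀ n ∈ N, ∀ k ∈ L, cj k A ≤ B' → cj (n * k) A ≤ B') →
        N ≤ Subgroup.normalizer (W : Set G) := by
      intro N hNL hN n hn
      rw [← cj_eq_self_iff]
      apply le_antisymm (hinv n (hNL hn) (hN n hn))
      rw [le_cj_iff]
      exact hinv n⁻¹ (hNL (N.inv_mem hn)) (hN n⁻¹ (N.inv_mem hn))
    have hN1 : L ⊓ Subgroup.normalizer (B' : Set G) ≤ Subgroup.normalizer (W : Set G) := by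
      apply hnorm _ inf_le_left
      intro n hn k _ hkB'
      rw [cj_mul]
      have : cj n B' = B' := cj_eq_self_iff.mpr hn.2
      rw [← this]; exact cj_mono hkB'
    have hN2 : L₁ ≤ Subgroup.normalizer (W : Set G) := by
      apply hnorm _ hL₁L.le
      intro n hn k hk hkB'
      rw [cj_mul]
      have h1 := hcon k hk hkB'
      have h2 : cj n (pCoreOf p L₁) = pCoreOf p L₁ :=
        cj_eq_self_iff.mpr (le_normalizer_pCoreOf p L₁ hn)
      exact ((cj_mono h1).trans h2.le).trans hR₁B'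
    have hLW : L ≤ Subgroup.normalizer (W : Set G) := by
      by_contra hnot
      have hlt : L ⊓ Subgroup.normalizer (W : Set G) < L :=
        lt_of_le_of_ne inf_le_left (fun e => hnot (inf_eq_left.mp e))
      have h1 := key l₁ hl₁ hB'l₁ (L ⊓ Subgroup.normalizer (W : Set G))
        (le_inf (inf_le_left.trans (cjBL l₁ hl₁)) ((hNsub l₁ hl₁).trans hN1)) hlt
      exact hL₁M ((le_inf hL₁L.le hN2).trans h1)
    exact hA (hAW.trans (le_pCoreOf (hWB'.trans hB'L) hLW (hB'p.to_le hWB')))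
  obtain ⟨k, hk, hkB', hkR⟩ := hclaim
  exact ⟨L₁, B', l₁, k, hl₁, hk, hpair, hL₁L, hkB', hkR, le_sup_right.trans hAB'⟩

end Cfsg.Agent.Lib.Helper47
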