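import Cfsg.Agent.Lib.Helper47.Sylow

set_option autoImplicit false

namespace Cfsg.Agent.Lib.Helper47

open Cfsg

variable {G : Type*} [Group G]

theorem le_of_unique_coatom [Finite G] {Y M K : Subgroup G}
    (huniq : ∀ M' : Subgroup G, IsCoatom M' ∧ Y ≤ M' → M' = M) (hYK : Y ≤ K) (hK : K ≠ ⊤) :
    K ≤ M := by
  obtain ⟨M', hM', hKM'⟩ := exists_le_coatom hK
  have := huniq M' ⟨hM', hYK.trans hKM'⟩
  rw [← this]; exact hKM'

theorem quotient_isPGroup_of_sup_eq_top {p : ℕ} (T N : Subgroup G) [hN : N.Normal]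
    (hT : IsPGroup p ↥T) (h : T ⊔ N = ⊤) : IsPGroup p (G ⧸ N) := by
  intro x
  obtain ⟨g, rfl⟩ := QuotientGroup.mk_surjective x
  have hmem : g ∈ ((T ⊔ N : Subgroup G) : Set G) := by rw [h]; trivial
  rw [Subgroup.mul_normal] at hmem
  obtain ⟨t, ht, n, hn, rfl⟩ := hmem
  obtain ⟨k, hk⟩ := hT ⟨t, ht⟩
  have hk' : t ^ (p ^ k) = 1 := by
    have := congrArg Subtype.val hk
    simpa using this
  refine ⟨k, ?_⟩
  have e1 : (QuotientGroup.mk (t * n) : G ⧸ N) = QuotientGroup.mk t := by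
    rw [QuotientGroup.mk_mul, (QuotientGroup.eq_one_iff n).mpr hn, mul_one]
  rw [e1, ← QuotientGroup.mk_pow, hk', QuotientGroup.mk_one]

end Cfsg.Agent.Lib.Helper47
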