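import Cfsg.Agent.Lib.Helper47.LLemma
import Cfsg.Agent.Lib.Helper47.Minimal

set_option autoImplicit false

/-!
# The L-Lemma: minimal `M`-pairs
-/

namespace Cfsg.Agent.Lib.Helper47

open Cfsg Cfsg.Agent.Lib.Helper33

variable {G : Type*} [Group G]

/-- `L` carries an `M`-pair (relative to a conjugate of `M`) containing `A`, with `A ≰ O_p(L)` -/
def GoodL (p : ℕ) (M A L : Subgroup G) : Prop :=
  ∃ (B : Subgroup G) (g : G), MPair p L B (cj g M) ∧ A ≤ B ∧ ¬ A ≤ pCoreOf p L ∧ pCore p G ≤ B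

/-- generation statement (b) of the L-Lemma -/
theorem MPair.gen [Finite G] {p : ℕ} [Fact p.Prime] {L B M' A : Subgroup G}
    (h : MPair p L B M') (hAB : A ≤ B) (hA : ¬ A ≤ pCoreOf p L)
    (huniq : ∀ X : Subgroup G, A ⊔ pCoreOf p L ≤ X → X < L → X ≤ M') :
    ∀ x ∈ L, x ∉ L ⊓ M' → (A ⊔ cj x A) ⊔ pCoreOf p L = L := by
  intro x hxL hxL₀
  have hxM : x ∉ M' := fun hx => hxL₀ ⟨hxL, hx⟩
  by_contra hne
  have hQL := pCoreOf_le p L
  have hBL := h.syl.1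
  have hQB := h.syl.pCoreOf_le
  have hAL : A ≤ L := hAB.trans hBL
  have hxi : x⁻¹ ∈ L := L.inv_mem hxL
  have hXL : (A ⊔ cj x A) ⊔ pCoreOf p L ≤ L :=
    sup_le (sup_le hAL ((cj_mono hAL).trans (cj_eq_self_of_mem hxL).le)) hQL
  have hlt := lt_of_le_of_ne hXL hne
  have hXM := huniq _ (sup_le (le_sup_left.trans le_sup_left) le_sup_right) hlt
  have hxA : cj x A ≤ M' := (le_sup_right.trans le_sup_left).trans hXM
  have hY1 : A ⊔ pCoreOf p L ≤ L ⊓ cj x⁻¹ M' := by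
    apply sup_le
    · exact le_inf hAL (by rw [le_cj_iff, inv_inv]; exact hxA)
    · refine le_inf hQL ?_
      have : cj x⁻¹ (pCoreOf p L) = pCoreOf p L :=
        cj_eq_self_iff.mpr (le_normalizer_pCoreOf p L hxi)
      rw [← this]; exact cj_mono (hQB.trans h.le)
  have hnotL : ¬ L ≤ cj x⁻¹ M' := by
    intro hle; apply h.not_le
    rw [← cj_le_cj_iff (g := x⁻¹), cj_eq_self_of_mem hxi]; exact hle
  have hY2 : L ⊓ cj x⁻¹ M' < L :=
    lt_of_le_of_ne inf_le_left (fun e => hnotL (inf_eq_left.mp e))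
  have hY3 : L ⊓ cj x⁻¹ M' ≤ L ⊓ M' := le_inf inf_le_left (huniq _ hY1 hY2)
  have hcj : cj x⁻¹ (L ⊓ M') = L ⊓ cj x⁻¹ M' := by
    rw [cj_inf, cj_eq_self_of_mem hxi]
  have heq : L ⊓ cj x⁻¹ M' = L ⊓ M' := by
    apply Subgroup.eq_of_le_of_card_ge hY3
    rw [← hcj, card_cj]
  have hxN : x⁻¹ ∈ Subgroup.normalizer ((L ⊓ M' : Subgroup G) : Set G) := by
    rw [← cj_eq_self_iff, hcj, heq]
  have hA₁L₀ : A ⊔ pCoreOf p L ≤ L ⊓ M' :=
    sup_le (le_inf hAL (hAB.trans h.le)) (le_inf hQL (hQB.trans h.le))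
  have hLN : L ≤ Subgroup.normalizer ((L ⊓ M' : Subgroup G) : Set G) := by
    by_contra hnot
    have hlt' : L ⊓ Subgroup.normalizer ((L ⊓ M' : Subgroup G) : Set G) < L :=
      lt_of_le_of_ne inf_le_left (fun e => hnot (inf_eq_left.mp e))
    have := huniq _ (hA₁L₀.trans (le_inf inf_le_left Subgroup.le_normalizer)) hlt'
    have hx' : x⁻¹ ∈ M' := this ⟨hxi, hxN⟩
    exact hxM (by simpa using M'.inv_mem hx')
  have hNB : L ⊓ Subgroup.normalizer (B : Set G) ≤ M' := by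
    apply huniq _ ((sup_le hAB hQB).trans (le_inf hBL Subgroup.le_normalizer))
    refine lt_of_le_of_ne inf_le_left (fun e => hA ?_)
    exact hAB.trans (le_pCoreOf hBL (inf_eq_left.mp e) h.syl.2.1)
  have hsyl₀ : RelSyl p (L ⊓ M') B := h.syl.of_le (le_inf hBL h.le) inf_le_left
  have hxB : cj x B ≤ L ⊓ M' := by
    have : cj x (L ⊓ M') = L ⊓ M' := cj_eq_self_iff.mpr (hLN hxL)
    rw [← this]; exact cj_mono (le_inf hBL h.le)
  obtain ⟨y, hy, hle⟩ := hsyl₀.exists_le_cj hxB (isPGroup_cj h.syl.2.1)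
  have h1 : cj (y⁻¹ * x) B ≤ B := by rw [cj_mul, cj_le_iff, inv_inv]; exact hle
  have h2 : cj (y⁻¹ * x) B = B := Subgroup.eq_of_le_of_card_ge h1 (card_cj _ _).ge
  have h3 : y⁻¹ * x ∈ L ⊓ Subgroup.normalizer (B : Set G) :=
    ⟨L.mul_mem (L.inv_mem hy.1) hxL, cj_eq_self_iff.mp h2⟩
  have h4 : y⁻¹ * x ∈ M' := hNB h3
  have : x ∈ M' := by
    have := M'.mul_mem hy.2 h4
    simpa using this
  exact hxM this

/-- one descent step at the level of `GoodL` -/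
theorem GoodL.step [Finite G] {p : ℕ} [Fact p.Prime] {M A L B : Subgroup G} {g : G}
    (hpair : MPair p L B (cj g M)) (hAB : A ≤ B) (hA : ¬ A ≤ pCoreOf p L)
    (hQ : pCore p G ≤ B) {X : Subgroup G} (hX : A ⊔ pCoreOf p L ≤ X) (hXL : X < L)
    (hXM : ¬ X ≤ cj g M) : ∃ L₁ : Subgroup G, GoodL p M A L₁ ∧ Nat.card L₁ < Nat.card L := by
  obtain ⟨L₁, B₁, l, k, _, _, hpair₁, hL₁L, hkA, hkR, hQ₁⟩ :=
    hpair.descent hAB hA hX hXL hXM
  refine ⟨cj k⁻¹ L₁, ⟨cj k⁻¹ B₁, k⁻¹ * l * g, ?_, ?_, ?_, ?_⟩, ?_⟩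
  · have := hpair₁.conj k⁻¹
    rw [← cj_mul, ← cj_mul] at this
    exact this
  · rw [le_cj_iff, inv_inv]; exact hkA
  · rw [pCoreOf_cj, le_cj_iff, inv_inv]; exact hkR
  · have hn : (pCore p G).Normal := pCore_normal p G
    have h1 : pCore p G ≤ pCoreOf p L := by
      apply le_pCoreOf (hQ.trans hpair.syl.1) _ (pCore_isPGroup p G)
      rw [Subgroup.normalizer_eq_top]; exact le_top
    have h2 : cj k⁻¹ (pCore p G) = pCore p G := by
      rw [cj_eq_self_iff, Subgroup.normalizer_eq_top]; trivial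
    rw [← h2]; exact cj_mono (h1.trans hQ₁)
  · rw [card_cj]
    by_contra hnot
    have := Subgroup.eq_of_le_of_card_ge hL₁L.le (not_lt.mp hnot)
    exact hL₁L.ne this

/-- existence of a terminal `M`-pair -/
theorem GoodL.exists_terminal [Finite G] {p : ℕ} [Fact p.Prime] {M A : Subgroup G} :
    ∀ (n : ℕ) (L : Subgroup G), Nat.card L = n → GoodL p M A L →
      ∃ (L' B : Subgroup G) (g : G), MPair p L' B (cj g M) ∧ A ≤ B ∧ ¬ A ≤ pCoreOf p L' ∧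
        pCore p G ≤ B ∧ ∀ X : Subgroup G, A ⊔ pCoreOf p L' ≤ X → X < L' → X ≤ cj g M := by
  intro n
  induction n using Nat.strong_induction_on with
  | _ n ih =>
    intro L hn hL
    obtain ⟨B, g, hpair, hAB, hA, hQ⟩ := hL
    by_cases hfin : ∀ X : Subgroup G, A ⊔ pCoreOf p L ≤ X → X < L → X ≤ cj g M
    · exact ⟨L, B, g, hpair, hAB, hA, hQ, hfin⟩
    · push Not at hfin
      obtain ⟨X, hX, hXL, hXM⟩ := hfin
      obtain ⟨L₁, hgood, hcard⟩ := GoodL.step hpair hAB hA hQ hX hXL hXM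
      exact ih (Nat.card L₁) (hn ▸ hcard) L₁ rfl hgood

/-- **The L-Lemma** in `cj` form. -/
theorem lLemma [Finite G] {p : ℕ} [Fact p.Prime] (T : Sylow p G) (M : Subgroup G)
    (hTM : (T : Subgroup G) ≤ M) (hM : M ≠ ⊤)
    (huniq : ∀ Y : Subgroup G, (T : Subgroup G) ≤ Y → Y ≠ ⊤ → Y ≤ M)
    (A : Subgroup G) (hAT : A ≤ (T : Subgroup G)) (hA : ¬ A ≤ pCore p G) :
    ∃ L : Subgroup G, A ⊔ pCore p G ≤ L ∧ ∃ L₀ : Subgroup G, A ⊔ pCoreOf p L ≤ L₀ ∧ L₀ < L ∧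
      (∀ X : Subgroup G, A ⊔ pCoreOf p L ≤ X → X < L → X ≤ L₀) ∧
      (∃ g : G, L₀ = L ⊓ cj g M) ∧
      ∀ x ∈ L, x ∉ L₀ → (A ⊔ cj x A) ⊔ pCoreOf p L = L := by
  have hgood : GoodL p M A ⊤ := by
    refine ⟨T, 1, ?_, hAT, ?_, pCore_le_sylow T⟩
    · refine ⟨relSyl_top T, by rw [cj_one]; exact hTM, ?_, ?_⟩
      · rw [cj_one]; intro h; exact hM (top_le_iff.mp h)
      · intro Y hY hYt
        rw [cj_one]
        exact huniq Y hY hYt.ne
    · intro hle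
      apply hA
      have hn : (pCoreOf p (⊤ : Subgroup G)).Normal := by
        rw [← Subgroup.normalizer_eq_top_iff, eq_top_iff]
        exact le_normalizer_pCoreOf p ⊤
      exact hle.trans (le_pCore hn (pCoreOf_isPGroup p ⊤))
  obtain ⟨L, B, g, hpair, hAB, hAL, hQ, hfin⟩ := GoodL.exists_terminal _ ⊤ rfl hgood
  have hBL := hpair.syl.1
  have hQB := hpair.syl.pCoreOf_le
  refine ⟨L, sup_le (hAB.trans hBL) (hQ.trans hBL), L ⊓ cj g M, ?_, ?_, ?_, ⟨g, rfl⟩, ?_⟩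
  · exact sup_le (le_inf (hAB.trans hBL) (hAB.trans hpair.le))
      (le_inf (pCoreOf_le p L) (hQB.trans hpair.le))
  · exact lt_of_le_of_ne inf_le_left (fun e => hpair.not_le (inf_eq_left.mp e))
  · intro X hX hXL
    exact le_inf hXL.le (hfin X hX hXL)
  · exact hpair.gen hAB hAL hfin

end Cfsg.Agent.Lib.Helper47
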