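import Cfsg.Agent.Lib.Helper47.QImg
import Cfsg.Agent.Lib.Helper22.PResQuasi
import Cfsg.Agent.Lib.Helper21.Components
import Cfsg.Agent.S2019

set_option autoImplicit false

/-!
A large subgroup `Q ≤ E ≤ N(U)` with `O^p(E) C_E(U) / C_E(U)` quasisimple and
`O_p(E / C_E(U)) = 1`.
-/

namespace Cfsg.Agent.Lib.Helper47

open Cfsg
open scoped commutatorElement Pointwise

variable {G : Type*} [Group G] [Finite G] {p : ℕ} [Fact p.Prime]

/-- if `D ≤ N(Q)` is normalized by `X ≥ Q`, then `D` centralizes the weak closure of `Q` in `X`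
modulo `O_p(D)` -/
theorem wc_commutator_weakClosure_le_pCoreOf {Q : Subgroup G} (hQp : IsPGroup p ↥Q) (hQ1 : Q ≠ ⊥)
    (hwc : IsWeaklyClosedSubgroup p Q) {X D : Subgroup G} (hQX : Q ≤ X)
    (hXD : X ≤ Subgroup.normalizer (D : Set G)) (hDQ : D ≤ Subgroup.normalizer (Q : Set G)) :
    ⁅D, weakClosure Q X⁆ ≤ pCoreOf p D := by
  set P := pCoreOf p D with hP
  have hWP : weakClosure Q X ≤ Subgroup.normalizer (P : Set G) :=
    (weakClosure_le_self Q X).trans (hXD.trans (normalizer_le_normalizer_pCoreOf p D))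
  have key : ∀ k ∈ X, ⁅D, Q.map (MulAut.conj k).toMonoidHom⁆ ≤ P := by
    intro k hk
    set Qk := Q.map (MulAut.conj k).toMonoidHom with hQk
    have hQkX : Qk ≤ X := map_conj_le_of_mem hQX hk
    have hDQk : D ≤ Subgroup.normalizer (Qk : Set G) := by
      intro d hd
      rw [hQk, normalizer_map_conj, mem_map_conj]
      exact hDQ (conj_mem_of_mem_normalizer' (hXD hk) hd)
    have h1 : ⁅D, Qk⁆ ≤ D ⊓ Qk :=
      le_inf (Subgroup.le_normalizer_iff_commutator_le_left.mp (hQkX.trans hXD))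
        (Subgroup.le_normalizer_iff_commutator_le_right.mp hDQk)
    have h2 : D ⊓ Qk ≤ pCoreOf p D := by
      apply le_pCoreOf inf_le_left
      · exact le_trans (le_inf Subgroup.le_normalizer hDQk) (normalizer_inf_le_normalizer_inf D Qk)
      · exact (isPGroup_map_conj hQp k).to_le inf_le_right
    exact h1.trans h2
  have h3 : weakClosure Q X ≤ centMod (weakClosure Q X) D P hWP := by
    apply weakClosure_le
    intro g hg
    obtain ⟨k, hk, hgk⟩ := wc_conj_in_overgroup hQp hQ1 hwc hQX g hg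
    intro x hx
    rw [mem_centMod]
    refine ⟨le_weakClosure hg hx, fun d hd => ?_⟩
    rw [hgk] at hx
    exact key k hk (Subgroup.commutator_mem_commutator hd hx)
  rw [Subgroup.commutator_le]
  intro d hd x hx
  exact ((mem_centMod.mp (h3 hx)).2 d hd)

/-- the standing hypotheses -/
structure LQCtx (p : ℕ) (Q U E : Subgroup G) : Prop where
  hQp : IsPGroup p ↥Q
  hQ1 : Q ≠ ⊥
  hQ : IsLarge Q
  hUp : IsPGroup p ↥U
  hU1 : U ≠ ⊥
  hQE : Q ≤ E
  hEU : E ≤ Subgroup.normalizer (U : Set G)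
  hQn : ¬ E ≤ Subgroup.normalizer (Q : Set G)

namespace LQCtx

variable {Q U E : Subgroup G}

theorem hwc (c : LQCtx p Q U E) : IsWeaklyClosedSubgroup p Q := large_wc c.hQp c.hQ1 c.hQ

theorem C_le (c : LQCtx p Q U E) :
    Subgroup.centralizer (U : Set G) ≤ Subgroup.normalizer (Q : Set G) :=
  large_centralizer_le_normalizer c.hQp c.hQ c.hUp c.hU1 (c.hQE.trans c.hEU)

theorem E_le_normalizer_CE (c : LQCtx p Q U E) :
    E ≤ Subgroup.normalizer ((E ⊓ Subgroup.centralizer (U : Set G) : Subgroup G) : Set G) :=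
  le_trans (le_inf Subgroup.le_normalizer (c.hEU.trans (normalizer_le_normalizer_centralizer U)))
    (normalizer_inf_le_normalizer_inf E _)

theorem Q_not_le (c : LQCtx p Q U E) : ¬ Q ≤ Subgroup.centralizer (U : Set G) := by
  intro h
  apply c.hQn
  set CE := E ⊓ Subgroup.centralizer (U : Set G) with hCE
  have h1 : Q ≤ pCoreOf p CE := le_pCoreOf (le_inf c.hQE h) (inf_le_right.trans c.C_le) c.hQp
  have h2 : E ≤ Subgroup.normalizer ((pCoreOf p CE : Subgroup G) : Set G) :=
    c.E_le_normalizer_CE.trans (normalizer_le_normalizer_pCoreOf p CE)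
  exact h2.trans (large_normalizer_le c.hQ1 c.hQ (pCoreOf_isPGroup p CE) h1)

theorem Q_le_Eo (c : LQCtx p Q U E) : Q ≤ weakClosure Q E := le_weakClosure_self c.hQE

theorem E_le_normalizer_Er (Q E : Subgroup G) :
    E ≤ Subgroup.normalizer ((pPrimeClosure p (weakClosure Q E) : Subgroup G) : Set G) :=
  (le_normalizer_weakClosure Q E).trans (normalizer_le_normalizer_pPrimeClosure p _)

theorem Er_le_E (Q E : Subgroup G) : pPrimeClosure p (weakClosure Q E) ≤ E :=
  (pPrimeClosure_le p _).trans (weakClosure_le_self Q E)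

theorem Er_sup_Q (c : LQCtx p Q U E) :
    pPrimeClosure p (weakClosure Q E) ⊔ Q = weakClosure Q E :=
  wc_pPrimeClosure_sup c.hQp c.hQ1 c.hwc c.Q_le_Eo (weakClosure_idem Q E)

theorem Er_comm_Q (c : LQCtx p Q U E) :
    ⁅pPrimeClosure p (weakClosure Q E), Q⁆ = pPrimeClosure p (weakClosure Q E) :=
  wc_commutator_pPrimeClosure c.hQp c.hQ1 c.hwc c.Q_le_Eo (weakClosure_idem Q E)

theorem commutator_E_Q_le (c : LQCtx p Q U E) : ⁅E, Q⁆ ≤ weakClosure Q E := by
  have h1 := wc_weakClosure_sup c.hQp c.hQ1 c.hwc (c.hQE.trans Subgroup.le_normalizer)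
  rw [sup_eq_left.mpr c.hQE] at h1
  rw [h1]; exact le_sup_left

/-- `[C_{E_∘}(U), E°] ≤ O_p(E_∘)` -/
theorem commutator_C0_le (c : LQCtx p Q U E) :
    ⁅pPrimeClosure p (weakClosure Q E) ⊓ (E ⊓ Subgroup.centralizer (U : Set G)),
      weakClosure Q E⁆ ≤ pCoreOf p (pPrimeClosure p (weakClosure Q E)) := by
  set Er := pPrimeClosure p (weakClosure Q E) with hEr
  set CE := E ⊓ Subgroup.centralizer (U : Set G) with hCE
  have hE : E ≤ Subgroup.normalizer ((Er ⊓ CE : Subgroup G) : Set G) :=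
    le_trans (le_inf (E_le_normalizer_Er Q E) c.E_le_normalizer_CE)
      (normalizer_inf_le_normalizer_inf Er CE)
  have h1 := wc_commutator_weakClosure_le_pCoreOf c.hQp c.hQ1 c.hwc c.hQE hE
    ((inf_le_right.trans inf_le_right).trans c.C_le)
  refine h1.trans (pCoreOf_le_pCoreOf_of_le_normalizer inf_le_left ?_)
  exact (Er_le_E Q E).trans hE

section Quot

variable [hn : ((Subgroup.centralizer (U : Set G)).subgroupOf E).Normal]

theorem map_subtype_CE :
    ((Subgroup.centralizer (U : Set G)).subgroupOf E).map E.subtype =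
      E ⊓ Subgroup.centralizer (U : Set G) := by
  rw [Subgroup.subgroupOf_map_subtype, inf_comm]

/-- pulling back `[F̄, Ȳ] = F̄` -/
theorem le_commutator_sup (c : LQCtx p Q U E)
    (hred : pCore p (↥E ⧸ (Subgroup.centralizer (U : Set G)).subgroupOf E) = ⊥)
    (hq : IsQuasisimple
      ↥(pResidual p (↥E ⧸ (Subgroup.centralizer (U : Set G)).subgroupOf E)))
    {X : Subgroup G} (hXE : X ≤ E)
    (hX : qimg E ((Subgroup.centralizer (U : Set G)).subgroupOf E) X =
      pResidual p (↥E ⧸ (Subgroup.centralizer (U : Set G)).subgroupOf E))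
    {Y : Subgroup G} (hYE : Y ≤ E) (hYp : IsPGroup p ↥Y)
    (hYC : ¬ Y ≤ Subgroup.centralizer (U : Set G)) :
    X ≤ ⁅X, Y⁆ ⊔ (E ⊓ Subgroup.centralizer (U : Set G)) := by
  set N := (Subgroup.centralizer (U : Set G)).subgroupOf E with hN
  have hY1 : qimg E N Y ≠ ⊥ := by
    intro h
    rw [qimg_eq_bot_iff hYE, map_subtype_CE] at h
    exact hYC (h.trans inf_le_right)
  have h1 := Cfsg.Agent.Lib.Helper22.commutator_pResidual_eq hred hq (qimg_isPGroup hYp) hY1
  have hXY : ⁅X, Y⁆ ≤ E := (Subgroup.commutator_mono hXE hYE).trans (Subgroup.commutator_le_self E)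
  have h2 : qimg E N X ≤ qimg E N ⁅X, Y⁆ := by
    rw [qimg_commutator hXE hYE, hX, h1]
  rw [qimg_le_iff hXE hXY, map_subtype_CE] at h2
  exact h2

/-- pulling back perfectness of `F̄` -/
theorem le_commutator_self_sup (c : LQCtx p Q U E)
    (hq : IsQuasisimple
      ↥(pResidual p (↥E ⧸ (Subgroup.centralizer (U : Set G)).subgroupOf E)))
    {X : Subgroup G} (hXE : X ≤ E)
    (hX : qimg E ((Subgroup.centralizer (U : Set G)).subgroupOf E) X =
      pResidual p (↥E ⧸ (Subgroup.centralizer (U : Set G)).subgroupOf E)) :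
    X ≤ ⁅X, X⁆ ⊔ (E ⊓ Subgroup.centralizer (U : Set G)) := by
  set N := (Subgroup.centralizer (U : Set G)).subgroupOf E with hN
  have h1 := Cfsg.Agent.Lib.Helper22.quasisimple_commutator_self hq
  have hXX : ⁅X, X⁆ ≤ E := (Subgroup.commutator_mono hXE hXE).trans (Subgroup.commutator_le_self E)
  have h2 : qimg E N X ≤ qimg E N ⁅X, X⁆ := by
    rw [qimg_commutator hXE hXE, hX, h1]
  rw [qimg_le_iff hXE hXX, map_subtype_CE] at h2
  exact h2

/-- `O_p(E) ≤ C(U)` -/
theorem pCoreOf_le_C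
    (hred : pCore p (↥E ⧸ (Subgroup.centralizer (U : Set G)).subgroupOf E) = ⊥) :
    pCoreOf p E ≤ Subgroup.centralizer (U : Set G) := by
  set N := (Subgroup.centralizer (U : Set G)).subgroupOf E with hN
  have h1 : (pCore p ↥E).map (QuotientGroup.mk' N) ≤ pCore p (↥E ⧸ N) := by
    apply le_pCore
    · exact Subgroup.Normal.map inferInstance _ (QuotientGroup.mk'_surjective N)
    · exact (pCore_isPGroup p ↥E).map _
  rw [hred, le_bot_iff, Subgroup.map_eq_bot_iff, QuotientGroup.ker_mk'] at h1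
  have h2 := Subgroup.map_mono (f := E.subtype) h1
  rw [map_subtype_CE] at h2
  exact h2.trans inf_le_right

end Quot

end LQCtx

end Cfsg.Agent.Lib.Helper47
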