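import Cfsg.Agent.Lib.Helper47.LQS

set_option autoImplicit false

namespace Cfsg.Agent.Lib.Helper47

open Cfsg
open scoped commutatorElement Pointwise

variable {G : Type*} [Group G] [Finite G] {p : ℕ} [Fact p.Prime]

namespace LQCtx

variable {Q U E : Subgroup G} [hn : ((Subgroup.centralizer (U : Set G)).subgroupOf E).Normal]

theorem main1 (c : LQCtx p Q U E)
    (hred : pCore p (↥E ⧸ (Subgroup.centralizer (U : Set G)).subgroupOf E) = ⊥)
    (hq : IsQuasisimple
      ↥(pResidual p (↥E ⧸ (Subgroup.centralizer (U : Set G)).subgroupOf E))) :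
    pPrimeClosure p E ⊔ (E ⊓ Subgroup.centralizer (U : Set G)) =
      pPrimeClosure p (weakClosure Q E) ⊔ (E ⊓ Subgroup.centralizer (U : Set G)) := by
  set OE := pPrimeClosure p E with hOE
  set Er := pPrimeClosure p (weakClosure Q E) with hEr
  set CE := E ⊓ Subgroup.centralizer (U : Set G) with hCE
  have hErOE : Er ≤ OE := pPrimeClosure_mono p (weakClosure_le_self Q E)
  apply le_antisymm
  · apply sup_le _ le_sup_right
    have h1 : OE ≤ ⁅OE, Q⁆ ⊔ CE :=
      c.le_commutator_sup hred hq (pPrimeClosure_le p E) qimg_pPrimeClosure c.hQE c.hQp c.Q_not_le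
    have h2 : ⁅OE, Q⁆ ≤ Er ⊔ Q :=
      ((Subgroup.commutator_mono (pPrimeClosure_le p E) le_rfl).trans c.commutator_E_Q_le).trans
        c.Er_sup_Q.ge
    have h3 : OE ≤ (Er ⊔ CE) ⊔ Q := by
      refine h1.trans (sup_le ?_ (le_sup_right.trans le_sup_left))
      exact h2.trans (sup_le (le_sup_left.trans le_sup_left) le_sup_right)
    have hQn : Q ≤ Subgroup.normalizer ((Er ⊔ CE : Subgroup G) : Set G) :=
      c.hQE.trans ((le_inf (E_le_normalizer_Er Q E) c.E_le_normalizer_CE).trans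
        (normalizer_inf_normalizer_le_normalizer_sup _ _))
    exact le_of_le_sup_pgroup (pPrimeClosure_idem p E) h3 hQn c.hQp
  · exact sup_le (hErOE.trans le_sup_left) le_sup_right

theorem qimg_Er (c : LQCtx p Q U E)
    (hred : pCore p (↥E ⧸ (Subgroup.centralizer (U : Set G)).subgroupOf E) = ⊥)
    (hq : IsQuasisimple
      ↥(pResidual p (↥E ⧸ (Subgroup.centralizer (U : Set G)).subgroupOf E))) :
    qimg E ((Subgroup.centralizer (U : Set G)).subgroupOf E)
      (pPrimeClosure p (weakClosure Q E)) =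
      pResidual p (↥E ⧸ (Subgroup.centralizer (U : Set G)).subgroupOf E) := by
  apply le_antisymm
  · rw [← qimg_pPrimeClosure]
    exact qimg_mono (pPrimeClosure_mono p (weakClosure_le_self Q E))
  · rw [← qimg_pPrimeClosure, qimg_le_iff (pPrimeClosure_le p E) (Er_le_E Q E), map_subtype_CE,
      ← c.main1 hred hq]
    exact le_sup_left

theorem Er_perfect (c : LQCtx p Q U E)
    (hred : pCore p (↥E ⧸ (Subgroup.centralizer (U : Set G)).subgroupOf E) = ⊥)
    (hq : IsQuasisimple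
      ↥(pResidual p (↥E ⧸ (Subgroup.centralizer (U : Set G)).subgroupOf E))) :
    ⁅pPrimeClosure p (weakClosure Q E), pPrimeClosure p (weakClosure Q E)⁆ =
      pPrimeClosure p (weakClosure Q E) := by
  set Er := pPrimeClosure p (weakClosure Q E) with hEr
  set CE := E ⊓ Subgroup.centralizer (U : Set G) with hCE
  apply le_antisymm (Subgroup.commutator_le_self Er)
  set B := ⁅Er, Er⁆ with hB
  have h1 : Er ≤ B ⊔ CE := c.le_commutator_self_sup hq (Er_le_E Q E) (c.qimg_Er hred hq)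
  have hEB : E ≤ Subgroup.normalizer (B : Set G) :=
    (le_inf (E_le_normalizer_Er Q E) (E_le_normalizer_Er Q E)).trans
      (normalizer_inf_normalizer_le_normalizer_commutator Er Er)
  have h2 : Er ≤ B ⊔ ⁅CE, Q⁆ :=
    calc Er = ⁅Er, Q⁆ := c.Er_comm_Q.symm
      _ ≤ ⁅B ⊔ CE, Q⁆ := Subgroup.commutator_mono h1 le_rfl
      _ ≤ B ⊔ ⁅CE, Q⁆ :=
        commutator_sup_le_sup_commutator (c.hQE.trans hEB) (inf_le_left.trans hEB)
  have hT : ⁅CE, Q⁆ ≤ Q :=
    Subgroup.le_normalizer_iff_commutator_le_right.mp (inf_le_right.trans c.C_le)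
  exact le_of_le_sup_pgroup (pPrimeClosure_idem p _) h2 (hT.trans (c.hQE.trans hEB))
    (c.hQp.to_le hT)

theorem Er_comm_Y (c : LQCtx p Q U E)
    (hred : pCore p (↥E ⧸ (Subgroup.centralizer (U : Set G)).subgroupOf E) = ⊥)
    (hq : IsQuasisimple
      ↥(pResidual p (↥E ⧸ (Subgroup.centralizer (U : Set G)).subgroupOf E)))
    {Y : Subgroup G} (hYE : Y ≤ E) (hYp : IsPGroup p ↥Y)
    (hYC : ¬ Y ≤ Subgroup.centralizer (U : Set G)) :
    ⁅pPrimeClosure p (weakClosure Q E), Y⁆ = pPrimeClosure p (weakClosure Q E) := by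
  set Er := pPrimeClosure p (weakClosure Q E) with hEr
  set CE := E ⊓ Subgroup.centralizer (U : Set G) with hCE
  have hBEr : ⁅Er, Y⁆ ≤ Er :=
    Subgroup.le_normalizer_iff_commutator_le_left.mp (hYE.trans (E_le_normalizer_Er Q E))
  apply le_antisymm hBEr
  set B := ⁅Er, Y⁆ with hB
  have h1 : Er ≤ B ⊔ CE :=
    c.le_commutator_sup hred hq (Er_le_E Q E) (c.qimg_Er hred hq) hYE hYp hYC
  set C0 := Er ⊓ CE with hC0
  have h2 : Er ≤ B ⊔ C0 := by
    intro x hx
    have hx' : x ∈ ((B ⊔ CE : Subgroup G) : Set G) := h1 hx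
    rw [Subgroup.coe_mul_of_left_le_normalizer_right B CE
      (hBEr.trans ((Er_le_E Q E).trans c.E_le_normalizer_CE))] at hx'
    obtain ⟨b, hb, c', hc', rfl⟩ := hx'
    have hc'' : c' ∈ Er := by
      have := Er.mul_mem (Er.inv_mem (hBEr hb)) hx
      simpa using this
    exact Subgroup.mul_mem_sup hb ⟨hc'', hc'⟩
  have hErB : Er ≤ Subgroup.normalizer (B : Set G) := Subgroup.normalizer_commutator_ge_left Er Y
  have h3 : Er ≤ B ⊔ ⁅C0, Er⁆ :=
    calc Er = ⁅Er, Er⁆ := (c.Er_perfect hred hq).symm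
      _ ≤ ⁅B ⊔ C0, Er⁆ := Subgroup.commutator_mono h2 le_rfl
      _ ≤ B ⊔ ⁅C0, Er⁆ := commutator_sup_le_sup_commutator hErB (inf_le_left.trans hErB)
  have hT : ⁅C0, Er⁆ ≤ pCoreOf p Er :=
    (Subgroup.commutator_mono le_rfl (pPrimeClosure_le p _)).trans c.commutator_C0_le
  have hTEr : ⁅C0, Er⁆ ≤ Er := hT.trans (pCoreOf_le p Er)
  exact le_of_le_sup_pgroup (pPrimeClosure_idem p _) h3 (hTEr.trans hErB)
    ((pCoreOf_isPGroup p Er).to_le hT)

theorem quasi4 (c : LQCtx p Q U E)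
    (hred : pCore p (↥E ⧸ (Subgroup.centralizer (U : Set G)).subgroupOf E) = ⊥)
    (hq : IsQuasisimple
      ↥(pResidual p (↥E ⧸ (Subgroup.centralizer (U : Set G)).subgroupOf E)))
    [hn2 : ((Subgroup.centralizer (U : Set G)).subgroupOf
      (pPrimeClosure p (weakClosure Q E))).Normal] :
    IsQuasisimple (↥(pPrimeClosure p (weakClosure Q E)) ⧸
      (Subgroup.centralizer (U : Set G)).subgroupOf (pPrimeClosure p (weakClosure Q E))) := by
  set Er := pPrimeClosure p (weakClosure Q E) with hEr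
  set N := (Subgroup.centralizer (U : Set G)).subgroupOf E with hN
  let ψ : ↥Er →* ↥E ⧸ N := (QuotientGroup.mk' N).comp (Subgroup.inclusion (Er_le_E Q E))
  have hker : ψ.ker = (Subgroup.centralizer (U : Set G)).subgroupOf Er := by
    ext x
    rw [MonoidHom.mem_ker, MonoidHom.comp_apply, QuotientGroup.mk'_apply,
      QuotientGroup.eq_one_iff, Subgroup.mem_subgroupOf, Subgroup.mem_subgroupOf]
    rfl
  have hrange : ψ.range = pResidual p (↥E ⧸ N) := by
    rw [MonoidHom.range_comp, Subgroup.inclusion_range]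
    exact c.qimg_Er hred hq
  have e1 : ↥Er ⧸ ψ.ker ≃* ↥ψ.range := QuotientGroup.quotientKerEquivRange ψ
  have e2 : ↥Er ⧸ (Subgroup.centralizer (U : Set G)).subgroupOf Er ≃* ↥Er ⧸ ψ.ker :=
    QuotientGroup.quotientMulEquivOfEq hker.symm
  have e3 : ↥ψ.range ≃* ↥(pResidual p (↥E ⧸ N)) := MulEquiv.subgroupCongr hrange
  exact Cfsg.Agent.Lib.Helper21.quasisimple_of_mulEquiv ((e2.trans e1).trans e3).symm hq

theorem quasi5 (c : LQCtx p Q U E)
    (hred : pCore p (↥E ⧸ (Subgroup.centralizer (U : Set G)).subgroupOf E) = ⊥)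
    (hq : IsQuasisimple
      ↥(pResidual p (↥E ⧸ (Subgroup.centralizer (U : Set G)).subgroupOf E)))
    [hn2 : ((Subgroup.centralizer (U : Set G)).subgroupOf
      (pPrimeClosure p (weakClosure Q E))).Normal] :
    IsQuasisimple (↥(pPrimeClosure p (weakClosure Q E)) ⧸
      pCore p ↥(pPrimeClosure p (weakClosure Q E))) := by
  set Er := pPrimeClosure p (weakClosure Q E) with hEr
  have h4 := c.quasi4 hred hq
  have hperf : Group.IsPerfect ↥Er := Subgroup.isPerfect_iff.mpr (c.Er_perfect hred hq)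
  -- `O_p(Er) ≤ C(U)`
  have hPC : pCoreOf p Er ≤ Subgroup.centralizer (U : Set G) :=
    (pCoreOf_le_pCoreOf_of_le_normalizer (Er_le_E Q E) (E_le_normalizer_Er Q E)).trans
      (pCoreOf_le_C hred)
  have hle : pCore p ↥Er ≤ (Subgroup.centralizer (U : Set G)).subgroupOf Er := by
    intro x hx
    rw [Subgroup.mem_subgroupOf]
    exact hPC (Subgroup.mem_map_of_mem Er.subtype hx)
  let φ : ↥Er ⧸ pCore p ↥Er →* ↥Er ⧸ (Subgroup.centralizer (U : Set G)).subgroupOf Er :=
    QuotientGroup.map _ _ (MonoidHom.id ↥Er) (by simpa using hle)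
  have hφ : Function.Surjective φ := by
    intro b
    obtain ⟨x, rfl⟩ := QuotientGroup.mk_surjective b
    exact ⟨QuotientGroup.mk x, rfl⟩
  have hker : φ.ker ≤ Subgroup.center (↥Er ⧸ pCore p ↥Er) := by
    intro a ha
    obtain ⟨x, rfl⟩ := QuotientGroup.mk_surjective a
    have hx : x ∈ (Subgroup.centralizer (U : Set G)).subgroupOf Er := by
      have h1 : φ (QuotientGroup.mk x) = 1 := ha
      have h2 : φ (QuotientGroup.mk x) = QuotientGroup.mk x := rfl
      rw [h2, QuotientGroup.eq_one_iff] at h1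
      exact h1
    rw [Subgroup.mem_center_iff]
    intro b
    obtain ⟨y, rfl⟩ := QuotientGroup.mk_surjective b
    rw [← QuotientGroup.mk_mul, ← QuotientGroup.mk_mul, QuotientGroup.eq]
    -- `(y x)⁻¹ (x y) ∈ O_p(Er)`
    have h3 : (((y * x)⁻¹ * (x * y) : ↥Er) : G) = ⁅(x : G)⁻¹, (y : G)⁻¹⁆ := by
      rw [commutatorElement_def]
      push_cast
      group
    have h4 : ⁅(x : G)⁻¹, (y : G)⁻¹⁆ ∈ pCoreOf p Er := by
      apply c.commutator_C0_le
      apply Subgroup.commutator_mem_commutator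
      · refine ⟨Er.inv_mem x.2, ?_, ?_⟩
        · exact Er_le_E Q E (Er.inv_mem x.2)
        · exact Subgroup.inv_mem _ (Subgroup.mem_subgroupOf.mp hx)
      · exact pPrimeClosure_le p _ (Er.inv_mem y.2)
    rw [← h3] at h4
    obtain ⟨z, hz, hzeq⟩ := h4
    have : z = (y * x)⁻¹ * (x * y) := Subtype.ext hzeq
    rw [← this]; exact hz
  exact ⟨inferInstance, Cfsg.Agent.S2019.quasisimple_of_central_ext φ hφ hker h4.2⟩

end LQCtx

end Cfsg.Agent.Lib.Helper47
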