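import Cfsg.Agent.Lib.Helper47.WC4
import Cfsg.Agent.Lib.Helper47.Large2

set_option autoImplicit false

namespace Cfsg.Agent.Lib.Helper47

open Cfsg
open scoped commutatorElement Pointwise

variable {G : Type*} [Group G]

theorem map_conj_le_of_mem {Q K : Subgroup G} (hQK : Q ≤ K) {k : G} (hk : k ∈ K) :
    Q.map (MulAut.conj k).toMonoidHom ≤ K := by
  intro y hy
  rw [mem_map_conj] at hy
  have h1 : y = k * (k⁻¹ * y * k) * k⁻¹ := by group
  rw [h1]
  exact K.mul_mem (K.mul_mem hk (hQK hy)) (K.inv_mem hk)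

theorem le_weakClosure {Q L : Subgroup G} {g : G} (hg : Q.map (MulAut.conj g).toMonoidHom ≤ L) :
    Q.map (MulAut.conj g).toMonoidHom ≤ weakClosure Q L :=
  le_iSup (fun g : {g : G // Q.map (MulAut.conj g).toMonoidHom ≤ L} =>
    Q.map (MulAut.conj (g : G)).toMonoidHom) ⟨g, hg⟩

theorem weakClosure_le {Q L W : Subgroup G}
    (h : ∀ g : G, Q.map (MulAut.conj g).toMonoidHom ≤ L → Q.map (MulAut.conj g).toMonoidHom ≤ W) :
    weakClosure Q L ≤ W := by
  unfold weakClosure
  apply iSup_le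
  rintro ⟨g, hg⟩
  exact h g hg

theorem weakClosure_le_self (Q L : Subgroup G) : weakClosure Q L ≤ L :=
  weakClosure_le (fun _ hg => hg)

section Sylow

variable [Finite G] {p : ℕ} [Fact p.Prime]

/-- a large `p`-subgroup `Q` normalizing a nontrivial `p`-subgroup `Y` is normalized by `C(Y)` -/
theorem large_centralizer_le_normalizer {Q : Subgroup G} (hQp : IsPGroup p ↥Q) (hL : IsLarge Q)
    {Y : Subgroup G} (hYp : IsPGroup p ↥Y) (hY1 : Y ≠ ⊥)
    (hQY : Q ≤ Subgroup.normalizer (Y : Set G)) :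
    Subgroup.centralizer (Y : Set G) ≤ Subgroup.normalizer (Q : Set G) := by
  have hU := inf_centralizer_ne_bot_of_pgroup hQp hYp hQY hY1
  have h1 := hL.2 (Y ⊓ Subgroup.centralizer (Q : Set G)) inf_le_right hU
  have h2 : Subgroup.centralizer (Y : Set G) ≤
      Subgroup.centralizer ((Y ⊓ Subgroup.centralizer (Q : Set G) : Subgroup G) : Set G) :=
    Subgroup.centralizer_le (by exact_mod_cast (inf_le_left : Y ⊓ Subgroup.centralizer (Q : Set G) ≤ Y))
  exact h2.trans ((Subgroup.centralizer_le_normalizer _).trans h1)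

end Sylow

end Cfsg.Agent.Lib.Helper47
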