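import Cfsg.Agent.Lib.Helper47.WCF2
import Cfsg.Agent.Lib.Helper47.Quot

set_option autoImplicit false

/-!
Images of subgroups of the ambient group in a quotient `E / N` of a subgroup `E`.
-/

namespace Cfsg.Agent.Lib.Helper47

open Cfsg
open scoped commutatorElement Pointwise

variable {G : Type*} [Group G]

theorem commutator_subgroupOf_eq {A B K : Subgroup G} (hA : A ≤ K) (hB : B ≤ K) :
    ⁅A, B⁆.subgroupOf K = ⁅A.subgroupOf K, B.subgroupOf K⁆ := by
  apply Subgroup.map_injective (Subgroup.subtype_injective K)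
  have hAB : ⁅A, B⁆ ≤ K :=
    (Subgroup.commutator_mono hA hB).trans (Subgroup.commutator_le_self K)
  rw [Subgroup.map_commutator, Subgroup.subgroupOf_map_subtype, Subgroup.subgroupOf_map_subtype,
    Subgroup.subgroupOf_map_subtype, inf_of_le_left hA, inf_of_le_left hB, inf_of_le_left hAB]

section

variable (E : Subgroup G) (N : Subgroup ↥E) [N.Normal]

/-- image in `E / N` of a subgroup of the ambient group -/
def qimg (X : Subgroup G) : Subgroup (↥E ⧸ N) :=
  (X.subgroupOf E).map (QuotientGroup.mk' N)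

variable {E N}

theorem qimg_mono {X Y : Subgroup G} (h : X ≤ Y) : qimg E N X ≤ qimg E N Y :=
  Subgroup.map_mono (Subgroup.comap_mono h)

theorem qimg_commutator {X Y : Subgroup G} (hX : X ≤ E) (hY : Y ≤ E) :
    qimg E N ⁅X, Y⁆ = ⁅qimg E N X, qimg E N Y⁆ := by
  unfold qimg
  rw [commutator_subgroupOf_eq hX hY, Subgroup.map_commutator]

theorem qimg_le_iff {X Y : Subgroup G} (hX : X ≤ E) (hY : Y ≤ E) :
    qimg E N X ≤ qimg E N Y ↔ X ≤ Y ⊔ N.map E.subtype := by
  unfold qimg
  rw [Subgroup.map_le_map_iff, QuotientGroup.ker_mk',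
    ← Subgroup.map_le_map_iff_of_injective (Subgroup.subtype_injective E), Subgroup.map_sup,
    Subgroup.subgroupOf_map_subtype, Subgroup.subgroupOf_map_subtype, inf_of_le_left hX,
    inf_of_le_left hY]

theorem qimg_eq_bot_iff {X : Subgroup G} (hX : X ≤ E) :
    qimg E N X = ⊥ ↔ X ≤ N.map E.subtype := by
  unfold qimg
  rw [Subgroup.map_eq_bot_iff, QuotientGroup.ker_mk',
    ← Subgroup.map_le_map_iff_of_injective (Subgroup.subtype_injective E),
    Subgroup.subgroupOf_map_subtype, inf_of_le_left hX]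

theorem qimg_isPGroup {p : ℕ} {X : Subgroup G} (hX : IsPGroup p ↥X) :
    IsPGroup p ↥(qimg E N X) :=
  (hX.comap_subtype).map _

theorem qimg_pPrimeClosure [Finite G] {p : ℕ} [Fact p.Prime] :
    qimg E N (pPrimeClosure p E) = pResidual p (↥E ⧸ N) := by
  unfold qimg
  have h1 : (pPrimeClosure p E).subgroupOf E = pResidual p ↥E := by
    rw [← pResidual_map_subtype]
    exact Subgroup.comap_map_eq_self_of_injective (Subgroup.subtype_injective E) _
  rw [h1]
  exact map_pResidual_of_surjective _ (QuotientGroup.mk'_surjective N)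

end

end Cfsg.Agent.Lib.Helper47
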