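import Cfsg.Agent.Lib.Helper33.SylowSub
import Cfsg.Agent.Lib.Helper47.PCoreOf

set_option autoImplicit false

/-!
# Relative Sylow subgroups (inside an ambient group) and `O_p` of conjugates
-/

namespace Cfsg.Agent.Lib.Helper47

open Cfsg Cfsg.Agent.Lib.Helper33

variable {G : Type*} [Group G]

theorem pCore_normal (p : ℕ) (G : Type*) [Group G] : (pCore p G).Normal := by
  unfold pCore
  exact Subgroup.sSup_normal _ (fun H hH => hH.1)

theorem pCoreOf_cj_le [Finite G] (p : ℕ) [Fact p.Prime] (L : Subgroup G) (c : G) :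
    cj c (pCoreOf p L) ≤ pCoreOf p (cj c L) := by
  apply le_pCoreOf (cj_mono (pCoreOf_le p L))
  · rw [normalizer_cj]; exact cj_mono (le_normalizer_pCoreOf p L)
  · exact isPGroup_cj (pCoreOf_isPGroup p L)

/-- `O_p(cLc⁻¹) = c O_p(L) c⁻¹` -/
theorem pCoreOf_cj [Finite G] (p : ℕ) [Fact p.Prime] (L : Subgroup G) (c : G) :
    pCoreOf p (cj c L) = cj c (pCoreOf p L) := by
  apply le_antisymm _ (pCoreOf_cj_le p L c)
  have h1 := pCoreOf_cj_le p (cj c L) c⁻¹
  rw [cj_inv_cj, cj_le_iff, inv_inv] at h1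
  exact h1

/-- `B` is a Sylow `p`-subgroup of the subgroup `L` (of the ambient group) -/
def RelSyl (p : ℕ) (L B : Subgroup G) : Prop :=
  B ≤ L ∧ IsPGroup p ↥B ∧ ¬ p ∣ B.relIndex L

namespace RelSyl

variable {p : ℕ} {L B : Subgroup G}

theorem conj (h : RelSyl p L B) (g : G) : RelSyl p (cj g L) (cj g B) :=
  ⟨cj_mono h.1, isPGroup_cj h.2.1, by rw [relIndex_cj]; exact h.2.2⟩

theorem of_le (h : RelSyl p L B) {Z : Subgroup G} (hBZ : B ≤ Z) (hZL : Z ≤ L) : RelSyl p Z B := by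
  refine ⟨hBZ, h.2.1, fun hd => h.2.2 ?_⟩
  rw [← Subgroup.relIndex_mul_relIndex B Z L hBZ hZL]
  exact Dvd.dvd.mul_right hd _

variable [Finite G] [Fact p.Prime]

theorem exists_le_cj (h : RelSyl p L B) {P : Subgroup G} (hPL : P ≤ L) (hP : IsPGroup p ↥P) :
    ∃ l ∈ L, P ≤ cj l B := by
  obtain ⟨c, hc, hcP⟩ := sylow_sub h.1 h.2.1 h.2.2 hPL hP
  refine ⟨c⁻¹, L.inv_mem hc, ?_⟩
  rwa [cj_le_iff] at hcP

theorem eq_of_le (h : RelSyl p L B) {P : Subgroup G} (hPL : P ≤ L) (hP : IsPGroup p ↥P)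
    (hBP : B ≤ P) : P = B := by
  obtain ⟨l, _, hl⟩ := h.exists_le_cj hPL hP
  have hcard : Nat.card P ≤ Nat.card B := by
    calc Nat.card P ≤ Nat.card (cj l B) := Subgroup.card_le_of_le hl
      _ = Nat.card B := card_cj l B
  exact (Subgroup.eq_of_le_of_card_ge hBP hcard).symm

theorem pCoreOf_le (h : RelSyl p L B) : pCoreOf p L ≤ B := by
  obtain ⟨l, hl, hle⟩ := h.exists_le_cj (Helper47.pCoreOf_le p L) (pCoreOf_isPGroup p L)
  have h1 : cj l⁻¹ (pCoreOf p L) = pCoreOf p L :=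
    cj_eq_self_iff.mpr (le_normalizer_pCoreOf p L (L.inv_mem hl))
  have h2 : cj l⁻¹ (pCoreOf p L) ≤ B := by
    rw [cj_le_iff, inv_inv]; exact hle
  rwa [h1] at h2

end RelSyl

variable [Finite G] {p : ℕ} [Fact p.Prime] {L B : Subgroup G}

/-- a maximal `p`-subgroup of `L` is a relative Sylow subgroup -/
theorem relSyl_of_maximal (hBL : B ≤ L) (hB : IsPGroup p ↥B)
    (hmax : ∀ P : Subgroup G, P ≤ L → IsPGroup p ↥P → B ≤ P → P ≤ B) : RelSyl p L B := by
  refine ⟨hBL, hB, ?_⟩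
  have hB' : IsPGroup p ↥(B.subgroupOf L) := hB.comap_subtype
  obtain ⟨S, hS⟩ := IsPGroup.exists_le_sylow hB'
  have hSp : IsPGroup p ↥((S : Subgroup ↥L).map L.subtype) := S.isPGroup'.map _
  have hSL : (S : Subgroup ↥L).map L.subtype ≤ L := Subgroup.map_subtype_le _
  have hBS : B ≤ (S : Subgroup ↥L).map L.subtype := by
    intro b hb
    exact ⟨⟨b, hBL hb⟩, hS (Subgroup.mem_subgroupOf.mpr hb), rfl⟩
  have hSB := hmax _ hSL hSp hBS
  have heq : B.subgroupOf L = (S : Subgroup ↥L) := by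
    apply le_antisymm hS
    intro x hx
    rw [Subgroup.mem_subgroupOf]
    exact hSB ⟨x, hx, rfl⟩
  rw [Subgroup.relIndex, heq]
  exact S.not_dvd_index

theorem relSyl_top (T : Sylow p G) : RelSyl p ⊤ (T : Subgroup G) :=
  ⟨le_top, T.isPGroup', by rw [Subgroup.relIndex_top_right]; exact T.not_dvd_index⟩

end Cfsg.Agent.Lib.Helper47
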