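import Cfsg.Agent.Lib.Helper47.TopSub
import Cfsg.Agent.Lib.Helper46.Subnormal
import Cfsg.Agent.S2809

set_option autoImplicit false

namespace Cfsg.Agent.Lib.Helper47

open Cfsg
open scoped commutatorElement Pointwise

variable {G : Type*} [Group G]

/-- Bezout: if coprime powers of `d` lie in `C`, so does `d` -/
theorem mem_of_pow_mem_of_pow_mem {C : Subgroup G} {d : G} {m n : ℕ} (h : Nat.Coprime m n)
    (h1 : d ^ m ∈ C) (h2 : d ^ n ∈ C) : d ∈ C := by
  have hb := Nat.gcd_eq_gcd_ab m n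
  rw [h] at hb
  have e : d = (d ^ m) ^ (Nat.gcdA m n) * (d ^ n) ^ (Nat.gcdB m n) := by
    rw [← zpow_natCast d m, ← zpow_natCast d n, ← zpow_mul, ← zpow_mul, ← zpow_add, ← hb]
    simp
  rw [e]
  exact C.mul_mem (C.zpow_mem h1 _) (C.zpow_mem h2 _)

/-- the `p'`-part of an element of a finite group -/
theorem exists_pprime_pow [Finite G] (p : ℕ) [Fact p.Prime] (g : G) :
    ∃ k m : ℕ, Nat.Coprime m p ∧ (g ^ (p ^ k)) ^ m = 1 := by
  have hp : p.Prime := Fact.out
  have hpos : orderOf g ≠ 0 := (orderOf_pos g).ne'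
  obtain ⟨k, m, hmp, hkm⟩ := Nat.exists_eq_pow_mul_and_not_dvd hpos p hp.ne_one
  refine ⟨k, m, (Nat.Coprime.symm ((Nat.Prime.coprime_iff_not_dvd hp).mpr hmp)), ?_⟩
  rw [← pow_mul, ← hkm, pow_orderOf_eq_one]

/-- a `p'`-element with a `p`-power in `C` lies in `C` -/
theorem mem_of_pprime_of_pow_mem {p : ℕ} [Fact p.Prime] {C : Subgroup G} {x : G} {m j : ℕ}
    (hm : Nat.Coprime m p) (hxm : x ^ m = 1) (h : x ^ (p ^ j) ∈ C) : x ∈ C := by
  apply mem_of_pow_mem_of_pow_mem (Nat.Coprime.pow_right j hm) _ h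
  rw [hxm]; exact C.one_mem

theorem iterCommutator_mono {V V' L L' : Subgroup G} (hV : V ≤ V') (hL : L ≤ L') (n : ℕ) :
    iterCommutator V L n ≤ iterCommutator V' L' n := by
  induction n with
  | zero => exact hV
  | succ n ih => exact Subgroup.commutator_mono ih hL

theorem iterCommutator_succ_left (V L : Subgroup G) (n : ℕ) :
    iterCommutator V L (n + 1) = iterCommutator ⁅V, L⁆ L n := by
  induction n with
  | zero => rfl
  | succ n ih =>
    show ⁅iterCommutator V L (n + 1), L⁆ = ⁅iterCommutator ⁅V, L⁆ L n, L⁆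
    rw [ih]

/-- a subnormal subgroup acts nilpotently "modulo itself" -/
theorem exists_iterCommutator_le_of_subnormal (V : Subgroup G) {L : Subgroup G}
    (hL : L.IsSubnormal) : ∃ n : ℕ, iterCommutator V L n ≤ L := by
  induction hL with
  | top => exact ⟨0, le_top⟩
  | step L K hle _ hN ih =>
    obtain ⟨n, hn⟩ := ih
    have hKL : K ≤ Subgroup.normalizer (L : Set G) :=
      (Subgroup.normal_subgroupOf_iff_le_normalizer hle).mp hN
    refine ⟨n + 1, ?_⟩
    have h1 : iterCommutator V L n ≤ K := (iterCommutator_mono le_rfl hle n).trans hn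
    show ⁅iterCommutator V L n, L⁆ ≤ L
    rw [Subgroup.commutator_comm]
    refine (Subgroup.commutator_mono le_rfl h1).trans ?_
    rw [Subgroup.commutator_le]
    intro l hl k hk
    have h2 : k * l⁻¹ * k⁻¹ ∈ L :=
      (Subgroup.mem_normalizer_iff.mp (hKL hk) l⁻¹).mp (L.inv_mem hl)
    have : ⁅l, k⁆ = l * (k * l⁻¹ * k⁻¹) := by
      rw [commutatorElement_def]; group
    rw [this]
    exact L.mul_mem hl h2

/-- a `p'`-element of a subnormal subgroup `L` centralizing `V ⊓ L` centralizes the normal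
`p`-subgroup `V` -/
theorem mem_centralizer_of_subnormal_of_pprime [Finite G] {p : ℕ} [Fact p.Prime]
    {V : Subgroup G} [hVn : V.Normal] (hVp : IsPGroup p ↥V) {L : Subgroup G} (hL : L.IsSubnormal)
    {x : G} (hxL : x ∈ L) {m : ℕ} (hm : Nat.Coprime m p) (hxm : x ^ m = 1)
    (hx : x ∈ Subgroup.centralizer ((V ⊓ L : Subgroup G) : Set G)) :
    x ∈ Subgroup.centralizer (V : Set G) := by
  obtain ⟨n, hn⟩ := exists_iterCommutator_le_of_subnormal V hL
  set A : Subgroup G := Subgroup.zpowers x with hA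
  have hAL : A ≤ L := by rw [hA, Subgroup.zpowers_le]; exact hxL
  have hAV : A ≤ Subgroup.normalizer (V : Set G) := by
    rw [Subgroup.normalizer_eq_top_iff.mpr hVn]; exact le_top
  have hAC : A ≤ Subgroup.centralizer ((V ⊓ L : Subgroup G) : Set G) := by
    rw [hA, Subgroup.zpowers_le]; exact hx
  have h1 : iterCommutator V A n ≤ V ⊓ L :=
    le_inf (Cfsg.Agent.S2809.iterCommutator_le V A hAV n)
      ((iterCommutator_mono le_rfl hAL n).trans hn)
  have h2 : iterCommutator V A (n + 1) = ⊥ := by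
    show ⁅iterCommutator V A n, A⁆ = ⊥
    rw [Subgroup.commutator_eq_bot_iff_le_centralizer]
    refine h1.trans ?_
    rw [Subgroup.le_centralizer_iff]
    exact hAC
  have h3 := Cfsg.Agent.S2809.centralizes_of_coprime V hVp A hAV (n + 1) h2 x
    (Subgroup.mem_zpowers x) m hm hxm (n + 1) le_rfl
  simp only [Nat.sub_self] at h3
  rw [Subgroup.mem_centralizer_iff]
  intro v hv
  have := h3 v hv
  calc v * x = (x * v * x⁻¹) * x := by rw [this]
    _ = x * v := by group

/-- core of S2825: `V` a `p`-reduced normal subgroup of `H`, `L` subnormal, `D₀` a normal subgroup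
of `L` that is a `p`-group modulo `C(V ∩ L)`. Then `D₀` centralizes `V`. -/
theorem le_centralizer_of_subnormal_of_pReduced [Finite G] {p : ℕ} [Fact p.Prime]
    {V : Subgroup G} (hV : IsPReducedNormal p V) {L : Subgroup G} (hL : L.IsSubnormal)
    {D₀ : Subgroup G} (hD₀L : D₀ ≤ L) (hLD₀ : L ≤ Subgroup.normalizer (D₀ : Set G))
    (hD₀p : ∀ d ∈ D₀, ∃ k : ℕ,
      d ^ (p ^ k) ∈ Subgroup.centralizer ((V ⊓ L : Subgroup G) : Set G)) :
    D₀ ≤ Subgroup.centralizer (V : Set G) := by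
  obtain ⟨hVn, hVea, hCn, hcore⟩ := hV
  have hVp : IsPGroup p ↥V := Cfsg.Agent.Lib.Helper46.isPGroup_of_elemAb hVea
  have hsub : D₀.IsSubnormal :=
    Subgroup.IsSubnormal.step D₀ L hD₀L hL (Subgroup.normal_subgroupOf_of_le_normalizer hLD₀)
  apply Cfsg.Agent.Lib.Helper46.subnormal_le_of_pCore_quot_eq_bot _ hcore D₀ hsub
  intro d hd
  obtain ⟨k, m, hm, hxm⟩ := exists_pprime_pow p d
  refine ⟨k, ?_⟩
  have hxD : d ^ (p ^ k) ∈ D₀ := D₀.pow_mem hd _
  obtain ⟨j, hj⟩ := hD₀p _ hxD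
  have hxC := mem_of_pprime_of_pow_mem hm hxm hj
  exact mem_centralizer_of_subnormal_of_pprime hVp hL (hD₀L hxD) hm hxm hxC

end Cfsg.Agent.Lib.Helper47
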