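import Cfsg.Agent.Lib.Helper47.ZL

set_option autoImplicit false

namespace Cfsg.Agent.Lib.Helper47

open Cfsg
open scoped commutatorElement Pointwise

variable {G : Type*} [Group G]

theorem pCoreOf_top [Finite G] (p : ℕ) [Fact p.Prime] :
    pCoreOf p (⊤ : Subgroup G) = pCore p G := by
  apply le_antisymm
  · have h1 : (⊤ : Subgroup G) ≤ Subgroup.normalizer ((pCoreOf p (⊤ : Subgroup G) : Subgroup G) : Set G) :=
      le_normalizer_pCoreOf p ⊤
    have h2 : (pCoreOf p (⊤ : Subgroup G)).Normal :=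
      Subgroup.normalizer_eq_top_iff.mp (top_le_iff.mp h1)
    exact le_pCore h2 (pCoreOf_isPGroup p ⊤)
  · apply le_pCoreOf le_top
    · rw [Subgroup.normalizer_eq_top (pCore p G)]
    · exact pCore_isPGroup p G

theorem charp_top [Finite G] {p : ℕ} [Fact p.Prime]
    (hH : Subgroup.centralizer (pCore p G : Set G) ≤ pCore p G) :
    Subgroup.centralizer (pCore p ↥(⊤ : Subgroup G) : Set ↥(⊤ : Subgroup G)) ≤
      pCore p ↥(⊤ : Subgroup G) := by
  apply charp_of_inf_centralizer_pCoreOf_le
  rw [pCoreOf_top]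
  exact inf_le_right.trans hH

theorem pResidual_top_map (p : ℕ) :
    (pResidual p ↥(⊤ : Subgroup G)).map (⊤ : Subgroup G).subtype = pResidual p G := by
  rw [pResidual_map_subtype]
  unfold pPrimeClosure pResidual
  congr 1
  ext a
  simp

end Cfsg.Agent.Lib.Helper47
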