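import Cfsg.Agent.Lib.Helper88.TrsDefs
import Cfsg.Agent.S5088

/-! TRS-F3 / TRS-F4 / TRS-F6 (Trs hive S5156 of helper88, leaves by helper47): normality of a subgroup in a
saturated fusion system passes to saturated subsystems and to intersections with strongly closed subgroups; a
normal subgroup is strongly closed. -/

set_option autoImplicit false

namespace Cfsg.Agent.Lib.Helper88.Trs

open Cfsg Cfsg.FusionSystem

variable {Ω : Type*} [Group Ω] {S : Subgroup Ω} {p : ℕ} [Fact p.Prime]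

theorem isNormal_of_subsystem [Finite S] (hS : IsPGroup p S) (E : FusionSystem S)
    (hE : E.IsSaturated p) {T : Subgroup Ω} (hTS : T ≤ S) (D : FusionSystem T) (hD : D.IsSaturated p)
    (hDE : D.IsSubsystemOf E) {Q : Subgroup Ω} (hQT : Q ≤ T) (hQ : E.IsNormal Q) : D.IsNormal Q := by
  have hfT : Finite ↥T :=
    Finite.of_injective (Subgroup.inclusion hTS) (Subgroup.inclusion_injective hTS)
  have hT : IsPGroup p ↥T := hS.to_le hTS
  obtain ⟨n, Qs, h0, hl, hmono, hch⟩ := (Cfsg.Agent.S5088.result p hS E hE Q).mp hQ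
  refine (Cfsg.Agent.S5088.result p hT D hD Q).mpr ⟨n, Qs, h0, hl, hmono, fun i => ⟨⟨?_, ?_⟩, (hch i).2⟩⟩
  · have h1 : Qs i.succ ≤ Qs (Fin.last n) := hmono (Fin.le_last _)
    rw [hl] at h1
    exact h1.trans hQT
  · intro R hR φ hφ x
    exact (hch i).1.2 R hR φ (hDE R hφ) x

theorem f4_stronglyClosed_inf (E : FusionSystem S) {A B : Subgroup Ω} (hA : E.StronglyClosed A)
    (hB : E.StronglyClosed B) : E.StronglyClosed (A ⊓ B) :=
  ⟨inf_le_left.trans hA.1, fun R hR φ hφ x =>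
    ⟨hA.2 R (hR.trans inf_le_left) φ hφ x, hB.2 R (hR.trans inf_le_right) φ hφ x⟩⟩

theorem isNormal_inf [Finite S] (hS : IsPGroup p S) (E : FusionSystem S) (hE : E.IsSaturated p)
    {Q T₀ : Subgroup Ω} (hQ : E.IsNormal Q) (hT : E.StronglyClosed T₀) : E.IsNormal (Q ⊓ T₀) := by
  obtain ⟨n, Qs, h0, hl, hmono, hch⟩ := (Cfsg.Agent.S5088.result p hS E hE Q).mp hQ
  refine (Cfsg.Agent.S5088.result p hS E hE (Q ⊓ T₀)).mpr
    ⟨n, fun i => Qs i ⊓ T₀, ?_, ?_, ?_, fun i => ⟨f4_stronglyClosed_inf E (hch i).1 hT, ?_⟩⟩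
  · show Qs 0 ⊓ T₀ = ⊥
    rw [h0, bot_inf_eq]
  · show Qs (Fin.last n) ⊓ T₀ = Q ⊓ T₀
    rw [hl]
  · intro i j hij
    exact inf_le_inf_right T₀ (hmono hij)
  · show ⁅Q ⊓ T₀, Qs i.succ ⊓ T₀⁆ ≤ Qs (Fin.castSucc i) ⊓ T₀
    refine le_inf ?_ ?_
    · exact (Subgroup.commutator_mono inf_le_left inf_le_left).trans (hch i).2
    · rw [Subgroup.commutator_le]
      intro a ha b hb
      exact T₀.mul_mem (T₀.mul_mem (T₀.mul_mem ha.2 hb.2) (T₀.inv_mem ha.2)) (T₀.inv_mem hb.2)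

theorem stronglyClosed_of_isNormal [Finite S] (E : FusionSystem S) {Q : Subgroup Ω}
    (hQ : E.IsNormal Q) : E.StronglyClosed Q := by
  refine ⟨hQ.1, fun R hR φ hφ x => ?_⟩
  obtain ⟨ψ, -, hagree, hmap⟩ := hQ.2 R φ hφ
  rw [← hagree x]
  have h : ψ (Subgroup.inclusion le_sup_left x) ∈ (Q.subgroupOf (R ⊔ Q)).map ψ :=
    ⟨Subgroup.inclusion le_sup_left x, hR x.2, rfl⟩
  rw [hmap] at h
  exact h

end Cfsg.Agent.Lib.Helper88.Trs
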