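import Cfsg.Agent.Lib.Helper47.WC4
import Cfsg.Agent.Lib.Helper47.Large2

set_option autoImplicit false

namespace Cfsg.Agent.Lib.Helper47

open Cfsg
open scoped commutatorElement Pointwise

variable {G : Type*} [Group G]

/-- the subgroup generated by the `p'`-elements of `D` -/
def pPrimeClosure (p : ℕ) (D : Subgroup G) : Subgroup G :=
  Subgroup.closure {a : G | a ∈ D ∧ Nat.Coprime (orderOf a) p}

theorem pPrimeClosure_le (p : ℕ) (D : Subgroup G) : pPrimeClosure p D ≤ D := by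
  unfold pPrimeClosure
  rw [Subgroup.closure_le]
  intro a ha
  exact ha.1

theorem normalizer_le_normalizer_pPrimeClosure (p : ℕ) (D : Subgroup G) :
    Subgroup.normalizer (D : Set G) ≤
      Subgroup.normalizer ((pPrimeClosure p D : Subgroup G) : Set G) := by
  unfold pPrimeClosure
  rw [Subgroup.le_normalizer_closure_iff]
  intro n hn a ha
  apply Subgroup.subset_closure
  refine ⟨conj_mem_of_mem_normalizer hn ha.1, ?_⟩
  have h1 : orderOf (n * a * n⁻¹) = orderOf a := by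
    have := (MulAut.conj n).orderOf_eq a
    rwa [MulAut.conj_apply] at this
  rw [h1]
  exact ha.2

theorem isPGroup_of_pPrimeClosure [Finite G] {p : ℕ} [Fact p.Prime] {D : Subgroup G}
    (h : IsPGroup p ↥(pPrimeClosure p D)) : IsPGroup p ↥D := by
  have hp : p.Prime := Fact.out
  intro ⟨g, hg⟩
  have hpos : orderOf g ≠ 0 := (orderOf_pos g).ne'
  obtain ⟨k, m, hmp, hkm⟩ := Nat.exists_eq_pow_mul_and_not_dvd hpos p hp.ne_one
  have hm : Nat.Coprime m p := (Nat.Coprime.symm ((Nat.Prime.coprime_iff_not_dvd hp).mpr hmp))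
  set x := g ^ (p ^ k) with hx
  have hxm : x ^ m = 1 := by
    rw [hx, ← pow_mul, ← hkm, pow_orderOf_eq_one]
  have hxo : Nat.Coprime (orderOf x) p :=
    Nat.Coprime.coprime_dvd_left (orderOf_dvd_of_pow_eq_one hxm) hm
  have hxE : x ∈ pPrimeClosure p D :=
    Subgroup.subset_closure ⟨D.pow_mem hg _, hxo⟩
  obtain ⟨j, hj⟩ := h ⟨x, hxE⟩
  have hj' : x ^ (p ^ j) = 1 := by
    have := congrArg Subtype.val hj
    simpa using this
  have hx1 : x = 1 := eq_one_of_pow_coprime hm hxm hj'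
  refine ⟨k, ?_⟩
  apply Subtype.ext
  simpa [hx] using hx1

/-- relative version of S2809: a subgroup acting nilpotently on the `p`-group `R`, whose elements
centralizing `R` lie in `R`, is a `p`-group -/
theorem isPGroup_of_nilpotent_action_rel [Finite G] {p : ℕ} [Fact p.Prime] (R : Subgroup G)
    (hR : IsPGroup p ↥R) (L : Subgroup G) (hC : L ⊓ Subgroup.centralizer (R : Set G) ≤ R)
    (hL : L ≤ Subgroup.normalizer (R : Set G)) (n : ℕ) (hn : Cfsg.iterCommutator R L n = ⊥) :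
    IsPGroup p ↥L := by
  have hp : p.Prime := Fact.out
  intro ⟨y, hy⟩
  have hpos : orderOf y ≠ 0 := (orderOf_pos y).ne'
  obtain ⟨k, m, hmp, hkm⟩ := Nat.exists_eq_pow_mul_and_not_dvd hpos p hp.ne_one
  have hm : Nat.Coprime m p := (Nat.Coprime.symm ((Nat.Prime.coprime_iff_not_dvd hp).mpr hmp))
  set x := y ^ (p ^ k) with hx
  have hxL : x ∈ L := pow_mem hy _
  have hxm : x ^ m = 1 := by
    rw [hx, ← pow_mul, ← hkm, pow_orderOf_eq_one]
  have hcent := Cfsg.Agent.S2809.centralizes_of_coprime R hR L hL n hn x hxL m hm hxm n le_rfl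
  simp only [Nat.sub_self] at hcent
  have hxC : x ∈ Subgroup.centralizer (R : Set G) := by
    rw [Subgroup.mem_centralizer_iff]
    intro r hr
    have := hcent r hr
    calc r * x = (x * r * x⁻¹) * x := by rw [this]
      _ = x * r := by group
  have hxR : x ∈ R := hC ⟨hxL, hxC⟩
  obtain ⟨j, hj⟩ := hR ⟨x, hxR⟩
  have hj' : x ^ (p ^ j) = 1 := by
    have := congrArg Subtype.val hj
    simpa using this
  have hx1 : x = 1 := eq_one_of_pow_coprime hm hxm hj'
  refine ⟨k, ?_⟩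
  apply Subtype.ext
  simpa [hx] using hx1

theorem le_centralizer_centralizer (P : Subgroup G) :
    P ≤ Subgroup.centralizer ((Subgroup.centralizer (P : Set G) : Subgroup G) : Set G) := by
  intro x hx
  rw [Subgroup.mem_centralizer_iff]
  intro h hh
  exact ((Subgroup.mem_centralizer_iff.mp hh) x hx).symm

section Sylow

variable [Finite G] {p : ℕ} [Fact p.Prime]

/-- Core lemma 1: `(H₁, R)` is a "characteristic `p` pair", `Q ≤ H₁` weakly closed in `G`,
`E ≤ H₁` normalized by `Q` and centralizing `R ∩ Q`. Then `E` normalizes `Q`. -/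
theorem wc_le_normalizer_of_charp_pair {Q : Subgroup G} (hQp : IsPGroup p ↥Q)
    (hwc : IsWeaklyClosedSubgroup p Q) {H₁ R E : Subgroup G} (hRp : IsPGroup p ↥R)
    (hH₁R : H₁ ≤ Subgroup.normalizer (R : Set G))
    (hchar : H₁ ⊓ Subgroup.centralizer (R : Set G) ≤ R)
    (hQH₁ : Q ≤ H₁) (hEH₁ : E ≤ H₁) (hQE : Q ≤ Subgroup.normalizer (E : Set G))
    (hcent : R ⊓ Q ≤ Subgroup.centralizer (E : Set G)) :
    E ≤ Subgroup.normalizer (Q : Set G) := by
  obtain ⟨T, hwcT⟩ := hwc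
  have hQR : Q ≤ Subgroup.normalizer (R : Set G) := hQH₁.trans hH₁R
  have hER : E ≤ Subgroup.normalizer (R : Set G) := hEH₁.trans hH₁R
  -- R normalizes Q
  have hRQ : R ≤ Subgroup.normalizer (Q : Set G) := by
    have hp : IsPGroup p ↥(Q ⊔ R) := hQp.to_sup_of_normal_right' hRp hQR
    exact (le_sup_right.trans Subgroup.le_normalizer).trans (wc_normalizer_le hwcT hp le_sup_left)
  set Q₀ : Subgroup G := R ⊓ Q with hQ₀
  set E₁ : Subgroup G := ⁅Q, E⁆ with hE₁
  have hE₁E : E₁ ≤ E := Subgroup.le_normalizer_iff_commutator_le_right.mp hQE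
  have hQQ₀ : Q ≤ Subgroup.normalizer (Q₀ : Set G) :=
    (le_inf hQR Subgroup.le_normalizer).trans (normalizer_inf_le_normalizer_inf R Q)
  have hEQ₀c : E ≤ Subgroup.centralizer (Q₀ : Set G) := by
    intro e he
    rw [Subgroup.mem_centralizer_iff]
    intro x hx
    exact ((Subgroup.mem_centralizer_iff.mp (hcent hx)) e he).symm
  have hEQ₀ : E ≤ Subgroup.normalizer (Q₀ : Set G) :=
    hEQ₀c.trans (Subgroup.centralizer_le_normalizer _)
  -- Q ≤ commStab R Q₀
  have hQcs : Q ≤ commStab R Q₀ := by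
    intro q hq
    refine ⟨hQQ₀ hq, ?_⟩
    intro v hv
    refine ⟨?_, ?_⟩
    · have : ⁅R, Q⁆ ≤ R := Subgroup.le_normalizer_iff_commutator_le_left.mp hQR
      exact this (Subgroup.commutator_mem_commutator hv hq)
    · have : ⁅R, Q⁆ ≤ Q := Subgroup.le_normalizer_iff_commutator_le_right.mp hRQ
      exact this (Subgroup.commutator_mem_commutator hv hq)
  have hE₁cs : E₁ ≤ commStab R Q₀ := by
    rw [hE₁, Subgroup.commutator_le]
    intro q hq e he
    have h1 : ⁅q, e⁆ = q * (e * q⁻¹ * e⁻¹) := by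
      rw [commutatorElement_def]; group
    rw [h1]
    exact Subgroup.mul_mem _ (hQcs hq)
      (conj_mem_commStab (hER he) (hEQ₀ he) (hQcs (Q.inv_mem hq)))
  have h1 : ⁅R, E₁⁆ ≤ Q₀ := commutator_le_of_le_commStab hE₁cs
  have h2 : ⁅Q₀, E₁⁆ = ⊥ := by
    rw [Subgroup.commutator_eq_bot_iff_le_centralizer]
    exact hcent.trans (Subgroup.centralizer_le (by exact_mod_cast hE₁E))
  have hnil : Cfsg.iterCommutator R E₁ 2 = ⊥ := by
    show ⁅⁅R, E₁⁆, E₁⁆ = ⊥
    exact le_bot_iff.mp ((Subgroup.commutator_mono h1 le_rfl).trans h2.le)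
  have hE₁p : IsPGroup p ↥E₁ :=
    isPGroup_of_nilpotent_action_rel R hRp E₁
      ((inf_le_inf_right _ (hE₁E.trans hEH₁)).trans hchar) (hE₁E.trans hER) 2 hnil
  have hQE₁ : Q ≤ Subgroup.normalizer (E₁ : Set G) := Subgroup.normalizer_commutator_ge_left Q E
  have hQE₁p : IsPGroup p ↥(Q ⊔ E₁) := hQp.to_sup_of_normal_right' hE₁p hQE₁
  intro e he
  rw [← map_conj_eq_iff_mem_normalizer]
  apply wc_unique_in_pgroup hwcT hQE₁p le_sup_left
  intro y hy
  rw [mem_map_conj] at hy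
  have h3 : y = (⁅e⁻¹ * y * e, e⁆)⁻¹ * (e⁻¹ * y * e) := by
    rw [commutatorElement_def]; group
  rw [h3]
  exact Subgroup.mul_mem _
    (Subgroup.mem_sup_right (Subgroup.inv_mem _ (Subgroup.commutator_mem_commutator hy he)))
    (Subgroup.mem_sup_left hy)

/-- Core lemma 2: `C_G(Q) ≤ Q ≤ L`, `E ≤ C_G(O_p(L))` normalized by `L` and normalizing `Q`:
then `E` is a `p`-group and `[Q,E] ≤ Q ∩ O_p(L)`. -/
theorem isPGroup_of_le_centralizer_pCoreOf {Q L E : Subgroup G} (hQp : IsPGroup p ↥Q)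
    (hCQ : Subgroup.centralizer (Q : Set G) ≤ Q) (hQL : Q ≤ L)
    (hEP : E ≤ Subgroup.centralizer ((pCoreOf p L : Subgroup G) : Set G))
    (hLE : L ≤ Subgroup.normalizer (E : Set G)) (hEQ : E ≤ Subgroup.normalizer (Q : Set G)) :
    IsPGroup p ↥E ∧ ⁅Q, E⁆ ≤ Q ⊓ pCoreOf p L := by
  set P := pCoreOf p L with hP
  have hPp : IsPGroup p ↥P := pCoreOf_isPGroup p L
  have hLP : L ≤ Subgroup.normalizer (P : Set G) := le_normalizer_pCoreOf p L
  set E₀ := pCoreOf p E with hE₀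
  have hLE₀ : L ≤ Subgroup.normalizer (E₀ : Set G) :=
    hLE.trans (normalizer_le_normalizer_pCoreOf p E)
  have hE₀p : IsPGroup p ↥E₀ := pCoreOf_isPGroup p E
  have hE₀E : E₀ ≤ E := pCoreOf_le p E
  have hE₀P : IsPGroup p ↥(E₀ ⊔ P) :=
    hE₀p.to_sup_of_normal_right' hPp ((hE₀E.trans hEP).trans (Subgroup.centralizer_le_normalizer _))
  have hLsup : L ≤ Subgroup.normalizer ((E₀ ⊔ P : Subgroup G) : Set G) :=
    (le_inf hLE₀ hLP).trans (normalizer_inf_le_normalizer_sup E₀ P)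
  have hY : (E₀ ⊔ P) ⊓ L ≤ P := by
    apply le_pCoreOf inf_le_right
    · exact (le_inf hLsup Subgroup.le_normalizer).trans (normalizer_inf_le_normalizer_inf _ _)
    · exact hE₀P.to_le inf_le_left
  have hEQ₀ : E ⊓ Q ≤ E₀ := by
    apply le_pCoreOf inf_le_left
    · exact (le_inf Subgroup.le_normalizer hEQ).trans (normalizer_inf_le_normalizer_inf _ _)
    · exact hQp.to_le inf_le_right
  have hEQP : E ⊓ Q ≤ P :=
    (le_inf (hEQ₀.trans le_sup_left) (inf_le_right.trans hQL)).trans hY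
  have hQE : Q ≤ Subgroup.normalizer (E : Set G) := hQL.trans hLE
  have hc1 : ⁅Q, E⁆ ≤ Q := Subgroup.le_normalizer_iff_commutator_le_left.mp hEQ
  have hc2 : ⁅Q, E⁆ ≤ E := Subgroup.le_normalizer_iff_commutator_le_right.mp hQE
  have hc3 : ⁅Q, E⁆ ≤ P := (le_inf hc2 hc1).trans hEQP
  have hc4 : ⁅P, E⁆ = ⊥ := by
    rw [Subgroup.commutator_eq_bot_iff_le_centralizer]
    exact (le_centralizer_centralizer P).trans (Subgroup.centralizer_le (by exact_mod_cast hEP))
  have hnil : Cfsg.iterCommutator Q E 2 = ⊥ := by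
    show ⁅⁅Q, E⁆, E⁆ = ⊥
    exact le_bot_iff.mp ((Subgroup.commutator_mono hc3 le_rfl).trans hc4.le)
  exact ⟨Cfsg.Agent.S2809.result Q hQp hCQ E hEQ ⟨2, hnil⟩, le_inf hc1 hc3⟩

end Sylow

end Cfsg.Agent.Lib.Helper47
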