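import Cfsg.Agent.Lib.Helper47.BasicProp4

set_option autoImplicit false

namespace Cfsg.Agent.Lib.Helper47

open Cfsg
open scoped commutatorElement Pointwise

variable {G : Type*} [Group G]

theorem weakClosure_mono (Q : Subgroup G) {L M : Subgroup G} (h : L ≤ M) :
    weakClosure Q L ≤ weakClosure Q M :=
  weakClosure_le (fun _ hg => le_weakClosure (hg.trans h))

theorem le_normalizer_weakClosure [Finite G] (Q L : Subgroup G) :
    L ≤ Subgroup.normalizer ((weakClosure Q L : Subgroup G) : Set G) := by
  intro l hl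
  apply mem_normalizer_of_map_conj_le
  unfold weakClosure
  rw [Subgroup.map_iSup]
  apply iSup_le
  rintro ⟨g, hg⟩
  rw [map_conj_map_conj]
  have h1 : Q.map (MulAut.conj (l * g)).toMonoidHom ≤ L := by
    rw [← map_conj_map_conj]
    exact map_conj_le_of_mem hg hl
  exact le_weakClosure h1

theorem le_weakClosure_self {Q L : Subgroup G} (hQL : Q ≤ L) : Q ≤ weakClosure Q L := by
  have h1 : Q.map (MulAut.conj (1 : G)).toMonoidHom ≤ L := by rw [map_conj_one]; exact hQL
  have := le_weakClosure h1
  rwa [map_conj_one] at this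

/-- if the weakly closed `Q` is normal in `K`, the weak closure of `Q` in `K` is `Q` -/
theorem weakClosure_eq_self_of_le_normalizer [Finite G] {p : ℕ} [Fact p.Prime] {Q : Subgroup G}
    (hQp : IsPGroup p ↥Q) (hQ1 : Q ≠ ⊥) (hwc : IsWeaklyClosedSubgroup p Q) {K : Subgroup G}
    (hQK : Q ≤ K) (hKQ : K ≤ Subgroup.normalizer (Q : Set G)) : weakClosure Q K = Q := by
  apply le_antisymm
  · apply weakClosure_le
    intro g hg
    obtain ⟨k, hk, hgk⟩ := wc_conj_in_overgroup hQp hQ1 hwc hQK g hg
    rw [hgk, map_conj_eq_iff_mem_normalizer.mpr (hKQ hk)]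
  · exact le_weakClosure_self hQK

end Cfsg.Agent.Lib.Helper47
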