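import Cfsg.Agent.Lib.Helper47.Asym6
import Cfsg.Agent.Lib.Helper47.WCL

set_option autoImplicit false

namespace Cfsg.Agent.Lib.Helper47

open Cfsg
open scoped commutatorElement Pointwise

variable {G : Type*} [Group G]

/-- `N(A) ⊓ N(B) ≤ N(A ⊔ B)` -/
theorem normalizer_inf_normalizer_le_normalizer_sup (A B : Subgroup G) :
    Subgroup.normalizer (A : Set G) ⊓ Subgroup.normalizer (B : Set G) ≤
      Subgroup.normalizer ((A ⊔ B : Subgroup G) : Set G) := by
  intro g hg
  rw [← map_conj_eq_iff_mem_normalizer, Subgroup.map_sup,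
    map_conj_eq_iff_mem_normalizer.mpr hg.1, map_conj_eq_iff_mem_normalizer.mpr hg.2]

theorem map_conj_le_of_mem_normalizer {Q Y : Subgroup G} (hQY : Q ≤ Y) {x : G}
    (hx : x ∈ Subgroup.normalizer (Y : Set G)) : Q.map (MulAut.conj x).toMonoidHom ≤ Y := by
  have := Subgroup.map_mono (f := (MulAut.conj x).toMonoidHom) hQY
  rwa [map_conj_eq_iff_mem_normalizer.mpr hx] at this

/-- `N ⊔ Q` normalizes `[N,Q] Q` when `Q` normalizes `N` -/
theorem sup_le_normalizer_commutator_sup [Finite G] {N Q : Subgroup G}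
    (hQN : Q ≤ Subgroup.normalizer (N : Set G)) :
    N ⊔ Q ≤ Subgroup.normalizer ((⁅N, Q⁆ ⊔ Q : Subgroup G) : Set G) := by
  apply sup_le
  · intro n hn
    apply mem_normalizer_of_map_conj_le
    rw [Subgroup.map_sup]
    apply sup_le
    · refine le_trans ?_ le_sup_left
      exact map_conj_le_of_mem_normalizer le_rfl (Subgroup.normalizer_commutator_ge_left N Q hn)
    · intro y hy
      rw [mem_map_conj] at hy
      have h1 : y = ⁅n, n⁻¹ * y * n⁆ * (n⁻¹ * y * n) := by
        rw [commutatorElement_def]; group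
      rw [h1]
      exact Subgroup.mul_mem_sup (Subgroup.commutator_mem_commutator hn hy) hy
  · exact le_trans (le_inf (Subgroup.normalizer_commutator_ge_right N Q) Subgroup.le_normalizer)
      (normalizer_inf_normalizer_le_normalizer_sup _ _)

section Sylow

variable [Finite G] {p : ℕ} [Fact p.Prime]

/-- for a weakly closed `Q ≤ X`: the weak closure of `Q` in `X` lies in every overgroup `Y` of `Q`
normalized by `X` -/
theorem wc_weakClosure_le_of_le_normalizer {Q : Subgroup G} (hQp : IsPGroup p ↥Q) (hQ1 : Q ≠ ⊥)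
    (hwc : IsWeaklyClosedSubgroup p Q) {X Y : Subgroup G} (hQX : Q ≤ X) (hQY : Q ≤ Y)
    (hXY : X ≤ Subgroup.normalizer (Y : Set G)) : weakClosure Q X ≤ Y := by
  apply weakClosure_le
  intro g hg
  obtain ⟨k, hk, hgk⟩ := wc_conj_in_overgroup hQp hQ1 hwc hQX g hg
  rw [hgk]
  exact map_conj_le_of_mem_normalizer hQY (hXY hk)

/-- the weak closure of `Q` in `N Q` is `[N,Q] Q` -/
theorem wc_weakClosure_sup {Q : Subgroup G} (hQp : IsPGroup p ↥Q) (hQ1 : Q ≠ ⊥)
    (hwc : IsWeaklyClosedSubgroup p Q) {N : Subgroup G}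
    (hQN : Q ≤ Subgroup.normalizer (N : Set G)) :
    weakClosure Q (N ⊔ Q) = ⁅N, Q⁆ ⊔ Q := by
  apply le_antisymm
  · exact wc_weakClosure_le_of_le_normalizer hQp hQ1 hwc le_sup_right le_sup_right
      (sup_le_normalizer_commutator_sup hQN)
  · apply sup_le
    · rw [Subgroup.commutator_le]
      intro n hn q hq
      have h1 : Q.map (MulAut.conj n).toMonoidHom ≤ N ⊔ Q :=
        map_conj_le_of_mem le_sup_right (Subgroup.mem_sup_left hn)
      have h2 : n * q * n⁻¹ ∈ weakClosure Q (N ⊔ Q) := by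
        apply le_weakClosure h1
        rw [mem_map_conj]
        have : n⁻¹ * (n * q * n⁻¹) * n = q := by group
        rw [this]; exact hq
      have h3 : q⁻¹ ∈ weakClosure Q (N ⊔ Q) :=
        le_weakClosure_self le_sup_right (Q.inv_mem hq)
      have h4 : ⁅n, q⁆ = n * q * n⁻¹ * q⁻¹ := commutatorElement_def n q
      rw [h4]
      exact Subgroup.mul_mem _ h2 h3
    · exact le_weakClosure_self le_sup_right

/-- the weak closure is idempotent -/
theorem weakClosure_idem (Q X : Subgroup G) :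
    weakClosure Q (weakClosure Q X) = weakClosure Q X := by
  apply le_antisymm (weakClosure_le_self _ _)
  apply weakClosure_le
  intro g hg
  exact le_weakClosure (le_weakClosure hg)

/-- `X = O^p(X) Q` if `X` is generated by its conjugates of the weakly closed `Q` -/
theorem wc_pPrimeClosure_sup {Q : Subgroup G} (hQp : IsPGroup p ↥Q) (hQ1 : Q ≠ ⊥)
    (hwc : IsWeaklyClosedSubgroup p Q) {X : Subgroup G} (hQX : Q ≤ X)
    (hX : weakClosure Q X = X) : pPrimeClosure p X ⊔ Q = X := by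
  apply le_antisymm (sup_le (pPrimeClosure_le p X) hQX)
  set R := pPrimeClosure p X with hR
  have hXR : X ≤ Subgroup.normalizer (R : Set G) :=
    Subgroup.le_normalizer.trans (normalizer_le_normalizer_pPrimeClosure p X)
  obtain ⟨S, hQS⟩ := exists_sylow_in_ge hQp hQX
  have hSX : (S : Subgroup ↥X).map X.subtype ≤ X := Subgroup.map_subtype_le _
  obtain ⟨T, hT⟩ := hwc
  have hSQ : (S : Subgroup ↥X).map X.subtype ≤ Subgroup.normalizer (Q : Set G) :=
    Subgroup.le_normalizer.trans (wc_normalizer_le hT (isPGroup_sylow_map_subtype S) hQS)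
  have hXY : X ≤ Subgroup.normalizer ((R ⊔ Q : Subgroup G) : Set G) := by
    have h1 := pPrimeClosure_sup_sylow X S
    rw [← hR] at h1
    conv_lhs => rw [← h1]
    apply sup_le
    · exact le_sup_left.trans Subgroup.le_normalizer
    · exact le_trans (le_inf (hSX.trans hXR) hSQ) (normalizer_inf_normalizer_le_normalizer_sup _ _)
  have h2 := wc_weakClosure_le_of_le_normalizer hQp hQ1 ⟨T, hT⟩ hQX
    (le_sup_right : Q ≤ R ⊔ Q) hXY
  rwa [hX] at h2

/-- `O^p(X) = [O^p(X), Q]` if `X` is generated by its conjugates of the weakly closed `Q` -/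
theorem wc_commutator_pPrimeClosure {Q : Subgroup G} (hQp : IsPGroup p ↥Q) (hQ1 : Q ≠ ⊥)
    (hwc : IsWeaklyClosedSubgroup p Q) {X : Subgroup G} (hQX : Q ≤ X)
    (hX : weakClosure Q X = X) : ⁅pPrimeClosure p X, Q⁆ = pPrimeClosure p X := by
  set R := pPrimeClosure p X with hR
  have hXR : X ≤ Subgroup.normalizer (R : Set G) :=
    Subgroup.le_normalizer.trans (normalizer_le_normalizer_pPrimeClosure p X)
  have hQR : Q ≤ Subgroup.normalizer (R : Set G) := hQX.trans hXR
  apply le_antisymm (Subgroup.le_normalizer_iff_commutator_le_left.mp hQR)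
  have h1 : R ⊔ Q = X := wc_pPrimeClosure_sup hQp hQ1 hwc hQX hX
  have h2 : X ≤ Subgroup.normalizer ((⁅R, Q⁆ ⊔ Q : Subgroup G) : Set G) := by
    rw [← h1]; exact sup_le_normalizer_commutator_sup hQR
  have h3 := wc_weakClosure_le_of_le_normalizer hQp hQ1 hwc hQX
    (le_sup_right : Q ≤ ⁅R, Q⁆ ⊔ Q) h2
  rw [hX] at h3
  have h4 : R ≤ pPrimeClosure p (Q ⊔ ⁅R, Q⁆) := by
    rw [hR]; apply pPrimeClosure_mono; rwa [sup_comm]
  exact h4.trans (pPrimeClosure_sup_le Q _ (Subgroup.normalizer_commutator_ge_right R Q) hQp)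

/-- `K = O^p(⟨Q^{NQ}⟩)` for `N` normalized by `Q` -/
def wcfK (p : ℕ) (Q N : Subgroup G) : Subgroup G := pPrimeClosure p (weakClosure Q (N ⊔ Q))

theorem wcfK_le_commutator {Q : Subgroup G} (hQp : IsPGroup p ↥Q) (hQ1 : Q ≠ ⊥)
    (hwc : IsWeaklyClosedSubgroup p Q) {N : Subgroup G}
    (hQN : Q ≤ Subgroup.normalizer (N : Set G)) : wcfK p Q N ≤ ⁅N, Q⁆ := by
  unfold wcfK
  rw [wc_weakClosure_sup hQp hQ1 hwc hQN, sup_comm]
  exact pPrimeClosure_sup_le Q _ (Subgroup.normalizer_commutator_ge_right N Q) hQp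

theorem wcfK_le {Q : Subgroup G} (hQp : IsPGroup p ↥Q) (hQ1 : Q ≠ ⊥)
    (hwc : IsWeaklyClosedSubgroup p Q) {N : Subgroup G}
    (hQN : Q ≤ Subgroup.normalizer (N : Set G)) : wcfK p Q N ≤ N :=
  (wcfK_le_commutator hQp hQ1 hwc hQN).trans (Subgroup.le_normalizer_iff_commutator_le_left.mp hQN)

theorem wcfK_commutator {Q : Subgroup G} (hQp : IsPGroup p ↥Q) (hQ1 : Q ≠ ⊥)
    (hwc : IsWeaklyClosedSubgroup p Q) (N : Subgroup G) : ⁅wcfK p Q N, Q⁆ = wcfK p Q N :=
  wc_commutator_pPrimeClosure hQp hQ1 hwc (le_weakClosure_self le_sup_right) (weakClosure_idem _ _)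

theorem wcfK_idem (Q N : Subgroup G) : pPrimeClosure p (wcfK p Q N) = wcfK p Q N :=
  pPrimeClosure_idem p _

theorem sup_le_normalizer_wcfK (Q N : Subgroup G) :
    N ⊔ Q ≤ Subgroup.normalizer ((wcfK p Q N : Subgroup G) : Set G) :=
  (le_normalizer_weakClosure Q (N ⊔ Q)).trans (normalizer_le_normalizer_pPrimeClosure p _)

theorem normalizer_inf_le_normalizer_wcfK {Q : Subgroup G} (hQp : IsPGroup p ↥Q) (hQ1 : Q ≠ ⊥)
    (hwc : IsWeaklyClosedSubgroup p Q) {N : Subgroup G}
    (hQN : Q ≤ Subgroup.normalizer (N : Set G)) :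
    Subgroup.normalizer (N : Set G) ⊓ Subgroup.normalizer (Q : Set G) ≤
      Subgroup.normalizer ((wcfK p Q N : Subgroup G) : Set G) := by
  unfold wcfK
  rw [wc_weakClosure_sup hQp hQ1 hwc hQN]
  refine le_trans ?_ (normalizer_le_normalizer_pPrimeClosure p _)
  refine le_trans (le_inf ?_ inf_le_right) (normalizer_inf_normalizer_le_normalizer_sup _ _)
  exact normalizer_inf_normalizer_le_normalizer_commutator N Q

/-- `N = N_N(Q) K` -/
theorem le_normalizer_sup_wcfK {Q : Subgroup G} (hQp : IsPGroup p ↥Q) (hQ1 : Q ≠ ⊥)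
    (hwc : IsWeaklyClosedSubgroup p Q) {N : Subgroup G}
    (hQN : Q ≤ Subgroup.normalizer (N : Set G)) :
    N ≤ (N ⊓ Subgroup.normalizer (Q : Set G)) ⊔ wcfK p Q N := by
  intro n hn
  obtain ⟨a, ha, b, hb, rfl⟩ := wc_normalizer_mul_commutator hQp hQ1 hwc hQN n hn
  refine Subgroup.mul_mem _ (Subgroup.mem_sup_left ha) ?_
  -- `b ∈ [N,Q] ≤ X = K Q`
  set X := weakClosure Q (N ⊔ Q) with hX
  have hQX : Q ≤ X := le_weakClosure_self le_sup_right
  have h1 : pPrimeClosure p X ⊔ Q = X :=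
    wc_pPrimeClosure_sup hQp hQ1 hwc hQX (weakClosure_idem _ _)
  have hbX : b ∈ X := by
    rw [hX, wc_weakClosure_sup hQp hQ1 hwc hQN]; exact Subgroup.mem_sup_left hb
  have hKQ : Q ≤ Subgroup.normalizer ((pPrimeClosure p X : Subgroup G) : Set G) :=
    hQX.trans (Subgroup.le_normalizer.trans (normalizer_le_normalizer_pPrimeClosure p X))
  have hb' : b ∈ (((pPrimeClosure p X) ⊔ Q : Subgroup G) : Set G) := by rw [h1]; exact hbX
  rw [Subgroup.coe_mul_of_right_le_normalizer_left _ Q hKQ] at hb'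
  obtain ⟨k, hk, q, hq, rfl⟩ := hb'
  have hk' : k ∈ wcfK p Q N := hk
  have hkN : k ∈ N := wcfK_le hQp hQ1 hwc hQN hk'
  have hbN : k * q ∈ N := Subgroup.le_normalizer_iff_commutator_le_left.mp hQN hb
  have hqN : q ∈ N := by
    have := N.mul_mem (N.inv_mem hkN) hbN
    simpa using this
  have hq' : q ∈ Q := hq
  exact Subgroup.mul_mem _ (Subgroup.mem_sup_right hk')
    (Subgroup.mem_sup_left ⟨hqN, Subgroup.le_normalizer hq'⟩)

end Sylow

end Cfsg.Agent.Lib.Helper47
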