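import Cfsg.Agent.Lib.Helper47.WCF

set_option autoImplicit false

namespace Cfsg.Agent.Lib.Helper47

open Cfsg
open scoped commutatorElement Pointwise

variable {G : Type*} [Group G]

/-- three subgroups lemma modulo a normal subgroup -/
theorem comm_comm_le_of_rotate_mod {H₁ H₂ H₃ L : Subgroup G} [hL : L.Normal]
    (h1 : ⁅⁅H₂, H₃⁆, H₁⁆ ≤ L) (h2 : ⁅⁅H₃, H₁⁆, H₂⁆ ≤ L) : ⁅⁅H₁, H₂⁆, H₃⁆ ≤ L := by
  have key : ∀ A B C : Subgroup G, ⁅⁅A, B⁆, C⁆ ≤ L ↔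
      ⁅⁅A.map (QuotientGroup.mk' L), B.map (QuotientGroup.mk' L)⁆,
        C.map (QuotientGroup.mk' L)⁆ = ⊥ := by
    intro A B C
    rw [← Subgroup.map_commutator, ← Subgroup.map_commutator, Subgroup.map_eq_bot_iff,
      QuotientGroup.ker_mk']
  rw [key] at h1 h2 ⊢
  exact Subgroup.commutator_commutator_eq_bot_of_rotate h1 h2

/-- generic step: `[A D, Q] ≤ A [D,Q]` when `Q` and `D` normalize `A` -/
theorem commutator_sup_le_sup_commutator {A D Q : Subgroup G}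
    (hQA : Q ≤ Subgroup.normalizer (A : Set G)) (hDA : D ≤ Subgroup.normalizer (A : Set G)) :
    ⁅A ⊔ D, Q⁆ ≤ A ⊔ ⁅D, Q⁆ := by
  rw [Subgroup.commutator_le]
  intro x hx q hq
  have hx' : x ∈ ((A ⊔ D : Subgroup G) : Set G) := hx
  rw [Subgroup.coe_mul_of_right_le_normalizer_left A D hDA] at hx'
  obtain ⟨a, ha, d, hd, rfl⟩ := hx'
  rw [commutatorElement_mul_left_eq_conj_mul]
  have ha' : a ∈ A := ha
  have h1 : ⁅d, q⁆ ∈ A ⊔ ⁅D, Q⁆ :=
    Subgroup.mem_sup_right (Subgroup.commutator_mem_commutator hd hq)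
  have h2 : ⁅a, q⁆ ∈ A := by
    rw [commutatorElement_def]
    have h3 : q * a⁻¹ * q⁻¹ ∈ A := conj_mem_of_mem_normalizer (hQA hq) (A.inv_mem ha')
    have h4 : a * q * a⁻¹ * q⁻¹ = a * (q * a⁻¹ * q⁻¹) := by group
    rw [h4]; exact A.mul_mem ha' h3
  have h5 : a ∈ A ⊔ ⁅D, Q⁆ := Subgroup.mem_sup_left ha'
  exact Subgroup.mul_mem _ (Subgroup.mul_mem _ (Subgroup.mul_mem _ h5 h1) (Subgroup.inv_mem _ h5))
    (Subgroup.mem_sup_left h2)

/-- a `p'`-generated subgroup of `A T`, `T` a `p`-group normalizing `A`, lies in `A` -/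
theorem le_of_le_sup_pgroup {p : ℕ} {K A T : Subgroup G} (hK : pPrimeClosure p K = K)
    (hKA : K ≤ A ⊔ T) (hTA : T ≤ Subgroup.normalizer (A : Set G)) (hT : IsPGroup p ↥T) :
    K ≤ A := by
  rw [← hK]
  rw [sup_comm] at hKA
  exact (pPrimeClosure_mono p hKA).trans (pPrimeClosure_sup_le T A hTA hT)

/-- the standing hypotheses of the factorization lemma for weak closures -/
structure WCFCtx (p : ℕ) (Q Hc H₁ H₂ : Subgroup G) : Prop where
  hQp : IsPGroup p ↥Q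
  hQ1 : Q ≠ ⊥
  hwc : IsWeaklyClosedSubgroup p Q
  hHc : Hc = weakClosure Q ⊤
  le₁ : H₁ ≤ Hc
  n₁ : Hc ≤ Subgroup.normalizer (H₁ : Set G)
  le₂ : H₂ ≤ Hc
  n₂ : Hc ≤ Subgroup.normalizer (H₂ : Set G)
  hprod : H₁ ⊔ H₂ = Hc
  hcomm : ⁅H₁, H₂⁆ ≤ Subgroup.normalizer (Q : Set G)

namespace WCFCtx

variable [Finite G] {p : ℕ} [Fact p.Prime] {Q Hc H₁ H₂ : Subgroup G}

theorem symm (c : WCFCtx p Q Hc H₁ H₂) : WCFCtx p Q Hc H₂ H₁ where
  hQp := c.hQp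
  hQ1 := c.hQ1
  hwc := c.hwc
  hHc := c.hHc
  le₁ := c.le₂
  n₁ := c.n₂
  le₂ := c.le₁
  n₂ := c.n₁
  hprod := by rw [sup_comm]; exact c.hprod
  hcomm := by rw [Subgroup.commutator_comm]; exact c.hcomm

theorem Q_le (c : WCFCtx p Q Hc H₁ H₂) : Q ≤ Hc := by
  rw [c.hHc]; exact le_weakClosure_self le_top

theorem top_le_normalizer (c : WCFCtx p Q Hc H₁ H₂) :
    (⊤ : Subgroup G) ≤ Subgroup.normalizer (Hc : Set G) := by
  rw [c.hHc]; exact le_normalizer_weakClosure Q ⊤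

theorem QN₁ (c : WCFCtx p Q Hc H₁ H₂) : Q ≤ Subgroup.normalizer (H₁ : Set G) :=
  c.Q_le.trans c.n₁

/-- `Hc` lies in every subgroup containing all `Hc`-conjugates of `Q` -/
theorem Hc_le (c : WCFCtx p Q Hc H₁ H₂) {Z : Subgroup G}
    (h : ∀ k ∈ Hc, Q.map (MulAut.conj k).toMonoidHom ≤ Z) : Hc ≤ Z := by
  have h1 : weakClosure Q ⊤ ≤ Z := by
    apply weakClosure_le
    intro g _
    have hg : Q.map (MulAut.conj g).toMonoidHom ≤ Hc := by
      rw [c.hHc]; exact le_weakClosure le_top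
    obtain ⟨k, hk, hgk⟩ := wc_conj_in_overgroup c.hQp c.hQ1 c.hwc c.Q_le g hg
    rw [hgk]; exact h k hk
  rw [c.hHc]; exact h1

/-- `Hc` lies in every overgroup of `Q` that it normalizes -/
theorem Hc_le_of_le_normalizer (c : WCFCtx p Q Hc H₁ H₂) {Y : Subgroup G} (hQY : Q ≤ Y)
    (hY : Hc ≤ Subgroup.normalizer (Y : Set G)) : Hc ≤ Y :=
  c.Hc_le (fun _ hk => map_conj_le_of_mem_normalizer hQY (hY hk))

theorem D_le₁ (c : WCFCtx p Q Hc H₁ H₂) : ⁅H₁, H₂⁆ ≤ H₁ :=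
  Subgroup.le_normalizer_iff_commutator_le_left.mp (c.le₂.trans c.n₁)

theorem D_le₂ (c : WCFCtx p Q Hc H₁ H₂) : ⁅H₁, H₂⁆ ≤ H₂ :=
  Subgroup.le_normalizer_iff_commutator_le_right.mp (c.le₁.trans c.n₂)

theorem D_le (c : WCFCtx p Q Hc H₁ H₂) : ⁅H₁, H₂⁆ ≤ Hc := c.D_le₁.trans c.le₁

theorem Hc_le_normalizer_D (c : WCFCtx p Q Hc H₁ H₂) :
    Hc ≤ Subgroup.normalizer ((⁅H₁, H₂⁆ : Subgroup G) : Set G) :=
  le_trans (le_inf c.n₁ c.n₂) (normalizer_inf_normalizer_le_normalizer_commutator H₁ H₂)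

theorem Hc_le_normalizer_derived (c : WCFCtx p Q Hc H₁ H₂) :
    Hc ≤ Subgroup.normalizer ((⁅H₁, H₁⁆ : Subgroup G) : Set G) :=
  le_trans (le_inf c.n₁ c.n₁) (normalizer_inf_normalizer_le_normalizer_commutator H₁ H₁)

theorem Hc_le_normalizer_P (c : WCFCtx p Q Hc H₁ H₂) :
    Hc ≤ Subgroup.normalizer ((pCoreOf p Hc : Subgroup G) : Set G) := le_normalizer_pCoreOf p Hc

theorem P_normal (c : WCFCtx p Q Hc H₁ H₂) : (pCoreOf p Hc).Normal := by
  rw [← Subgroup.normalizer_eq_top_iff]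
  exact top_le_iff.mp (c.top_le_normalizer.trans (normalizer_le_normalizer_pCoreOf p Hc))

/-- `[H₁,H₂]` is central in `Hc` modulo `O_p(Hc)` -/
theorem D_central (c : WCFCtx p Q Hc H₁ H₂) : ⁅⁅H₁, H₂⁆, Hc⁆ ≤ pCoreOf p Hc := by
  set D := ⁅H₁, H₂⁆ with hD
  set P := pCoreOf p Hc with hP
  have hDHc : D ≤ Hc := c.D_le
  have hHcD : Hc ≤ Subgroup.normalizer (D : Set G) := c.Hc_le_normalizer_D
  have hOp : pCoreOf p D ≤ P := pCoreOf_le_pCoreOf_of_le_normalizer hDHc hHcD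
  have key : ∀ k ∈ Hc, ⁅D, Q.map (MulAut.conj k).toMonoidHom⁆ ≤ P := by
    intro k hk
    set Qk := Q.map (MulAut.conj k).toMonoidHom with hQk
    have hQkHc : Qk ≤ Hc := map_conj_le_of_mem c.Q_le hk
    have hDQk : D ≤ Subgroup.normalizer (Qk : Set G) := by
      intro d hd
      rw [hQk, normalizer_map_conj, mem_map_conj]
      exact c.hcomm (conj_mem_of_mem_normalizer' (hHcD hk) hd)
    have h1 : ⁅D, Qk⁆ ≤ D ⊓ Qk :=
      le_inf (Subgroup.le_normalizer_iff_commutator_le_left.mp (hQkHc.trans hHcD))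
        (Subgroup.le_normalizer_iff_commutator_le_right.mp hDQk)
    have h2 : D ⊓ Qk ≤ pCoreOf p D := by
      apply le_pCoreOf inf_le_left
      · exact le_trans (le_inf Subgroup.le_normalizer hDQk) (normalizer_inf_le_normalizer_inf D Qk)
      · exact (isPGroup_map_conj c.hQp k).to_le inf_le_right
    exact h1.trans (h2.trans hOp)
  have h3 : Hc ≤ centMod Hc D P c.Hc_le_normalizer_P := by
    apply c.Hc_le
    intro k hk x hx
    rw [mem_centMod]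
    refine ⟨map_conj_le_of_mem c.Q_le hk hx, fun d hd => ?_⟩
    exact key k hk (Subgroup.commutator_mem_commutator hd hx)
  rw [Subgroup.commutator_le]
  intro d hd x hx
  exact ((mem_centMod.mp (h3 hx)).2 d hd)

/-- `[H₁,Q] ≤ H₁' [H₁,H₂]` -/
theorem commutator_Q_le (c : WCFCtx p Q Hc H₁ H₂) : ⁅H₁, Q⁆ ≤ ⁅H₁, H₁⁆ ⊔ ⁅H₁, H₂⁆ := by
  rw [Subgroup.commutator_le]
  intro h hh q hq
  have hq' : q ∈ ((H₁ ⊔ H₂ : Subgroup G) : Set G) := by rw [c.hprod]; exact c.Q_le hq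
  rw [Subgroup.coe_mul_of_right_le_normalizer_left H₁ H₂ (c.le₂.trans c.n₁)] at hq'
  obtain ⟨a, ha, b, hb, rfl⟩ := hq'
  rw [commutatorElement_mul_right_eq_mul_conj]
  have h1 : ⁅h, a⁆ ∈ ⁅H₁, H₁⁆ := Subgroup.commutator_mem_commutator hh ha
  have h2 : a * ⁅h, b⁆ * a⁻¹ ∈ ⁅H₁, H₂⁆ :=
    conj_mem_of_mem_normalizer (c.Hc_le_normalizer_D (c.le₁ ha))
      (Subgroup.commutator_mem_commutator hh hb)
  have h3 : ⁅h, a⁆ * a * ⁅h, b⁆ * a⁻¹ = ⁅h, a⁆ * (a * ⁅h, b⁆ * a⁻¹) := by group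
  rw [h3]
  exact Subgroup.mul_mem_sup h1 h2

/-- `K₁ ≤ H₁'` -/
theorem K_le_derived (c : WCFCtx p Q Hc H₁ H₂) : wcfK p Q H₁ ≤ ⁅H₁, H₁⁆ := by
  set K := wcfK p Q H₁ with hK
  set A := ⁅H₁, H₁⁆ with hA
  set D := ⁅H₁, H₂⁆ with hD
  have h1 : K ≤ A ⊔ D := (wcfK_le_commutator c.hQp c.hQ1 c.hwc c.QN₁).trans c.commutator_Q_le
  have hQA : Q ≤ Subgroup.normalizer (A : Set G) := c.Q_le.trans c.Hc_le_normalizer_derived
  have hDA : D ≤ Subgroup.normalizer (A : Set G) := c.D_le.trans c.Hc_le_normalizer_derived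
  have h2 : K ≤ A ⊔ ⁅D, Q⁆ :=
    calc K = ⁅K, Q⁆ := (wcfK_commutator c.hQp c.hQ1 c.hwc H₁).symm
      _ ≤ ⁅A ⊔ D, Q⁆ := Subgroup.commutator_mono h1 le_rfl
      _ ≤ A ⊔ ⁅D, Q⁆ := commutator_sup_le_sup_commutator hQA hDA
  have hT : ⁅D, Q⁆ ≤ Q := Subgroup.le_normalizer_iff_commutator_le_right.mp c.hcomm
  exact le_of_le_sup_pgroup (wcfK_idem Q H₁) h2 (hT.trans hQA) (c.hQp.to_le hT)

/-- `[K₁,K₂] ≤ O_p(Hc)` -/
theorem commutator_K_le (c : WCFCtx p Q Hc H₁ H₂) :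
    ⁅wcfK p Q H₁, wcfK p Q H₂⁆ ≤ pCoreOf p Hc := by
  haveI := c.P_normal
  have h1 : ⁅⁅H₁, H₁⁆, H₂⁆ ≤ pCoreOf p Hc := by
    apply comm_comm_le_of_rotate_mod
    · exact (Subgroup.commutator_mono le_rfl c.le₁).trans c.D_central
    · rw [Subgroup.commutator_comm H₂ H₁]
      exact (Subgroup.commutator_mono le_rfl c.le₁).trans c.D_central
  exact (Subgroup.commutator_mono c.K_le_derived
    (wcfK_le c.hQp c.hQ1 c.hwc c.symm.QN₁)).trans h1

/-- `Hc` normalizes `K₁` -/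
theorem Hc_le_normalizer_K (c : WCFCtx p Q Hc H₁ H₂) :
    Hc ≤ Subgroup.normalizer ((wcfK p Q H₁ : Subgroup G) : Set G) := by
  set K₁ := wcfK p Q H₁ with hK₁
  set K₂ := wcfK p Q H₂ with hK₂
  set D := ⁅H₁, H₂⁆ with hD
  set P := pCoreOf p Hc with hP
  have hK₁H : K₁ ≤ H₁ := wcfK_le c.hQp c.hQ1 c.hwc c.QN₁
  have hK₂H : K₂ ≤ H₂ := wcfK_le c.hQp c.hQ1 c.hwc c.symm.QN₁
  have hK₂n : K₂ ≤ Subgroup.normalizer (K₁ : Set G) := by
    set X := K₁ ⊔ (P ⊓ D) with hX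
    have hD_K₁ : D ≤ Subgroup.normalizer (K₁ : Set G) :=
      (le_inf (c.D_le.trans c.n₁) c.hcomm).trans
        (normalizer_inf_le_normalizer_wcfK c.hQp c.hQ1 c.hwc c.QN₁)
    have hXK : pPrimeClosure p X = K₁ := by
      apply le_antisymm
      · rw [hX, sup_comm]
        exact pPrimeClosure_sup_le (P ⊓ D) K₁ (inf_le_right.trans hD_K₁)
          ((pCoreOf_isPGroup p Hc).to_le inf_le_left)
      · have h1 := pPrimeClosure_mono p (le_sup_left : K₁ ≤ X)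
        rwa [hK₁, wcfK_idem] at h1
    have hK₂X : K₂ ≤ Subgroup.normalizer (X : Set G) := by
      intro k hk
      have hkHc : k ∈ Hc := c.le₂ (hK₂H hk)
      apply mem_normalizer_of_map_conj_le
      rw [hX, Subgroup.map_sup]
      apply sup_le
      · intro y hy
        rw [mem_map_conj] at hy
        have h1 : y = ⁅k, k⁻¹ * y * k⁆ * (k⁻¹ * y * k) := by
          rw [commutatorElement_def]; group
        rw [h1]
        have hc1 : ⁅k, k⁻¹ * y * k⁆ ∈ ⁅K₂, K₁⁆ := Subgroup.commutator_mem_commutator hk hy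
        rw [Subgroup.commutator_comm] at hc1
        have hcP : ⁅k, k⁻¹ * y * k⁆ ∈ P := c.commutator_K_le hc1
        have hcD : ⁅k, k⁻¹ * y * k⁆ ∈ D := Subgroup.commutator_mono hK₁H hK₂H hc1
        exact Subgroup.mul_mem _ (Subgroup.mem_sup_right ⟨hcP, hcD⟩) (Subgroup.mem_sup_left hy)
      · refine le_trans ?_ le_sup_right
        apply map_conj_le_of_mem_normalizer le_rfl
        exact normalizer_inf_le_normalizer_inf P D
          ⟨c.Hc_le_normalizer_P hkHc, c.Hc_le_normalizer_D hkHc⟩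
    have h2 := hK₂X.trans (normalizer_le_normalizer_pPrimeClosure p X)
    rwa [hXK] at h2
  have h3 : H₁ ⊔ H₂ ≤ Subgroup.normalizer (K₁ : Set G) := by
    apply sup_le
    · exact le_sup_left.trans (sup_le_normalizer_wcfK Q H₁)
    · refine (le_normalizer_sup_wcfK c.hQp c.hQ1 c.hwc c.symm.QN₁).trans (sup_le ?_ hK₂n)
      exact le_trans (le_inf (inf_le_left.trans (c.le₂.trans c.n₁)) inf_le_right)
        (normalizer_inf_le_normalizer_wcfK c.hQp c.hQ1 c.hwc c.QN₁)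
  rwa [c.hprod] at h3

/-- `K₁ = [K₁,H₁]` -/
theorem commutator_K_H (c : WCFCtx p Q Hc H₁ H₂) : ⁅wcfK p Q H₁, H₁⁆ = wcfK p Q H₁ := by
  set K := wcfK p Q H₁ with hK
  have hKn : Hc ≤ Subgroup.normalizer (K : Set G) := c.Hc_le_normalizer_K
  have hKH : K ≤ H₁ := wcfK_le c.hQp c.hQ1 c.hwc c.QN₁
  apply le_antisymm (Subgroup.le_normalizer_iff_commutator_le_left.mp (c.le₁.trans hKn))
  set R := ⁅K, H₁⁆ with hR
  set D₁ := ⁅K, H₂⁆ with hD₁
  have hHcR : Hc ≤ Subgroup.normalizer (R : Set G) :=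
    (le_inf hKn c.n₁).trans (normalizer_inf_normalizer_le_normalizer_commutator K H₁)
  have hHcD₁ : Hc ≤ Subgroup.normalizer (D₁ : Set G) :=
    (le_inf hKn c.n₂).trans (normalizer_inf_normalizer_le_normalizer_commutator K H₂)
  have hD₁D : D₁ ≤ ⁅H₁, H₂⁆ := Subgroup.commutator_mono hKH le_rfl
  have hD₁Hc : D₁ ≤ Hc := hD₁D.trans c.D_le
  have h1 : ⁅K, Q⁆ ≤ R ⊔ D₁ := by
    rw [Subgroup.commutator_le]
    intro k hk q hq
    have hq' : q ∈ ((H₁ ⊔ H₂ : Subgroup G) : Set G) := by rw [c.hprod]; exact c.Q_le hq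
    rw [Subgroup.coe_mul_of_right_le_normalizer_left H₁ H₂ (c.le₂.trans c.n₁)] at hq'
    obtain ⟨a, ha, b, hb, rfl⟩ := hq'
    rw [commutatorElement_mul_right_eq_mul_conj]
    have h1 : ⁅k, a⁆ ∈ R := Subgroup.commutator_mem_commutator hk ha
    have h2 : a * ⁅k, b⁆ * a⁻¹ ∈ D₁ :=
      conj_mem_of_mem_normalizer (hHcD₁ (c.le₁ ha)) (Subgroup.commutator_mem_commutator hk hb)
    have h3 : ⁅k, a⁆ * a * ⁅k, b⁆ * a⁻¹ = ⁅k, a⁆ * (a * ⁅k, b⁆ * a⁻¹) := by group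
    rw [h3]
    exact Subgroup.mul_mem_sup h1 h2
  have hKQ : ⁅K, Q⁆ = K := wcfK_commutator c.hQp c.hQ1 c.hwc H₁
  have h2 : K ≤ R ⊔ D₁ := hKQ.symm.le.trans h1
  have h3 : K ≤ R ⊔ ⁅D₁, Q⁆ :=
    calc K = ⁅K, Q⁆ := hKQ.symm
      _ ≤ ⁅R ⊔ D₁, Q⁆ := Subgroup.commutator_mono h2 le_rfl
      _ ≤ R ⊔ ⁅D₁, Q⁆ :=
        commutator_sup_le_sup_commutator (c.Q_le.trans hHcR) (hD₁Hc.trans hHcR)
  have hT : ⁅D₁, Q⁆ ≤ Q :=
    (Subgroup.commutator_mono hD₁D le_rfl).trans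
      (Subgroup.le_normalizer_iff_commutator_le_right.mp c.hcomm)
  exact le_of_le_sup_pgroup (wcfK_idem Q H₁) h3 (hT.trans (c.Q_le.trans hHcR)) (c.hQp.to_le hT)

/-- `O^p(Hc) = K₁ K₂` -/
theorem K_sup_K (c : WCFCtx p Q Hc H₁ H₂) :
    wcfK p Q H₁ ⊔ wcfK p Q H₂ = pPrimeClosure p Hc := by
  apply le_antisymm
  · apply sup_le
    · exact pPrimeClosure_mono p ((weakClosure_le_self _ _).trans (sup_le c.le₁ c.Q_le))
    · exact pPrimeClosure_mono p ((weakClosure_le_self _ _).trans (sup_le c.le₂ c.Q_le))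
  · set K₁ := wcfK p Q H₁ with hK₁
    set K₂ := wcfK p Q H₂ with hK₂
    set W := K₁ ⊔ K₂ with hW
    have hHcW : Hc ≤ Subgroup.normalizer (W : Set G) :=
      (le_inf c.Hc_le_normalizer_K c.symm.Hc_le_normalizer_K).trans
        (normalizer_inf_normalizer_le_normalizer_sup _ _)
    have hHcY : H₁ ⊔ H₂ ≤ Subgroup.normalizer ((W ⊔ Q : Subgroup G) : Set G) := by
      apply sup_le
      · refine (le_normalizer_sup_wcfK c.hQp c.hQ1 c.hwc c.QN₁).trans (sup_le ?_ ?_)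
        · exact (le_inf (inf_le_left.trans (c.le₁.trans hHcW)) inf_le_right).trans
            (normalizer_inf_normalizer_le_normalizer_sup W Q)
        · exact (le_sup_left.trans le_sup_left).trans Subgroup.le_normalizer
      · refine (le_normalizer_sup_wcfK c.hQp c.hQ1 c.hwc c.symm.QN₁).trans (sup_le ?_ ?_)
        · exact (le_inf (inf_le_left.trans (c.le₂.trans hHcW)) inf_le_right).trans
            (normalizer_inf_normalizer_le_normalizer_sup W Q)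
        · exact (le_sup_right.trans le_sup_left).trans Subgroup.le_normalizer
    rw [c.hprod] at hHcY
    have h1 : Hc ≤ W ⊔ Q := c.Hc_le_of_le_normalizer le_sup_right hHcY
    calc pPrimeClosure p Hc ≤ pPrimeClosure p (Q ⊔ W) :=
          pPrimeClosure_mono p (by rwa [sup_comm])
      _ ≤ W := pPrimeClosure_sup_le Q W (c.Q_le.trans hHcW) c.hQp

end WCFCtx

end Cfsg.Agent.Lib.Helper47
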