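import Cfsg.Agent.Lib.Helper47.PClosed
import Cfsg.Agent.Lib.Helper47.ElemAb
import Cfsg.Agent.Lib.Helper46.PReduced3

set_option autoImplicit false

namespace Cfsg.Agent.Lib.Helper47

open Cfsg
open scoped commutatorElement Pointwise

variable {G : Type*} [Group G]

theorem relIndex_sup_right_of_le_normalizer (T N : Subgroup G)
    (hLE : T ≤ Subgroup.normalizer (N : Set G)) : N.relIndex (T ⊔ N) = N.relIndex T := by
  letI := Subgroup.normal_subgroupOf_of_le_normalizer hLE
  letI := Subgroup.normal_subgroupOf_sup_of_le_normalizer hLE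
  exact Nat.card_congr (QuotientGroup.quotientInfEquivProdNormalizerQuotient T N hLE).toEquiv.symm

theorem relIndex_dvd_index_of_le_normalizer [Finite G] (T N : Subgroup G)
    (hLE : T ≤ Subgroup.normalizer (N : Set G)) : T.relIndex N ∣ T.index := by
  have h1 : (T ⊓ N).relIndex T * T.relIndex (T ⊔ N) = (T ⊓ N).relIndex (T ⊔ N) :=
    Subgroup.relIndex_mul_relIndex _ _ _ inf_le_left le_sup_left
  have h2 : (T ⊓ N).relIndex N * N.relIndex (T ⊔ N) = (T ⊓ N).relIndex (T ⊔ N) :=
    Subgroup.relIndex_mul_relIndex _ _ _ inf_le_right le_sup_right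
  rw [Subgroup.inf_relIndex_left] at h1
  rw [Subgroup.inf_relIndex_right, relIndex_sup_right_of_le_normalizer T N hLE] at h2
  have h3 : N.relIndex T ≠ 0 := Subgroup.index_ne_zero_of_finite
  have h4 : T.relIndex (T ⊔ N) = T.relIndex N := by
    have : N.relIndex T * T.relIndex (T ⊔ N) = N.relIndex T * T.relIndex N := by
      rw [h1, ← h2, mul_comm]
    exact Nat.eq_of_mul_eq_mul_left (Nat.pos_of_ne_zero h3) this
  rw [← h4]
  exact Subgroup.relIndex_dvd_index_of_le le_sup_left

/-- if the Sylow subgroup `T` normalizes `N`, then `T ∩ N` is a Sylow subgroup of `N` -/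
theorem exists_sylow_subgroupOf_of_le_normalizer [Finite G] {p : ℕ} [Fact p.Prime] (T : Sylow p G)
    (N : Subgroup G) (hLE : (T : Subgroup G) ≤ Subgroup.normalizer (N : Set G)) :
    ∃ P : Sylow p ↥N, (P : Subgroup ↥N) = (T : Subgroup G).subgroupOf N := by
  have hp : IsPGroup p ↥((T : Subgroup G).subgroupOf N) := T.isPGroup'.comap_subtype
  have hidx : ¬ p ∣ ((T : Subgroup G).subgroupOf N).index := by
    intro h
    have h1 : (T : Subgroup G).relIndex N ∣ (T : Subgroup G).index :=
      relIndex_dvd_index_of_le_normalizer _ N hLE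
    exact T.not_dvd_index (dvd_trans h h1)
  exact ⟨hp.toSylow hidx, rfl⟩

section YL

variable {L : Type*} [Group L] [Finite L] {p : ℕ} [Fact p.Prime]

/-- in a group of characteristic `p`, `Ω₁(Z(S)) ≤ Y_L` for every Sylow `p`-subgroup `S` -/
theorem omegaOne_center_sylow_le_largestPReduced
    (hL : Subgroup.centralizer (pCore p L : Set L) ≤ pCore p L) (S : Sylow p L) :
    omegaOne p ((S : Subgroup L) ⊓ Subgroup.centralizer ((S : Subgroup L) : Set L)) ≤
      largestPReduced p L := by
  set s : Set L := {x : L | x ∈ (S : Subgroup L) ⊓ Subgroup.centralizer ((S : Subgroup L) : Set L) ∧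
    x ^ p = 1} with hs
  set X' : Subgroup L := omegaOne p ((S : Subgroup L) ⊓ Subgroup.centralizer ((S : Subgroup L) : Set L))
    with hX'
  have hX'def : X' = Subgroup.closure s := rfl
  have hscomm : ∀ x ∈ s, ∀ y ∈ s, x * y = y * x := by
    rintro x ⟨hx, _⟩ y ⟨hy, _⟩
    exact (Subgroup.mem_centralizer_iff.mp hy.2 x hx.1)
  have hsp : ∀ x ∈ s, x ^ p = 1 := fun x hx => hx.2
  have hcoreS : pCore p L ≤ (S : Subgroup L) := pCore_le_sylow S
  have hXQ : X' ≤ pCore p L ⊓ Subgroup.centralizer (pCore p L : Set L) := by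
    rw [hX'def, Subgroup.closure_le]
    rintro x ⟨hx, _⟩
    have h1 : x ∈ Subgroup.centralizer (pCore p L : Set L) :=
      Subgroup.centralizer_le (by exact_mod_cast hcoreS) hx.2
    exact ⟨hL h1, h1⟩
  have hXp : ∀ a ∈ X', a ^ p = 1 := by
    intro a ha
    rw [hX'def] at ha
    exact pow_eq_one_of_mem_closure hscomm hsp a ha
  have hXS : X' ≤ Subgroup.centralizer ((S : Subgroup L) : Set L) := by
    rw [hX'def, Subgroup.closure_le]
    rintro x ⟨hx, _⟩
    exact hx.2
  have hSX : (S : Subgroup L) ≤ Subgroup.centralizer (X' : Set L) :=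
    Subgroup.le_centralizer_iff.mp hXS
  have hred : IsPReducedNormal p (Subgroup.normalClosure (X' : Set L)) := by
    apply Cfsg.Agent.Lib.Helper46.pReduced_normalClosure_of S X' hXQ hXp
    intro D _ _ _
    exact inf_le_right.trans hSX
  have h1 : Subgroup.normalClosure (X' : Set L) ≤ largestPReduced p L := le_sSup hred
  exact Subgroup.le_normalClosure.trans h1

/-- `Y_L ≤ O_p(L)` -/
theorem largestPReduced_le_pCore : largestPReduced p L ≤ pCore p L :=
  le_pCore (largestPReduced_normal p L)
    (Cfsg.Agent.Lib.Helper46.isPGroup_of_elemAb (largestPReduced_isPReducedNormal p L).2.1)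

/-- `O_p(L)` centralizes `Y_L` -/
theorem pCore_le_centralizer_largestPReduced :
    pCore p L ≤ Subgroup.centralizer ((largestPReduced p L : Subgroup L) : Set L) :=
  Cfsg.Agent.Lib.Helper46.normal_pGroup_le_centralizer (largestPReduced_isPReducedNormal p L)
    (pCore p L) inferInstance (pCore_isPGroup p L)

end YL

end Cfsg.Agent.Lib.Helper47
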