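import Cfsg.Agent.Lib.Helper47.YL

set_option autoImplicit false

namespace Cfsg.Agent.Lib.Helper47

open Cfsg
open scoped commutatorElement Pointwise

variable {G : Type*} [Group G]

theorem mem_centralizer_map_subtype_iff (M : Subgroup G) (Y' : Subgroup ↥M) (x : ↥M) :
    x ∈ Subgroup.centralizer (Y' : Set ↥M) ↔
      (x : G) ∈ Subgroup.centralizer ((Y'.map M.subtype : Subgroup G) : Set G) := by
  rw [Subgroup.mem_centralizer_iff, Subgroup.mem_centralizer_iff]
  constructor
  · rintro h y ⟨y', hy', rfl⟩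
    have := h y' hy'
    have h2 := congrArg (fun w : ↥M => (w : G)) this
    simpa using h2
  · intro h y' hy'
    apply Subtype.ext
    have := h (y' : G) ⟨y', hy', rfl⟩
    simpa using this

theorem mem_centralizer_subgroupOf_iff {Y L : Subgroup G} (hYL : Y ≤ L) (x : ↥L) :
    x ∈ Subgroup.centralizer ((Y.subgroupOf L : Subgroup ↥L) : Set ↥L) ↔
      (x : G) ∈ Subgroup.centralizer (Y : Set G) := by
  rw [mem_centralizer_map_subtype_iff, Subgroup.map_subgroupOf_eq_of_le hYL]

/-- internal form of `p`-reducedness: normal subgroups of `M` that are `p`-groups modulo `C(Y)`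
centralize `Y` -/
def PRedInternal (p : ℕ) (Y M : Subgroup G) : Prop :=
  ∀ D₀ : Subgroup G, D₀ ≤ M → M ≤ Subgroup.normalizer (D₀ : Set G) →
    (∀ d ∈ D₀, ∃ k : ℕ, d ^ (p ^ k) ∈ Subgroup.centralizer (Y : Set G)) →
    D₀ ≤ Subgroup.centralizer (Y : Set G)

theorem pRedInternal_of_isPReducedNormal {p : ℕ} (M : Subgroup G) (Y' : Subgroup ↥M)
    (hY' : IsPReducedNormal p Y') : PRedInternal p (Y'.map M.subtype) M := by
  intro D₀ hD₀M hMD₀ hD₀p
  obtain ⟨_, _, hCn, hcore⟩ := hY'
  have hDn : (D₀.subgroupOf M).Normal := Subgroup.normal_subgroupOf_of_le_normalizer hMD₀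
  have h1 : D₀.subgroupOf M ≤ Subgroup.centralizer (Y' : Set ↥M) := by
    apply Cfsg.Agent.Lib.Helper46.le_of_pCore_quot_eq_bot _ hcore _ hDn
    intro d hd
    obtain ⟨k, hk⟩ := hD₀p (d : G) (Subgroup.mem_subgroupOf.mp hd)
    refine ⟨k, ?_⟩
    rw [mem_centralizer_map_subtype_iff]
    simpa using hk
  intro d hd
  have := h1 (show (⟨d, hD₀M hd⟩ : ↥M) ∈ D₀.subgroupOf M from Subgroup.mem_subgroupOf.mpr hd)
  rw [mem_centralizer_map_subtype_iff] at this
  exact this

theorem isPReducedNormal_subgroupOf_of_pRedInternal {p : ℕ} {Y L : Subgroup G} (hYL : Y ≤ L)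
    (hLY : L ≤ Subgroup.normalizer (Y : Set G))
    (hcomm : ∀ a ∈ Y, ∀ b ∈ Y, a * b = b * a) (hexp : ∀ a ∈ Y, a ^ p = 1)
    (h : PRedInternal p Y L) : IsPReducedNormal p (Y.subgroupOf L) := by
  have hVn : (Y.subgroupOf L).Normal := Subgroup.normal_subgroupOf_of_le_normalizer hLY
  refine ⟨hVn, ⟨?_, ?_⟩, ?_⟩
  · rw [isMulCommutative_iff]
    intro a b
    apply Subtype.ext
    apply Subtype.ext
    have := hcomm (a : ↥L) (Subgroup.mem_subgroupOf.mp a.2) (b : ↥L) (Subgroup.mem_subgroupOf.mp b.2)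
    simpa using this
  · intro a ha
    apply Subtype.ext
    have := hexp (a : G) (Subgroup.mem_subgroupOf.mp ha)
    simpa using this
  · have hCn : (Subgroup.centralizer ((Y.subgroupOf L : Subgroup ↥L) : Set ↥L)).Normal :=
      Subgroup.normal_centralizer
    refine ⟨hCn, ?_⟩
    apply Cfsg.Agent.Lib.Helper46.pCore_quot_eq_bot_of
    intro D hD _ hDp
    have hD'L : D.map L.subtype ≤ L := Subgroup.map_subtype_le _
    have hLD' : L ≤ Subgroup.normalizer ((D.map L.subtype : Subgroup G) : Set G) :=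
      le_normalizer_map_subtype_of_normal L D
    have h1 := h (D.map L.subtype) hD'L hLD' (by
      rintro d ⟨d', hd', rfl⟩
      obtain ⟨k, hk⟩ := hDp d' hd'
      refine ⟨k, ?_⟩
      rw [mem_centralizer_subgroupOf_iff hYL] at hk
      simpa using hk)
    intro d hd
    rw [mem_centralizer_subgroupOf_iff hYL]
    exact h1 ⟨d, hd, rfl⟩

/-- transfer of internal `p`-reducedness along `L C(Y) = M C(Y)` -/
theorem pRedInternal_of_sup_eq {p : ℕ} {Y M L : Subgroup G}
    (hMY : M ≤ Subgroup.normalizer (Y : Set G))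
    (hsup : L ⊔ Subgroup.centralizer (Y : Set G) = M ⊔ Subgroup.centralizer (Y : Set G))
    (h : PRedInternal p Y M) : PRedInternal p Y L := by
  set C := Subgroup.centralizer (Y : Set G) with hC
  have hYC : Subgroup.normalizer (Y : Set G) ≤ Subgroup.normalizer (C : Set G) :=
    normalizer_le_normalizer_centralizer Y
  have hMC : M ≤ Subgroup.normalizer (C : Set G) := hMY.trans hYC
  have hsupC : M ⊔ C ≤ Subgroup.normalizer (C : Set G) := sup_le hMC Subgroup.le_normalizer
  have hLC : L ≤ Subgroup.normalizer (C : Set G) := by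
    have : L ≤ M ⊔ C := by rw [← hsup]; exact le_sup_left
    exact this.trans hsupC
  intro D' hD'L hLD' hD'p
  set E := D' ⊔ C with hE
  have hD'C : D' ≤ Subgroup.normalizer (C : Set G) := hD'L.trans hLC
  -- L ⊔ C normalizes E
  have hLE : L ≤ Subgroup.normalizer (E : Set G) :=
    (le_inf hLD' hLC).trans (normalizer_inf_le_normalizer_sup D' C)
  have hCE : C ≤ Subgroup.normalizer (E : Set G) := (le_sup_right : C ≤ E).trans Subgroup.le_normalizer
  have hME : M ≤ Subgroup.normalizer (E : Set G) := by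
    have : M ≤ L ⊔ C := by rw [hsup]; exact le_sup_left
    exact this.trans (sup_le hLE hCE)
  set D₀ := E ⊓ M with hD₀
  have hMD₀ : M ≤ Subgroup.normalizer (D₀ : Set G) :=
    (le_inf hME Subgroup.le_normalizer).trans (normalizer_inf_le_normalizer_inf E M)
  have hD₀p : ∀ e ∈ D₀, ∃ k : ℕ, e ^ (p ^ k) ∈ C := by
    intro e he
    have he' : e ∈ ((D' ⊔ C : Subgroup G) : Set G) := he.1
    rw [Subgroup.coe_mul_of_left_le_normalizer_right D' C hD'C] at he'
    obtain ⟨d, hd, c, hc, rfl⟩ := he'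
    obtain ⟨k, hk⟩ := hD'p d hd
    obtain ⟨c', hc', hpow⟩ := mul_pow_eq_of_mem_normalizer (hD'C hd) hc (p ^ k)
    refine ⟨k, ?_⟩
    show (d * c) ^ (p ^ k) ∈ C
    rw [hpow]
    exact C.mul_mem hk hc'
  have hD₀C : D₀ ≤ C := h D₀ inf_le_right hMD₀ hD₀p
  intro d hd
  have hdM : d ∈ ((M ⊔ C : Subgroup G) : Set G) := by
    rw [← hsup]; exact Subgroup.mem_sup_left (hD'L hd)
  rw [Subgroup.coe_mul_of_left_le_normalizer_right M C hMC] at hdM
  obtain ⟨m, hm, c, hc, hmc⟩ := hdM
  have hmc' : m * c = d := hmc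
  have hm' : m = d * c⁻¹ := by rw [← hmc']; group
  have hmE : m ∈ E := by
    rw [hm']
    exact Subgroup.mul_mem _ (Subgroup.mem_sup_left hd) (Subgroup.mem_sup_right (C.inv_mem hc))
  have hmC : m ∈ C := hD₀C ⟨hmE, hm⟩
  rw [← hmc']
  exact C.mul_mem hmC hc

end Cfsg.Agent.Lib.Helper47
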