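import Cfsg.Agent.Lib.Helper47.YL2
import Cfsg.Agent.Lib.Helper46.Trace
import Cfsg.Agent.S2821

set_option autoImplicit false

namespace Cfsg.Agent.Lib.Helper47

open Cfsg
open scoped commutatorElement Pointwise

variable {G : Type*} [Group G]

/-- generators of `Ω₁(Z(S))`, `S` a Sylow subgroup of `L`, lie in `Z_L` -/
theorem mem_sylowCenterClosure {p : ℕ} {L : Subgroup G} (S : Sylow p ↥L) {u : G}
    (huS : u ∈ (S : Subgroup ↥L).map L.subtype)
    (huC : u ∈ Subgroup.centralizer (((S : Subgroup ↥L).map L.subtype : Subgroup G) : Set G))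
    (hup : u ^ p = 1) : u ∈ sylowCenterClosure p L := by
  unfold sylowCenterClosure
  have h1 := le_iSup (fun S : Sylow p ↥L => omegaOne p (((S : Subgroup ↥L).map L.subtype) ⊓
    Subgroup.centralizer (((S : Subgroup ↥L).map L.subtype : Subgroup G) : Set G))) S
  apply h1
  exact Subgroup.subset_closure ⟨⟨huS, huC⟩, hup⟩

/-- to bound `Z_L` it suffices to bound the generators -/
theorem sylowCenterClosure_le {p : ℕ} {L W : Subgroup G}
    (h : ∀ (S : Sylow p ↥L) (u : G), u ∈ (S : Subgroup ↥L).map L.subtype →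
      u ∈ Subgroup.centralizer (((S : Subgroup ↥L).map L.subtype : Subgroup G) : Set G) →
      u ^ p = 1 → u ∈ W) : sylowCenterClosure p L ≤ W := by
  unfold sylowCenterClosure
  apply iSup_le
  intro S
  unfold omegaOne
  rw [Subgroup.closure_le]
  rintro u ⟨⟨h1, h2⟩, h3⟩
  exact h S u h1 h2 h3

theorem sylowCenterClosure_le_self (p : ℕ) (L : Subgroup G) : sylowCenterClosure p L ≤ L :=
  sylowCenterClosure_le (fun _ _ hu _ _ => Subgroup.map_subtype_le _ hu)

/-- `L` normalizes `Z_L` -/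
theorem le_normalizer_sylowCenterClosure [Finite G] (p : ℕ) [Fact p.Prime] (L : Subgroup G) :
    L ≤ Subgroup.normalizer ((sylowCenterClosure p L : Subgroup G) : Set G) := by
  intro l hl
  apply mem_normalizer_of_map_conj_le
  rw [Subgroup.map_le_iff_le_comap]
  apply sylowCenterClosure_le
  intro S u huS huC hup
  rw [Subgroup.mem_comap]
  show l * u * l⁻¹ ∈ sylowCenterClosure p L
  obtain ⟨s, hs, rfl⟩ := huS
  set l' : ↥L := ⟨l, hl⟩ with hl'
  have hS' : ((l' • S : Sylow p ↥L) : Subgroup ↥L) =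
      (S : Subgroup ↥L).map (MulAut.conj l').toMonoidHom := rfl
  apply mem_sylowCenterClosure (l' • S)
  · rw [hS']
    exact ⟨l' * s * l'⁻¹, conj_mem_map_conj l' hs, rfl⟩
  · rw [hS', Subgroup.mem_centralizer_iff]
    rintro y ⟨y', hy', rfl⟩
    have hy'' : y' ∈ (S : Subgroup ↥L).map (MulAut.conj l').toMonoidHom := hy'
    rw [mem_map_conj] at hy''
    have hy' := hy''
    have h1 := (Subgroup.mem_centralizer_iff.mp huC) ((l'⁻¹ * y' * l' : ↥L) : G) ⟨_, hy', rfl⟩
    have h2 : ((l'⁻¹ * y' * l' : ↥L) : G) = l⁻¹ * (y' : G) * l := rfl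
    rw [h2] at h1
    show (y' : G) * (l * (s : G) * l⁻¹) = l * (s : G) * l⁻¹ * (y' : G)
    have h3 : (y' : G) * (l * (s : G) * l⁻¹) = l * ((l⁻¹ * (y' : G) * l) * (s : G)) * l⁻¹ := by group
    have h4 : l * (s : G) * l⁻¹ * (y' : G) = l * ((s : G) * (l⁻¹ * (y' : G) * l)) * l⁻¹ := by group
    rw [h3, h4]
    exact congrArg (fun z => l * z * l⁻¹) h1
  · show (l * (s : G) * l⁻¹) ^ p = 1
    rw [conj_pow]
    have : ((s : ↥L) : G) ^ p = 1 := hup
    rw [this]; group

end Cfsg.Agent.Lib.Helper47
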